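import Cfsg.Agent.H0.J.MS

/-! Generated: facts on the split centralizer. -/

set_option maxRecDepth 100000
set_option maxHeartbeats 4000000
set_option linter.unusedVariables false

open Subgroup
open scoped commutatorElement
namespace H0.J
open H0.PM H16 H19

noncomputable def sp_F0_t0 : ST := (.node (nat_lit 22) (.node (nat_lit 9) (.node (nat_lit 6) (.leaf (nat_lit 128)) (.leaf (nat_lit 161))) (.node (nat_lit 11) (.leaf (nat_lit 0)) (.node (nat_lit 17) (.leaf (nat_lit 129)) (.leaf (nat_lit 1))))) (.node (nat_lit 25) (.node (nat_lit 24) (.leaf (nat_lit 1280)) (.leaf (nat_lit 640))) (.node (nat_lit 26) (.leaf (nat_lit 160)) (.node (nat_lit 29) (.leaf (nat_lit 1281)) (.leaf (nat_lit 641))))))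
noncomputable def sp_F0_F : Fm := (.allS sp_lQ (.imp (.eq (.mul (.v (nat_lit 0)) (.v (nat_lit 0))) .one) (.or (.qf (.eq (.v (nat_lit 0)) .one)) (.or (.qf (.eq (.v (nat_lit 0)) (.v (nat_lit 7)))) (.exF sp_L (fun cs => sp_F0_t0.find (Nat.mod (nth (nat_lit 0) cs (nat_lit 0)) (nat_lit 37))) (.qf (.eq (.mul (.mul (.v (nat_lit 0)) (.v (nat_lit 1))) (.inv (.v (nat_lit 0)))) (.v (nat_lit 2)))))))))
theorem sp_F0_chk : Fm.chk sp_o sp_F0_F sp_cs2 = true := by decide +kernel
theorem sp_F0 {G : Type*} [Group G] {R : ℕ → G → Prop} {s x r a t z b : G} {H Q B : Subgroup G}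
    (M : JH sp_o sp_cs2 sp_L sp_lQ sp_lB R s x r a t z b H Q B) :
    ∀ y ∈ Q, y * y = 1 → y = 1 ∨ y = z ∨ (∃ h ∈ H, h * y * h⁻¹ = s) :=
  have h : ∀ y, InS R sp_lQ y → y * y = 1 → y = 1 ∨ y = z ∨ (Good sp_o R sp_L → prods sp_o sp_L sp_o.one ≠ [] → ∃ h, InL sp_o R sp_L h ∧ h * y * h⁻¹ = s) :=
    Fm.sound M.μ sp_F0_F sp_F0_chk M.reps
  (fun y h0 => (fun h1 => (Or.imp (fun h2 => h2) (fun h2 => (Or.imp (fun h3 => h3) (fun h3 => (Exists.imp (fun h h4 => ⟨M.H.iff.1 h4.1, h4.2⟩) (h3 M.H.good M.H.ne))) h2)) ((h y (M.Q.iff.2 h0)) h1))))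
noncomputable def sp_F1_F : Fm := (.qf (.and (.mem (.v (nat_lit 0)) sp_lQ) (.and (.mem (.v (nat_lit 5)) sp_lQ) (.and (.mem (.v (nat_lit 1)) sp_lB) (.and (.mem (.v (nat_lit 4)) sp_lB) (.and (.mem (.v (nat_lit 7)) sp_lB) (.and (.not (.eq (.v (nat_lit 0)) (.v (nat_lit 6)))) (.and (.eq (.mul (.mul (.v (nat_lit 5)) (.v (nat_lit 0))) (.inv (.v (nat_lit 5)))) (.mul (.v (nat_lit 6)) (.v (nat_lit 0)))) (.and (.eq (.pw (.v (nat_lit 1)) (nat_lit 3)) .one) (.not (.eq (.v (nat_lit 1)) .one)))))))))))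
theorem sp_F1_chk : Fm.chk sp_o sp_F1_F sp_cs2 = true := by decide +kernel
theorem sp_F1 {G : Type*} [Group G] {R : ℕ → G → Prop} {s x r a t z b : G} {H Q B : Subgroup G}
    (M : JH sp_o sp_cs2 sp_L sp_lQ sp_lB R s x r a t z b H Q B) :
    s ∈ Q ∧ t ∈ Q ∧ x ∈ B ∧ a ∈ B ∧ b ∈ B ∧ s ≠ z ∧ t * s * t⁻¹ = z * s ∧ x ^ 3 = 1 ∧ x ≠ 1 :=
  have h : InS R sp_lQ (s) ∧ InS R sp_lQ (t) ∧ InS R sp_lB (x) ∧ InS R sp_lB (a) ∧ InS R sp_lB (b) ∧ s ≠ z ∧ t * s * t⁻¹ = z * s ∧ x ^ 3 = 1 ∧ x ≠ 1 :=
    Fm.sound M.μ sp_F1_F sp_F1_chk M.reps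
  ((and_congr M.Q.iff (and_congr M.Q.iff (and_congr M.B.iff (and_congr M.B.iff (and_congr M.B.iff Iff.rfl))))).1 h)
noncomputable def sp_F2_t0 : ST := (.node (nat_lit 114) (.node (nat_lit 49) (.node (nat_lit 22) (.node (nat_lit 11) (.leaf (nat_lit 0)) (.node (nat_lit 16) (.leaf (nat_lit 5)) (.leaf (nat_lit 4)))) (.node (nat_lit 40) (.node (nat_lit 28) (.leaf (nat_lit 106)) (.leaf (nat_lit 63))) (.node (nat_lit 48) (.leaf (nat_lit 45)) (.leaf (nat_lit 65))))) (.node (nat_lit 72) (.node (nat_lit 69) (.leaf (nat_lit 111)) (.node (nat_lit 70) (.leaf (nat_lit 45)) (.leaf (nat_lit 63)))) (.node (nat_lit 100) (.node (nat_lit 83) (.leaf (nat_lit 60)) (.leaf (nat_lit 62))) (.node (nat_lit 109) (.leaf (nat_lit 0)) (.leaf (nat_lit 66)))))) (.node (nat_lit 149) (.node (nat_lit 131) (.node (nat_lit 121) (.leaf (nat_lit 51)) (.node (nat_lit 124) (.leaf (nat_lit 59)) (.leaf (nat_lit 101)))) (.node (nat_lit 135) (.node (nat_lit 132) (.leaf (nat_lit 51)) (.leaf (nat_lit 65)))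 (.node (nat_lit 139) (.leaf (nat_lit 3)) (.leaf (nat_lit 4))))) (.node (nat_lit 182) (.node (nat_lit 153) (.node (nat_lit 151) (.leaf (nat_lit 101)) (.leaf (nat_lit 66))) (.node (nat_lit 163) (.leaf (nat_lit 44)) (.leaf (nat_lit 62)))) (.node (nat_lit 194) (.node (nat_lit 184) (.leaf (nat_lit 60)) (.leaf (nat_lit 5))) (.node (nat_lit 199) (.leaf (nat_lit 59)) (.leaf (nat_lit 44)))))))
noncomputable def sp_F2_F : Fm := (.allS sp_lB (.imp (.eq (.pw (.v (nat_lit 0)) (nat_lit 3)) .one) (.or (.qf (.eq (.v (nat_lit 0)) .one)) (.exG sp_lB (fun cs => sp_F2_t0.find (Nat.mod (nth (nat_lit 0) cs (nat_lit 0)) (nat_lit 211))) (.qf (.or (.eq (.mul (.mul (.v (nat_lit 0)) (.v (nat_lit 1))) (.inv (.v (nat_lit 0)))) (.v (nat_lit 3))) (.eq (.mul (.mul (.v (nat_lit 0)) (.v (nat_lit 1))) (.inv (.v (nat_lit 0)))) (.v (nat_lit 4)))))))))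
theorem sp_F2_chk : Fm.chk sp_o sp_F2_F sp_cs2 = true := by decide +kernel
theorem sp_F2 {G : Type*} [Group G] {R : ℕ → G → Prop} {s x r a t z b : G} {H Q B : Subgroup G}
    (M : JH sp_o sp_cs2 sp_L sp_lQ sp_lB R s x r a t z b H Q B) :
    ∀ y ∈ B, y ^ 3 = 1 → y = 1 ∨ (∃ h ∈ B, h * y * h⁻¹ = x ∨ h * y * h⁻¹ = x⁻¹) :=
  have h : ∀ y, InS R sp_lB y → y ^ 3 = 1 → y = 1 ∨ (GoodS R sp_lB → sp_lB ≠ [] → ∃ h, InS R sp_lB h ∧ (h * y * h⁻¹ = x ∨ h * y * h⁻¹ = x⁻¹)) :=
    Fm.sound M.μ sp_F2_F sp_F2_chk M.reps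
  (fun y h0 => (fun h1 => (Or.imp (fun h2 => h2) (fun h2 => (Exists.imp (fun h h3 => ⟨M.B.iff.1 h3.1, h3.2⟩) (h2 M.B.good M.B.ne))) ((h y (M.B.iff.2 h0)) h1))))
noncomputable def sp_F3a_F : Fm := (.qf (.and (.eq (.mul (.v (nat_lit 4)) (.v (nat_lit 4))) .one) (.and (.eq (.mul (.mul (.v (nat_lit 4)) (.mul (.mul (.v (nat_lit 1)) (.v (nat_lit 4))) (.v (nat_lit 2)))) (.mul (.mul (.v (nat_lit 2)) (.v (nat_lit 4))) (.v (nat_lit 1)))) .one) (.and (.eq (.mul (.v (nat_lit 7)) (.v (nat_lit 7))) .one) (.and (.eq (.mul (.mul (.v (nat_lit 7)) (.mul (.mul (.v (nat_lit 1)) (.v (nat_lit 7))) (.v (nat_lit 2)))) (.mul (.mul (.v (nat_lit 2)) (.v (nat_lit 7))) (.v (nat_lit 1)))) .one) (.and (.eq (.mul (.mul (.mul (.v (nat_lit 4)) (.v (nat_lit 7))) (.inv (.v (nat_lit 4)))) (.inv (.v (nat_lit 7)))) (.v (nat_lit 6))) (.eq (.mul (.mul (.mul (.v (nat_lit 4)) (.mul (.mul (.v (nat_lit 1)) (.v (nat_lit 7))) (.v (nat_lit 2)))) (.inv (.v (nat_lit 4)))) (.inv (.mul (.mul (.v (nat_lit 1)) (.v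 (nat_lit 7))) (.v (nat_lit 2))))) (.mul (.v (nat_lit 6)) (.v (nat_lit 0))))))))))
theorem sp_F3a_chk : Fm.chk sp_o sp_F3a_F sp_cs2 = true := by decide +kernel
theorem sp_F3a {G : Type*} [Group G] {R : ℕ → G → Prop} {s x r a t z b : G} {H Q B : Subgroup G}
    (M : JH sp_o sp_cs2 sp_L sp_lQ sp_lB R s x r a t z b H Q B) :
    a * a = 1 ∧ a * (x * a * x⁻¹) * (x⁻¹ * a * x) = 1 ∧ b * b = 1 ∧ b * (x * b * x⁻¹) * (x⁻¹ * b * x) = 1 ∧ ⁅a, b⁆ = z ∧ ⁅a, x * b * x⁻¹⁆ = z * s :=
  Fm.sound M.μ sp_F3a_F sp_F3a_chk M.reps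
noncomputable def sp_F3_F : Fm := (.allS sp_lB (.imp (.eq (.mul (.v (nat_lit 0)) (.v (nat_lit 0))) .one) (.imp (.eq (.mul (.mul (.v (nat_lit 0)) (.mul (.mul (.v (nat_lit 2)) (.v (nat_lit 0))) (.v (nat_lit 3)))) (.mul (.mul (.v (nat_lit 3)) (.v (nat_lit 0))) (.v (nat_lit 2)))) .one) (.allS sp_lB (.imp (.eq (.mul (.v (nat_lit 0)) (.v (nat_lit 0))) .one) (.imp (.eq (.mul (.mul (.v (nat_lit 0)) (.mul (.mul (.v (nat_lit 3)) (.v (nat_lit 0))) (.v (nat_lit 4)))) (.mul (.mul (.v (nat_lit 4)) (.v (nat_lit 0))) (.v (nat_lit 3)))) .one) (.imp (.eq (.mul (.mul (.mul (.v (nat_lit 1)) (.v (nat_lit 0))) (.inv (.v (nat_lit 1)))) (.inv (.v (nat_lit 0)))) (.v (nat_lit 2))) (.imp (.eq (.mul (.mul (.mul (.v (nat_lit 1)) (.mul (.mul (.v (nat_lit 3)) (.v (nat_lit 0))) (.v (nat_lit 4)))) (.inv (.v (nat_lit 1)))) (.inv (.mul (.mul (.v (nat_lit 3)) (.v (nat_lit 0))) (.v (nat_lit 4))))) (.v (nat_lit 8))) (.qf (.or (.and (.eq (.v (nat_lit 1)) (.mul (.mul (.v (nat_lit 4)) (.v (nat_lit 6)))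 (.v (nat_lit 3)))) (.eq (.v (nat_lit 0)) (.mul (.mul (.v (nat_lit 3)) (.v (nat_lit 9))) (.v (nat_lit 4))))) (.or (.and (.eq (.mul (.mul (.v (nat_lit 3)) (.v (nat_lit 1))) (.v (nat_lit 4))) (.mul (.mul (.v (nat_lit 4)) (.v (nat_lit 6))) (.v (nat_lit 3)))) (.eq (.mul (.mul (.v (nat_lit 3)) (.v (nat_lit 0))) (.v (nat_lit 4))) (.mul (.mul (.v (nat_lit 3)) (.v (nat_lit 9))) (.v (nat_lit 4))))) (.and (.eq (.mul (.mul (.v (nat_lit 4)) (.v (nat_lit 1))) (.v (nat_lit 3))) (.mul (.mul (.v (nat_lit 4)) (.v (nat_lit 6))) (.v (nat_lit 3)))) (.eq (.mul (.mul (.v (nat_lit 4)) (.v (nat_lit 0))) (.v (nat_lit 3))) (.mul (.mul (.v (nat_lit 3)) (.v (nat_lit 9))) (.v (nat_lit 4))))))))))))))))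
theorem sp_F3_chk : Fm.chk sp_o sp_F3_F sp_cs2 = true := by decide +kernel
theorem sp_F3 {G : Type*} [Group G] {R : ℕ → G → Prop} {s x r a t z b : G} {H Q B : Subgroup G}
    (M : JH sp_o sp_cs2 sp_L sp_lQ sp_lB R s x r a t z b H Q B) :
    ∀ u ∈ B, u * u = 1 → u * (x * u * x⁻¹) * (x⁻¹ * u * x) = 1 → (∀ v ∈ B, v * v = 1 → v * (x * v * x⁻¹) * (x⁻¹ * v * x) = 1 → ⁅u, v⁆ = s → ⁅u, x * v * x⁻¹⁆ = z → u = x⁻¹ * a * x ∧ v = x * b * x⁻¹ ∨ x * u * x⁻¹ = x⁻¹ * a * x ∧ x * v * x⁻¹ = x * b * x⁻¹ ∨ x⁻¹ * u * x = x⁻¹ * a * x ∧ x⁻¹ * v * x = x * b * x⁻¹) :=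
  have h : ∀ u, InS R sp_lB u → u * u = 1 → u * (x * u * x⁻¹) * (x⁻¹ * u * x) = 1 → (∀ v, InS R sp_lB v → v * v = 1 → v * (x * v * x⁻¹) * (x⁻¹ * v * x) = 1 → ⁅u, v⁆ = s → ⁅u, x * v * x⁻¹⁆ = z → u = x⁻¹ * a * x ∧ v = x * b * x⁻¹ ∨ x * u * x⁻¹ = x⁻¹ * a * x ∧ x * v * x⁻¹ = x * b * x⁻¹ ∨ x⁻¹ * u * x = x⁻¹ * a * x ∧ x⁻¹ * v * x = x * b * x⁻¹) :=
    Fm.sound M.μ sp_F3_F sp_F3_chk M.reps
  (fun u h0 => (fun h1 => (fun h2 => (fun v h3 => ((((h u (M.B.iff.2 h0)) h1) h2) v (M.B.iff.2 h3))))))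
noncomputable def sp_F4_F : Fm := (.allS sp_lB (.imp (.eq (.mul (.v (nat_lit 0)) (.v (nat_lit 5))) (.mul (.v (nat_lit 5)) (.v (nat_lit 0)))) (.imp (.eq (.mul (.v (nat_lit 0)) (.v (nat_lit 8))) (.mul (.v (nat_lit 8)) (.v (nat_lit 0)))) (.imp (.eq (.mul (.v (nat_lit 0)) (.v (nat_lit 2))) (.mul (.v (nat_lit 2)) (.v (nat_lit 0)))) (.qf (.or (.eq (.v (nat_lit 0)) .one) (.or (.eq (.v (nat_lit 0)) (.v (nat_lit 7))) (.or (.eq (.v (nat_lit 0)) (.v (nat_lit 1))) (.eq (.v (nat_lit 0)) (.mul (.v (nat_lit 7)) (.v (nat_lit 1))))))))))))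
theorem sp_F4_chk : Fm.chk sp_o sp_F4_F sp_cs2 = true := by decide +kernel
theorem sp_F4 {G : Type*} [Group G] {R : ℕ → G → Prop} {s x r a t z b : G} {H Q B : Subgroup G}
    (M : JH sp_o sp_cs2 sp_L sp_lQ sp_lB R s x r a t z b H Q B) :
    ∀ y ∈ B, y * a = a * y → y * b = b * y → y * x = x * y → y = 1 ∨ y = z ∨ y = s ∨ y = z * s :=
  have h : ∀ y, InS R sp_lB y → y * a = a * y → y * b = b * y → y * x = x * y → y = 1 ∨ y = z ∨ y = s ∨ y = z * s :=
    Fm.sound M.μ sp_F4_F sp_F4_chk M.reps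
  (fun y h0 => (h y (M.B.iff.2 h0)))
noncomputable def sp_I_F : Fm := (.qf (.and (.eq (.mul (.v (nat_lit 0)) (.v (nat_lit 0))) .one) (.and (.eq (.mul (.v (nat_lit 3)) (.v (nat_lit 3))) .one) (.and (.eq (.mul (.v (nat_lit 4)) (.v (nat_lit 4))) .one) (.and (.eq (.mul (.v (nat_lit 5)) (.v (nat_lit 5))) .one) (.and (.eq (.mul (.v (nat_lit 6)) (.v (nat_lit 6))) .one) (.eq (.mul (.v (nat_lit 7)) (.v (nat_lit 7))) .one)))))))
theorem sp_I_chk : Fm.chk sp_o sp_I_F sp_cs2 = true := by decide +kernel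
theorem sp_I {G : Type*} [Group G] {R : ℕ → G → Prop} {s x r a t z b : G} {H Q B : Subgroup G}
    (M : JH sp_o sp_cs2 sp_L sp_lQ sp_lB R s x r a t z b H Q B) :
    s * s = 1 ∧ r * r = 1 ∧ a * a = 1 ∧ t * t = 1 ∧ z * z = 1 ∧ b * b = 1 :=
  Fm.sound M.μ sp_I_F sp_I_chk M.reps
noncomputable def sp_E_F : Fm := (.qf (.and (.eq (.mul (.v (nat_lit 6)) (.v (nat_lit 0))) (.mul (.v (nat_lit 0)) (.v (nat_lit 6)))) (.and (.eq (.mul (.v (nat_lit 5)) (.v (nat_lit 6))) (.mul (.v (nat_lit 6)) (.v (nat_lit 5)))) (.and (.eq (.mul (.v (nat_lit 5)) (.v (nat_lit 1))) (.mul (.v (nat_lit 1)) (.v (nat_lit 5)))) (.and (.eq (.mul (.v (nat_lit 0)) (.v (nat_lit 1))) (.mul (.v (nat_lit 1)) (.v (nat_lit 0)))) (.and (.eq (.mul (.v (nat_lit 6)) (.v (nat_lit 1))) (.mul (.v (nat_lit 1)) (.v (nat_lit 6)))) (.and (.eq (.mul (.mul (.v (nat_lit 5)) (.v (nat_lit 4))) (.v (nat_lit 5))) (.v (nat_lit 7))) (.and (.eq (.mul (.mul (.v (nat_lit 3)) (.v (nat_lit 0))) (.v (nat_lit 3))) (.v (nat_lit 5))) (.and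 (.eq (.mul (.mul (.v (nat_lit 3)) (.v (nat_lit 1))) (.v (nat_lit 3))) (.v (nat_lit 2))) (.and (.eq (.pw (.mul (.v (nat_lit 0)) (.v (nat_lit 5))) (nat_lit 2)) (.v (nat_lit 6))) (.and (.eq (.mul (.v (nat_lit 6)) (.v (nat_lit 4))) (.mul (.v (nat_lit 4)) (.v (nat_lit 6)))) (.and (.eq (.mul (.v (nat_lit 6)) (.v (nat_lit 7))) (.mul (.v (nat_lit 7)) (.v (nat_lit 6)))) (.eq (.mul (.v (nat_lit 3)) (.v (nat_lit 6))) (.mul (.v (nat_lit 6)) (.v (nat_lit 3))))))))))))))))
theorem sp_E_chk : Fm.chk sp_o sp_E_F sp_cs2 = true := by decide +kernel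
theorem sp_E {G : Type*} [Group G] {R : ℕ → G → Prop} {s x r a t z b : G} {H Q B : Subgroup G}
    (M : JH sp_o sp_cs2 sp_L sp_lQ sp_lB R s x r a t z b H Q B) :
    z * s = s * z ∧ t * z = z * t ∧ t * x = x * t ∧ s * x = x * s ∧ z * x = x * z ∧ t * a * t = b ∧ r * s * r = t ∧ r * x * r = x⁻¹ ∧ (s * t) ^ 2 = z ∧ z * a = a * z ∧ z * b = b * z ∧ r * z = z * r :=
  Fm.sound M.μ sp_E_F sp_E_chk M.reps
noncomputable def sp_N_F : Fm := (.qf (.and (.not (.eq (.v (nat_lit 6)) .one)) (.and (.not (.eq (.v (nat_lit 0)) .one)) (.and (.not (.eq (.mul (.mul (.v (nat_lit 4)) (.v (nat_lit 1))) (.inv (.v (nat_lit 4)))) .one)) (.and (.not (.eq (.mul (.mul (.v (nat_lit 4)) (.v (nat_lit 1))) (.inv (.v (nat_lit 4)))) (.v (nat_lit 1)))) (.and (.not (.eq (.mul (.mul (.v (nat_lit 4)) (.v (nat_lit 1))) (.inv (.v (nat_lit 4)))) (.v (nat_lit 2)))) (.not (.eq (.v (nat_lit 4)) .one))))))))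
theorem sp_N_chk : Fm.chk sp_o sp_N_F sp_cs2 = true := by decide +kernel
theorem sp_N {G : Type*} [Group G] {R : ℕ → G → Prop} {s x r a t z b : G} {H Q B : Subgroup G}
    (M : JH sp_o sp_cs2 sp_L sp_lQ sp_lB R s x r a t z b H Q B) :
    z ≠ 1 ∧ s ≠ 1 ∧ a * x * a⁻¹ ≠ 1 ∧ a * x * a⁻¹ ≠ x ∧ a * x * a⁻¹ ≠ x⁻¹ ∧ a ≠ 1 :=
  Fm.sound M.μ sp_N_F sp_N_chk M.reps
noncomputable def sp_cx_l : List ℕ := [(nat_lit 0xffbbcdeb38bdab49ca307b9ac5a928398a418820), (nat_lit 0x4275b637df00653216d7c654be75cf84443a54c7), (nat_lit 0x80643254d7c274b675df04453a16c74655be37cf), (nat_lit 0xfb579f7358b9471b52507f769731483d66131040), (nat_lit 0x7b9ac5a928398a418820ffbbcdeb38bdab49ca30), (nat_lit 0x3daa4988307fbacda938b98b41ca20fb9bc5eb28), (nat_lit 0x42b9e4edbf00a960ccb7c698ecafaf8488688ea7), (nat_lit 0xb98b41ca20fb9bc5eb283daa4988307fbacda938), (nat_lit 0x80a8608eb7c2b8e4afbf048968cca74699ecedaf), (nat_lit 0xfedda6e798bccd22c6907afcaea58838ec2a8480), (nat_lit 0xc654be75cf84443a54c74275b637df00653216d7),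 (nat_lit 0x4453a16c74655be37cf80643254d7c274b675df), (nat_lit 0x7f769731483d66131040fb579f7358b9471b5250), (nat_lit 0x39461b10507b569f3158bd67135240ff77977348), (nat_lit 0x4332d57b7f0122515a77c713dd396f8503591867), (nat_lit 0xbd67135240ff7797734839461b10507b569f3158), (nat_lit 0x8123511877c333d5397f0502595a674712dd7b6f), (nat_lit 0xc698ecafaf8488688ea742b9e4edbf00a960ccb7), (nat_lit 0x48968cca74699ecedaf80a8608eb7c2b8e4afbf), (nat_lit 0x7afcaea58838ec2a8480fedda6e798bccd22c690), (nat_lit 0x3ccc2284907edca6a598b8ed2ac680fafdaee788), (nat_lit 0xb8ed2ac680fafdaee7883ccc2284907edca6a598), (nat_lit 0xc713dd396f85035918674332d57b7f0122515a77), (nat_lit 0x502595a674712dd7b6f8123511877c333d5397f)]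
noncomputable def sp_cx_l_W : List (List ℕ) := [[],
  [(nat_lit 0)],
  [(nat_lit 1)],
  [(nat_lit 2)],
  [(nat_lit 0), (nat_lit 0)],
  [(nat_lit 0), (nat_lit 1)],
  [(nat_lit 0), (nat_lit 2)],
  [(nat_lit 1), (nat_lit 0)],
  [(nat_lit 1), (nat_lit 2)],
  [(nat_lit 2), (nat_lit 2)],
  [(nat_lit 0), (nat_lit 0), (nat_lit 0)],
  [(nat_lit 0), (nat_lit 0), (nat_lit 1)],
  [(nat_lit 0), (nat_lit 0), (nat_lit 2)],
  [(nat_lit 0), (nat_lit 1), (nat_lit 2)],
  [(nat_lit 0), (nat_lit 2), (nat_lit 2)],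
  [(nat_lit 1), (nat_lit 0), (nat_lit 2)],
  [(nat_lit 1), (nat_lit 2), (nat_lit 2)],
  [(nat_lit 0), (nat_lit 0), (nat_lit 0), (nat_lit 2)],
  [(nat_lit 0), (nat_lit 0), (nat_lit 1), (nat_lit 2)],
  [(nat_lit 0), (nat_lit 0), (nat_lit 2), (nat_lit 2)],
  [(nat_lit 0), (nat_lit 1), (nat_lit 2), (nat_lit 2)],
  [(nat_lit 1), (nat_lit 0), (nat_lit 2), (nat_lit 2)],
  [(nat_lit 0), (nat_lit 0), (nat_lit 0), (nat_lit 2), (nat_lit 2)],
  [(nat_lit 0), (nat_lit 0), (nat_lit 1), (nat_lit 2), (nat_lit 2)]]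
noncomputable def sp_cx_l_h (c : ℕ) : ℕ := Nat.mod c (nat_lit 179)
noncomputable def sp_cx_c : List ℕ := [(nat_lit 0x4275b637df00653216d7c654be75cf84443a54c7), (nat_lit 0x80643254d7c274b675df04453a16c74655be37cf), (nat_lit 0xfb579f7358b9471b52507f769731483d66131040)]
noncomputable def sp_cx_0_F : Fm := (.all sp_L (.imp (.eq (.mul (.v (nat_lit 0)) (.v (nat_lit 2))) (.mul (.v (nat_lit 2)) (.v (nat_lit 0)))) (.qf (.mem (.v (nat_lit 0)) sp_cx_l))))
theorem sp_cx_0_chk : Fm.chk sp_o sp_cx_0_F sp_cs2 = true := by decide +kernel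
theorem sp_cx_0 {G : Type*} [Group G] {R : ℕ → G → Prop} {s x r a t z b : G} {H Q B : Subgroup G}
    (M : JH sp_o sp_cs2 sp_L sp_lQ sp_lB R s x r a t z b H Q B) :
    ∀ y ∈ H, y * x = x * y → InS R sp_cx_l (y) :=
  have h : ∀ y, InL sp_o R sp_L y → y * x = x * y → InS R sp_cx_l (y) :=
    Fm.sound M.μ sp_cx_0_F sp_cx_0_chk M.reps
  (fun y h0 => (fun h1 => (Iff.rfl.1 ((h y (M.H.iff.2 h0)) h1))))
theorem sp_cx {G : Type*} [Group G] {R : ℕ → G → Prop} {s x r a t z b : G} {H Q B : Subgroup G}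
    (M : JH sp_o sp_cs2 sp_L sp_lQ sp_lB R s x r a t z b H Q B) :
    ∀ y ∈ H, y * x = x * y → y ∈ gen (nthG [s * t, s, x]) 3 := fun y h1 h2 =>
  let ⟨c, hc, h⟩ := sp_cx_0 M y h1 h2
  let ⟨_, h3, h4⟩ := wordsChk_sound M.μ.1 (M.reps.tms M.μ.1 [(.mul (.v (nat_lit 0)) (.v (nat_lit 5))), (.v (nat_lit 0)), (.v (nat_lit 1))] (cs' := sp_cx_c) (by decide +kernel))
    (K := 3) (l := sp_cx_l) (Ws := sp_cx_l_W) (by decide +kernel) c hc
  M.μ.fn h4 h ▸ h3
noncomputable def sp_inv_t0 : ST := (.node (nat_lit 3426) (.node (nat_lit 2057) (.node (nat_lit 1224) (.node (nat_lit 532) (.node (nat_lit 294) (.node (nat_lit 224) (.leaf (nat_lit 1)) (.node (nat_lit 238) (.leaf (nat_lit 449)) (.leaf (nat_lit 289)))) (.node (nat_lit 377) (.node (nat_lit 335) (.leaf (nat_lit 1857)) (.leaf (nat_lit 897))) (.node (nat_lit 392) (.leaf (nat_lit 805)) (.leaf (nat_lit 1217))))) (.node (nat_lit 991) (.node (nat_lit 656) (.node (nat_lit 555) (.leaf (nat_lit 1025)) (.leaf (nat_lit 1408))) (.node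 (nat_lit 856) (.leaf (nat_lit 1440)) (.leaf (nat_lit 1665)))) (.node (nat_lit 1063) (.node (nat_lit 1028) (.leaf (nat_lit 1089)) (.leaf (nat_lit 1633))) (.node (nat_lit 1110) (.leaf (nat_lit 1413)) (.leaf (nat_lit 71)))))) (.node (nat_lit 1604) (.node (nat_lit 1488) (.node (nat_lit 1400) (.leaf (nat_lit 1569)) (.node (nat_lit 1439) (.leaf (nat_lit 417)) (.leaf (nat_lit 6)))) (.node (nat_lit 1554) (.node (nat_lit 1532) (.leaf (nat_lit 577)) (.leaf (nat_lit 1441))) (.node (nat_lit 1586) (.leaf (nat_lit 775)) (.leaf (nat_lit 1414))))) (.node (nat_lit 1847) (.node (nat_lit 1753) (.node (nat_lit 1624) (.leaf (nat_lit 1729)) (.leaf (nat_lit 1537))) (.node (nat_lit 1829) (.leaf (nat_lit 128)) (.leaf (nat_lit 70)))) (.node (nat_lit 1931) (.node (nat_lit 1870) (.leaf (nat_lit 807)) (.leaf (nat_lit 646))) (.node (nat_lit 2019) (.leaf (nat_lit 5)) (.leaf (nat_lit 225))))))) (.node (nat_lit 2647) (.node (nat_lit 2266) (.node (nat_lit 2128) (.node (nat_lit 2106) (.leaf (nat_lit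 167)) (.node (nat_lit 2107) (.leaf (nat_lit 1312)) (.leaf (nat_lit 161)))) (.node (nat_lit 2231) (.node (nat_lit 2197) (.leaf (nat_lit 385)) (.leaf (nat_lit 709))) (.node (nat_lit 2235) (.leaf (nat_lit 1318)) (.leaf (nat_lit 193))))) (.node (nat_lit 2411) (.node (nat_lit 2398) (.node (nat_lit 2312) (.leaf (nat_lit 1287)) (.leaf (nat_lit 1409))) (.node (nat_lit 2403) (.leaf (nat_lit 257)) (.leaf (nat_lit 1415)))) (.node (nat_lit 2500) (.node (nat_lit 2478) (.leaf (nat_lit 1793)) (.leaf (nat_lit 1121))) (.node (nat_lit 2510) (.leaf (nat_lit 705)) (.leaf (nat_lit 1057)))))) (.node (nat_lit 2843) (.node (nat_lit 2690) (.node (nat_lit 2668) (.leaf (nat_lit 37)) (.node (nat_lit 2685) (.leaf (nat_lit 737)) (.leaf (nat_lit 166)))) (.node (nat_lit 2791) (.node (nat_lit 2693) (.leaf (nat_lit 1445)) (.leaf (nat_lit 134))) (.node (nat_lit 2822) (.leaf (nat_lit 1377)) (.leaf (nat_lit 1285))))) (.node (nat_lit 3190) (.node (nat_lit 2891) (.node (nat_lit 2860) (.leaf (nat_lit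 1351)) (.leaf (nat_lit 865))) (.node (nat_lit 3077) (.leaf (nat_lit 609)) (.leaf (nat_lit 65)))) (.node (nat_lit 3281) (.node (nat_lit 3194) (.leaf (nat_lit 1344)) (.leaf (nat_lit 769))) (.node (nat_lit 3381) (.leaf (nat_lit 774)) (.leaf (nat_lit 39)))))))) (.node (nat_lit 5173) (.node (nat_lit 4330) (.node (nat_lit 3913) (.node (nat_lit 3675) (.node (nat_lit 3428) (.leaf (nat_lit 679)) (.node (nat_lit 3668) (.leaf (nat_lit 32)) (.leaf (nat_lit 1349)))) (.node (nat_lit 3849) (.node (nat_lit 3811) (.leaf (nat_lit 1313)) (.leaf (nat_lit 647))) (.node (nat_lit 3860) (.leaf (nat_lit 0)) (.leaf (nat_lit 961))))) (.node (nat_lit 4251) (.node (nat_lit 3964) (.node (nat_lit 3946) (.leaf (nat_lit 1825)) (.leaf (nat_lit 1446))) (.node (nat_lit 4143) (.leaf (nat_lit 321)) (.leaf (nat_lit 1697)))) (.node (nat_lit 4281) (.node (nat_lit 4267) (.leaf (nat_lit 33)) (.leaf (nat_lit 1280))) (.node (nat_lit 4328) (.leaf (nat_lit 993)) (.leaf (nat_lit 1319)))))) (.node (nat_lit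 4822) (.node (nat_lit 4528) (.node (nat_lit 4337) (.leaf (nat_lit 641)) (.node (nat_lit 4361) (.leaf (nat_lit 38)) (.leaf (nat_lit 801)))) (.node (nat_lit 4737) (.node (nat_lit 4559) (.leaf (nat_lit 135)) (.leaf (nat_lit 1350))) (.node (nat_lit 4811) (.leaf (nat_lit 545)) (.leaf (nat_lit 513))))) (.node (nat_lit 5097) (.node (nat_lit 4911) (.node (nat_lit 4854) (.leaf (nat_lit 1249)) (.leaf (nat_lit 1153))) (.node (nat_lit 5003) (.leaf (nat_lit 353)) (.leaf (nat_lit 165)))) (.node (nat_lit 5139) (.node (nat_lit 5101) (.leaf (nat_lit 1505)) (.leaf (nat_lit 833))) (.node (nat_lit 5172) (.leaf (nat_lit 481)) (.leaf (nat_lit 800))))))) (.node (nat_lit 5905) (.node (nat_lit 5631) (.node (nat_lit 5494) (.node (nat_lit 5202) (.leaf (nat_lit 64)) (.node (nat_lit 5435) (.leaf (nat_lit 1345)) (.leaf (nat_lit 672)))) (.node (nat_lit 5589) (.node (nat_lit 5550) (.leaf (nat_lit 773)) (.leaf (nat_lit 711))) (.node (nat_lit 5591) (.leaf (nat_lit 704)) (.leaf (nat_lit 1473)))))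 (.node (nat_lit 5768) (.node (nat_lit 5655) (.node (nat_lit 5635) (.leaf (nat_lit 160)) (.leaf (nat_lit 640))) (.node (nat_lit 5681) (.leaf (nat_lit 673)) (.leaf (nat_lit 69)))) (.node (nat_lit 5871) (.node (nat_lit 5824) (.leaf (nat_lit 929)) (.leaf (nat_lit 97))) (.node (nat_lit 5883) (.leaf (nat_lit 678)) (.leaf (nat_lit 1601)))))) (.node (nat_lit 6328) (.node (nat_lit 5980) (.node (nat_lit 5943) (.leaf (nat_lit 1286)) (.node (nat_lit 5960) (.leaf (nat_lit 677)) (.leaf (nat_lit 710)))) (.node (nat_lit 6028) (.node (nat_lit 5984) (.leaf (nat_lit 1447)) (.leaf (nat_lit 1889))) (.node (nat_lit 6262) (.leaf (nat_lit 768)) (.leaf (nat_lit 1761))))) (.node (nat_lit 6417) (.node (nat_lit 6397) (.node (nat_lit 6351) (.leaf (nat_lit 645)) (.leaf (nat_lit 1185))) (.node (nat_lit 6411) (.leaf (nat_lit 1317)) (.leaf (nat_lit 133)))) (.node (nat_lit 6574) (.node (nat_lit 6431) (.leaf (nat_lit 129)) (.leaf (nat_lit 1281))) (.node (nat_lit 6642) (.leaf (nat_lit 7)) (.leaf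 (nat_lit 806)))))))))
noncomputable def sp_inv_F : Fm := (.all sp_L (.imp (.eq (.mul (.v (nat_lit 0)) (.v (nat_lit 0))) .one) (.or (.qf (.mem (.v (nat_lit 0)) sp_lQ)) (.exF sp_L (fun cs => sp_inv_t0.find (Nat.mod (nth (nat_lit 0) cs (nat_lit 0)) (nat_lit 6823))) (.qf (.eq (.mul (.mul (.v (nat_lit 0)) (.v (nat_lit 1))) (.inv (.v (nat_lit 0)))) (.v (nat_lit 6))))))))
theorem sp_inv_chk : Fm.chk sp_o sp_inv_F sp_cs2 = true := by decide +kernel
theorem sp_inv {G : Type*} [Group G] {R : ℕ → G → Prop} {s x r a t z b : G} {H Q B : Subgroup G}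
    (M : JH sp_o sp_cs2 sp_L sp_lQ sp_lB R s x r a t z b H Q B) :
    ∀ y ∈ H, y * y = 1 → y ∈ Q ∨ (∃ h ∈ H, h * y * h⁻¹ = a) :=
  have h : ∀ y, InL sp_o R sp_L y → y * y = 1 → InS R sp_lQ (y) ∨ (Good sp_o R sp_L → prods sp_o sp_L sp_o.one ≠ [] → ∃ h, InL sp_o R sp_L h ∧ h * y * h⁻¹ = a) :=
    Fm.sound M.μ sp_inv_F sp_inv_chk M.reps
  (fun y h0 => (fun h1 => (Or.imp (fun h2 => (M.Q.iff.1 h2)) (fun h2 => (Exists.imp (fun h h3 => ⟨M.H.iff.1 h3.1, h3.2⟩) (h2 M.H.good M.H.ne))) ((h y (M.H.iff.2 h0)) h1))))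
noncomputable def RH : List (List ℕ) := [[0,0],
  [1,2],
  [2,1],
  [3,3],
  [4,4],
  [5,5],
  [6,6],
  [7,7],
  [1,1,1],
  [0,4,0,4],
  [1,5,2,5],
  [0,7,0,7],
  [6,7,6,7],
  [4,5,7,5],
  [3,6,3,6],
  [1,3,1,3],
  [1,6,2,6],
  [0,1,0,2],
  [0,6,0,6],
  [4,6,4,6],
  [0,3,5,3],
  [5,6,5,6],
  [0,5,0,5,6],
  [4,6,7,4,7],
  [1,4,1,4,1,4],
  [1,7,1,7,1,7],
  [4,5,6,7,5,6],
  [3,4,3,4,3,4],
  [3,6,7,3,7,3,7],
  [0,3,7,3,4,3,5,4],
  [0,4,3,7,0,4,3,7],
  [0,4,3,7,4,3,4,5],
  [0,4,5,4,0,5,4,7],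
  [0,3,4,7,3,7,4,5],
  [0,3,7,4,0,3,7,4],
  [0,3,4,3,5,7,3,4],
  [0,3,4,7,0,3,4,7],
  [3,0,3,0,3,0,3,0,3,0,3,0,3,0,3,0],
  [4,3,0,3,0,3,0,3,0,4,3,0,3,0,3,0,3,0],
  [0,3,0,3,4,3,0,3,4,1,4,3,0,3,4,1,1,1,1,4,3,0,3,4,1]]
theorem sp_RH {G : Type*} [Group G] {R : ℕ → G → Prop} {s x r a t z b : G} {H Q B : Subgroup G}
    (M : JH sp_o sp_cs2 sp_L sp_lQ sp_lB R s x r a t z b H Q B) :
    Rels (nthG [s, x, x⁻¹, r, a, t, z, b]) RH := rels_of_chk M.μ.1 M.reps (by decide +kernel)
noncomputable abbrev h8_o : Ops := pops (nat_lit 32) (nat_lit 5) (nat_lit 31) (nat_lit 0xffbbcdeb38bdab49ca307b9ac5a928398a418820)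
noncomputable def h8_cs : List ℕ := [(nat_lit 0x80643254d7c274b675df04453a16c74655be37cf), (nat_lit 0xfb579f7358b9471b52507f769731483d66131040), (nat_lit 0xfedda6e798bccd22c6907afcaea58838ec2a8480), (nat_lit 0xc693be79bf3d6d41c65042b2b63bafb94c498440), (nat_lit 0xfb5cc3d6d45e7581c6507f7dcb94c4da54898440), (nat_lit 0x3daa4988307fbacda938b98b41ca20fb9bc5eb28), (nat_lit 0x7b9ac5a928398a418820ffbbcdeb38bdab49ca30), (nat_lit 0x984405e758b94c4fb5cc1c650da5483d6d47f7dc)]
noncomputable def h8_Rl : List (List ℕ) := [[0,0],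
  [1,2],
  [2,1],
  [3,3],
  [4,4],
  [5,5],
  [6,6],
  [7,7],
  [1,1,1],
  [0,4,0,4],
  [1,5,2,5],
  [0,7,0,7],
  [6,7,6,7],
  [4,5,7,5],
  [3,6,3,6],
  [1,3,1,3],
  [1,6,2,6],
  [0,1,0,2],
  [0,6,0,6],
  [4,6,4,6],
  [0,3,5,3],
  [5,6,5,6],
  [0,5,0,5,6],
  [4,6,7,4,7],
  [1,4,1,4,1,4],
  [1,7,1,7,1,7],
  [4,5,6,7,5,6],
  [3,4,3,4,3,4],
  [3,6,7,3,7,3,7],
  [0,3,7,3,4,3,5,4],
  [0,4,3,7,0,4,3,7],
  [0,4,3,7,4,3,4,5],
  [0,4,5,4,0,5,4,7],
  [0,3,4,7,3,7,4,5],
  [0,3,7,4,0,3,7,4],
  [0,3,4,3,5,7,3,4],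
  [0,3,4,7,0,3,4,7],
  [3,0,3,0,3,0,3,0,3,0,3,0,3,0,3,0],
  [4,3,0,3,0,3,0,3,0,4,3,0,3,0,3,0,3,0],
  [0,3,0,3,4,3,0,3,4,1,4,3,0,3,4,1,1,1,1,4,3,0,3,4,1]]
noncomputable def h8_L : List (List ℕ) := [[(nat_lit 0xffbbcdeb38bdab49ca307b9ac5a928398a418820), (nat_lit 0x80643254d7c274b675df04453a16c74655be37cf), (nat_lit 0x3daa4988307fbacda938b98b41ca20fb9bc5eb28), (nat_lit 0x7b9ac5a928398a418820ffbbcdeb38bdab49ca30), (nat_lit 0x984405e758b94c4fb5cc1c650da5483d6d47f7dc), (nat_lit 0xc654be75cf84443a54c74275b637df00653216d7), (nat_lit 0x4453a16c74655be37cf80643254d7c274b675df), (nat_lit 0x679afa1ab7c2b3b80a33e3bbf258a74692b04823), (nat_lit 0x4275b637df00653216d7c654be75cf84443a54c7), (nat_lit 0xde748184507b5dc394d45a5589c640ff7ccbd6c4), (nat_lit 0xb98b41ca20fb9bc5eb283daa4988307fbacda938), (nat_lit 0x1c650da5483d6d47f7dc984405e758b94c4fb5cc), (nat_lit 0xb088076b98bcea1fefa934a90f298838cb17adb9), (nat_lit 0x29020ef338bd862ff96aad2306b12839a727bb7a), (nat_lit 0x18820637df398a4c654b9ca30e75cfbdab44275b),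 (nat_lit 0xa58b763baf84833c693b21aa7e79bf00a2342b2b), (nat_lit 0xe3bbf258a74692b04823679afa1ab7c2b3b80a33), (nat_lit 0x4b76f8d477c335e81256cf57f096674714e05046), (nat_lit 0x56fcf90cd7c278d80685d2ddf14ec74659d04495), (nat_lit 0xf6b88308907efb93ceb172998b4a80fada9b8ca1), (nat_lit 0x6f328a90307f97a3d872eb1382d220fbb6ab9a62), (nat_lit 0x5a5589c640ff7ccbd6c4de748184507b5dc394d4), (nat_lit 0x34a90f298838cb17adb9b088076b98bcea1fefa9), (nat_lit 0xad2306b12839a727bb7a29020ef338bd862ff96a), (nat_lit 0xa848057b7f38ec2c713d2c690d396fbccd24332d), (nat_lit 0xc8500ed59458f42f9dc64c71069784dcd527dfd6), (nat_lit 0x310404edbf3d661c698eb5250cafafb947142b9e), (nat_lit 0x896774f56f85056c715e0d467cb77f012464334e), (nat_lit 0x94ed752dcf84485c658d10cc7d6fdf006954279d), (nat_lit 0xd2ddf14ec74659d0449556fcf90cd7c278d80685), (nat_lit 0x72998b4a80fada9b8ca1f6b88308907efb93ceb1), (nat_lit 0xeb1382d220fbb6ab9a626f328a90307f97a3d872)],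
  [(nat_lit 0xffbbcdeb38bdab49ca307b9ac5a928398a418820), (nat_lit 0xfb579f7358b9471b52507f769731483d66131040), (nat_lit 0xfedda6e798bccd22c6907afcaea58838ec2a8480), (nat_lit 0xc693be79bf3d6d41c65042b2b63bafb94c498440), (nat_lit 0xc658dd6fdf39a72ad2304279d52dcfbd86229020), (nat_lit 0xffaf66b2b45aa72ce2307b8e6ef0a4de8624a020), (nat_lit 0xc715ecb77f38cb134a904334e4f56fbcea1b0880), (nat_lit 0xf9fb5f599458d3154b107dda571b84dcf21d0900), (nat_lit 0xa5b9ea9dbfda471d62502198e2dfaf5e66152040), (nat_lit 0xfeef3f28d2ea4b1e62907ace376ac26e6a162080), (nat_lit 0xc68f5caed4638716fe5042ae54ecc4e7a61ebc40), (nat_lit 0xa30adb78ffdcd524c710272bd33aef58f42c8500), (nat_lit 0xf9d636953171952653107df73ed721f5b42e1100), (nat_lit 0xc5d36d557464fb2747f041f2651764e0da2f05e0), (nat_lit 0xa577ab5f38e7672f7e302156a31d286346273c20), (nat_lit 0xc70e3d38b14f4d2dfe90432f357aa1cb6c25bc80), (nat_lit 0xa2cd9aeaf8e0dd1ecbf026ec92a8e864fc1689e0), (nat_lit 0xc5d93c9bb2515d15d3f041f834d9a2d57c1d91e0),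 (nat_lit 0xa3373af552339313ff10271632b742b7b21bbd00), (nat_lit 0xa2f83b25d12abb2be3f026d93367c1ae9a23a1e0)],
  [(nat_lit 0xffbbcdeb38bdab49ca307b9ac5a928398a418820), (nat_lit 0xa54c7637dfdeb389ca30216d7e75cf5a92818820), (nat_lit 0xc654bbdab4637df9ca304275b398a4e75cf18820)]]
noncomputable def h8_WW : List (List (List ℕ)) := [[[],
  [(nat_lit 0)],
  [(nat_lit 5)],
  [(nat_lit 6)],
  [(nat_lit 7)],
  [(nat_lit 0), (nat_lit 5)],
  [(nat_lit 0), (nat_lit 6)],
  [(nat_lit 0), (nat_lit 7)],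
  [(nat_lit 5), (nat_lit 0)],
  [(nat_lit 5), (nat_lit 4)],
  [(nat_lit 5), (nat_lit 6)],
  [(nat_lit 6), (nat_lit 7)],
  [(nat_lit 7), (nat_lit 1)],
  [(nat_lit 7), (nat_lit 2)],
  [(nat_lit 7), (nat_lit 3)],
  [(nat_lit 0), (nat_lit 5), (nat_lit 4)],
  [(nat_lit 0), (nat_lit 6), (nat_lit 7)],
  [(nat_lit 0), (nat_lit 7), (nat_lit 1)],
  [(nat_lit 0), (nat_lit 7), (nat_lit 2)],
  [(nat_lit 5), (nat_lit 4), (nat_lit 1)],
  [(nat_lit 5), (nat_lit 4), (nat_lit 2)],
  [(nat_lit 5), (nat_lit 4), (nat_lit 6)],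
  [(nat_lit 6), (nat_lit 7), (nat_lit 1)],
  [(nat_lit 6), (nat_lit 7), (nat_lit 2)],
  [(nat_lit 7), (nat_lit 1), (nat_lit 3)],
  [(nat_lit 7), (nat_lit 1), (nat_lit 4)],
  [(nat_lit 7), (nat_lit 2), (nat_lit 3)],
  [(nat_lit 0), (nat_lit 5), (nat_lit 4), (nat_lit 1)],
  [(nat_lit 0), (nat_lit 5), (nat_lit 4), (nat_lit 2)],
  [(nat_lit 0), (nat_lit 6), (nat_lit 7), (nat_lit 2)],
  [(nat_lit 5), (nat_lit 4), (nat_lit 1), (nat_lit 6)],
  [(nat_lit 5), (nat_lit 4), (nat_lit 2), (nat_lit 6)]],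
  [[],
  [(nat_lit 1)],
  [(nat_lit 2)],
  [(nat_lit 3)],
  [(nat_lit 1), (nat_lit 3)],
  [(nat_lit 1), (nat_lit 4)],
  [(nat_lit 2), (nat_lit 3)],
  [(nat_lit 2), (nat_lit 4)],
  [(nat_lit 1), (nat_lit 3), (nat_lit 4)],
  [(nat_lit 1), (nat_lit 4), (nat_lit 2)],
  [(nat_lit 1), (nat_lit 4), (nat_lit 3)],
  [(nat_lit 2), (nat_lit 3), (nat_lit 4)],
  [(nat_lit 2), (nat_lit 4), (nat_lit 1)],
  [(nat_lit 2), (nat_lit 4), (nat_lit 3)],
  [(nat_lit 1), (nat_lit 3), (nat_lit 4), (nat_lit 3)],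
  [(nat_lit 1), (nat_lit 4), (nat_lit 2), (nat_lit 3)],
  [(nat_lit 2), (nat_lit 3), (nat_lit 4), (nat_lit 3)],
  [(nat_lit 2), (nat_lit 4), (nat_lit 1), (nat_lit 3)],
  [(nat_lit 1), (nat_lit 4), (nat_lit 2), (nat_lit 3), (nat_lit 4)],
  [(nat_lit 2), (nat_lit 4), (nat_lit 1), (nat_lit 3), (nat_lit 4)]],
  [[],
  [(nat_lit 3), (nat_lit 4)],
  [(nat_lit 4), (nat_lit 3)]]]
noncomputable def h8_b4_S0 : List ℕ := [nat_lit 0xb000007008008, nat_lit 0x1300000f00000700c00a, nat_lit 0x1b00001700000800800c, nat_lit 0x4f00004b00004700004300003f00003b00003700003300002f00002b00002700002300001f00000600001803800e, nat_lit 0x5300000b00001000800a, nat_lit 0x13000011008008, nat_lit 0x5700000a00000c00800c, nat_lit 0x1700000100001900c00c, nat_lit 0x8b00008700008300007f00007b00007700007300006f00006b00006700006300005f00005b00000f00000903800e, nat_lit 0xe00001c00002100e00a, nat_lit 0x8c00002500004f00400c, nat_lit 0x4c00002900008700800a, nat_lit 0x8400002d00004700c00c, nat_lit 0x4400003100007f00e00a,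 nat_lit 0x7c00003500003f00400c, nat_lit 0x3c00003900007700800a, nat_lit 0x7400003d00003700c00c, nat_lit 0x3400004100006f00e00a, nat_lit 0x6c00004500002f00400c, nat_lit 0x2c00004900006700800a, nat_lit 0x6400004d00002700c00c, nat_lit 0x2400005100005f00e00a, nat_lit 0xbf0000bb0000b70000b30000af0000ab0000a70000a300009f00009b00009700009300008f00005300001903800e, nat_lit 0xe00001e00005900000a, nat_lit 0x2200005800005900e00a, nat_lit 0xc000006100008b00400c, nat_lit 0x29000065008008, nat_lit 0x880000650000bb00800a, nat_lit 0x6d00002d004008, nat_lit 0xb800006d00008300c00c, nat_lit 0x3100007500a008, nat_lit 0x800000750000b300e00a, nat_lit 0x7d000035006008, nat_lit 0xb000007d00007b00400c, nat_lit 0x39000085008008, nat_lit 0x780000850000ab00800a, nat_lit 0x8d00003d004008, nat_lit 0xa800008d00007300c00c, nat_lit 0x4100009500a008, nat_lit 0x700000950000a300e00a, nat_lit 0x9d000045006008, nat_lit 0xa000009d00006b00400c, nat_lit 0x490000a5008008, nat_lit 0x680000a500009b00800a,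 nat_lit 0xad00004d004008, nat_lit 0x980000ad00006300c00c, nat_lit 0x510000b500a008, nat_lit 0x600000b500009300e00a, nat_lit 0xbd000055006008]
noncomputable def h8_b4_S : List (List ℕ) := [h8_b4_S0]
noncomputable def h8_b4_defs : List ℕ := [(nat_lit 0x2e0030002d0000002c0030002b0000002a003000290000002800300027000000260030002500000024003000230000001400000021003000200000001f0030001e0000001d0030001c0000001b0030001a000000190030001800000017003000160000000300100006003000020000001200300011000000100030000f0000000e0030000d0000000c0030000b0000000a0030000900000008003000070000000400100005000000000010000300300001001000010010000000000000)]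
noncomputable def h8_b4_recs : List ℕ := [(nat_lit 0x2000070002302000230001602000240000802000170002401000090002501000250001801000260000a010001900026020000b0002702000270001a02000280000c020001b00028010000d0002901000290001c010002a0000e010001d0002a020000f0002b020002b0001e020002c00010020001f0002c01000110002d010002d00020010002e0001201000210002e020002f00022010002f0001303000150002f020001600007020000800017010001800009010000a00019020001a0000b020000c0001b010001c0000d010000e0001d020001e0000f02000100001f010002000011010001200021020002200013030000600022020001500005000000200015010001400004010000300014030000500013000000100006030000000004010000000002)]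
noncomputable def h8_b4_L0 : List ℕ := [nat_lit 0x17000005000007000001000002000002000006000004, nat_lit 0xa00000600000b00000200000800000000000f000003, nat_lit 0x1a00001500000100000000000c000001000053000014, nat_lit 0x5b000016000013000004000012000014000010000001, nat_lit 0x1f000007000015000014000014000003000005000000, nat_lit 0x1800000000001b00000600001d00001500000e000013, nat_lit 0x900000100005700001500001c000005000022000022, nat_lit 0x200000040000c2000023000055000016000023000008, nat_lit 0x270000090000520000170000b9000024000024000007, nat_lit 0x2800000800004d0000180000b200002500002b00000a, nat_lit 0x2f00000b0000a900002600004a00001900002c000009, nat_lit 0x3000000a0000a200002700004500001a00003300000c, nat_lit 0x3700000d00004200001b00009900002800003400000b, nat_lit 0x3800000c00003d00001c00009200002900003b00000e, nat_lit 0x3f00000f00008900002a00003a00001d00003c00000d, nat_lit 0x4000000e00008200002b00003500001e000043000010, nat_lit 0x4700001100003200001f00007900002c00004400000f,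 nat_lit 0x4800001000002d00002000007200002d00004b000012, nat_lit 0x4f00001300006900002e00002a00002100004c000011, nat_lit 0x5000001200005d00002f00002500002200000d000005, nat_lit 0x8f000023000011000003000016000004000054000002, nat_lit 0x1900000200001e00000500005800000600005a00002f, nat_lit 0x5c0000030000560000070000bd00002300005f000017, nat_lit 0x630000180000b6000024000051000008000060000016, nat_lit 0x640000170000ad00002500004e000009000067000019, nat_lit 0x6b00001a00004900000a0000a6000026000068000018, nat_lit 0x6c00001900004600000b00009d00002700006f00001b, nat_lit 0x7300001c00009600002800004100000c00007000001a, nat_lit 0x7400001b00008d00002900003e00000d00007700001d, nat_lit 0x7b00001e00003900000e00008600002a00007800001c, nat_lit 0x7c00001d00003600000f00007d00002b00007f00001f, nat_lit 0x8300002000007600002c00003100001000008000001e, nat_lit 0x8400001f00006d00002d00002e000011000087000021, nat_lit 0x8b00002200002900001200006600002e000088000020, nat_lit 0x8c00002100002600001300006100002f000021000006,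 nat_lit 0x900000140000be0000160000c1000007000093000024, nat_lit 0x970000250000ba0000080000b5000017000094000023, nat_lit 0x980000240000b10000090000ae00001800009b000026, nat_lit 0x9f0000270000a50000190000aa00000a00009c000025, nat_lit 0xa000002600009e00001a0000a100000b0000a3000028, nat_lit 0xa700002900009a00000c00009500001b0000a4000027, nat_lit 0xa800002800009100000d00008e00001c0000ab00002a, nat_lit 0xaf00002b00008500001d00008a00000e0000ac000029, nat_lit 0xb000002a00007e00001e00008100000f0000b300002c, nat_lit 0xb700002d00007a00001000007500001f0000b400002b, nat_lit 0xb800002c00007100001100006e0000200000bb00002e, nat_lit 0xbf00002f00006500002100006a0000120000bc00002d, nat_lit 0xc000002e00006200002200005e000013000059000015]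
noncomputable def h8_b4_L : List (List ℕ) := [h8_b4_L0]
noncomputable def h8_b4_V : List ℕ := [(nat_lit 0x2f0000002e0000002d0000002c0000002b0000002a000000290000002800000027000000260000002500000024000000230000002200000021000000200000001f0000001e0000001d0000001c0000001b0000001a000000190000001800000017000000160000001500000014000000130000001200000011000000100000000f0000000e0000000d0000000c0000000b0000000a00000009000000080000000700000006000000050000000400000003000000020000000100000000)]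
noncomputable def h8_b4_D : H26.Dag := ⟨[0,2,1,3], [[0,0],
  [1,2],
  [2,1],
  [3,3],
  [1,1,1],
  [1,3,1,3],
  [0,1,0,2],
  [3,0,3,0,3,0,3,0,3,0,3,0,3,0,3,0]], [], h8_b4_defs, h8_b4_recs⟩
theorem h8_b4_c : h8_b4_D.checkTab h8_b4_S 48 4 h8_b4_V h8_b4_L = true := by decide +kernel
theorem h8_b4 : Bound h8_Rl 4 48 :=
  bound_dag (Bound.zero h8_Rl) (K := 4) (J := [0,1,2,3,8,15,17,37]) (by decide +kernel) h8_b4_c (by decide +kernel)
noncomputable def h8_b8_S0 : List ℕ := [nat_lit 0x1, nat_lit 0x1, nat_lit 0x1, nat_lit 0x9000001000009008026, nat_lit 0xd00000100000d000001010028, nat_lit 0x7000001000008008012, nat_lit 0x7000011000008004024, nat_lit 0xb00000100000c008016, nat_lit 0xb00001100000c008018, nat_lit 0xb00000d00000800c01a, nat_lit 0xf000019000010004020, nat_lit 0xf000015000010008022, nat_lit 0x13000010006010, nat_lit 0x1300001900001400c020, nat_lit 0x13000015000014000022, nat_lit 0x1300000700000600000800001000a02c, nat_lit 0x1700001900001800401c, nat_lit 0x17000015000018008026,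 nat_lit 0x17000007000009000008000018004032, nat_lit 0x1700001500000700000d000009000008000018008036, nat_lit 0x1b00001500001c008016, nat_lit 0x1b00001900001c008018, nat_lit 0x1b00001900000700000c00c02a, nat_lit 0x1b000019000025000059000055010030, nat_lit 0x1b00001900001800004d00001700001c00c034, nat_lit 0x1f000026000010004014, nat_lit 0x1f000021000020004020, nat_lit 0x1f00001d000020008022, nat_lit 0x23000020006010, nat_lit 0x2300002600001400c014, nat_lit 0x2300002100002400c020, nat_lit 0x2300001d000024000022, nat_lit 0x2300000b00000600000c00002000a02e, nat_lit 0x2700002100002800401c, nat_lit 0x2700001d000028008026, nat_lit 0x27000026000018000026, nat_lit 0x2700005900006100005a000028004032, nat_lit 0x8500002700000b00000900000c000028008034, nat_lit 0x2b00002900002c00401c, nat_lit 0x2b00000f00001800801e, nat_lit 0x2b00002d00002c008026, nat_lit 0x2f00002d000030008016, nat_lit 0x2f000029000030008018, nat_lit 0x3300003500003400401c, nat_lit 0x3300003200002c00801e, nat_lit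 0x3300001300001800601e, nat_lit 0x33000039000034008026, nat_lit 0x37000039000038008016, nat_lit 0x37000035000038008018, nat_lit 0x3700003500003e00003000c02a, nat_lit 0x3b00005d00003c004014, nat_lit 0x3b00005500003c004020, nat_lit 0x3b00005100003c008022, nat_lit 0x3f00003c006010, nat_lit 0x3f00005d00004000c014, nat_lit 0x3f00006100003c00a01e, nat_lit 0x3f00005500004000c020, nat_lit 0x3f000051000040000022, nat_lit 0x4300006900004400401c, nat_lit 0x4300001f00002800801e, nat_lit 0x4300006d000044008026, nat_lit 0x4300006600002c000026, nat_lit 0x4700006d000048008012, nat_lit 0x4700006600003000401a]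
noncomputable def h8_b8_S1 : List ℕ := [nat_lit 0x47000069000048004024, nat_lit 0x4b00007900004c00401c, nat_lit 0x4b00007200004400801e, nat_lit 0x4b00002300002800601e, nat_lit 0x4b00007d00004c008026, nat_lit 0x4b000076000034000026, nat_lit 0x4f00007d000050008012, nat_lit 0x4f00007600003800401a, nat_lit 0x4f000079000050004024, nat_lit 0x12100004f00008200004800802a, nat_lit 0x53000099000054004024, nat_lit 0x57000099000058008018, nat_lit 0x570000a100005400c01a, nat_lit 0x5b0000a900005c004020, nat_lit 0x5b0000a500005c008022, nat_lit 0x5b00002f00000f00001c00004000402e, nat_lit 0x630000a900006400401c, nat_lit 0x630000a5000064008026, nat_lit 0x670000ad000068004024, nat_lit 0x670000b600004900009d00005400802c, nat_lit 0x6700003300003e00002c000054008032, nat_lit 0x6b0000ad00006c008018, nat_lit 0x6b0000b900006800c01a, nat_lit 0x6b0000b600004d00009d00005800802e, nat_lit 0x6f00003700003200003000006000402e, nat_lit 0x73000070006010, nat_lit 0x730000c100007400c020, nat_lit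 0x730000bd000074000022, nat_lit 0x7300003700001300001c00003c00a02e, nat_lit 0x770000c100007800401c, nat_lit 0x770000bd000078008026, nat_lit 0x7b0000c900017100401a, nat_lit 0x7b00003b00005a00002400005000802c, nat_lit 0x7f0000d900013d00401a, nat_lit 0x7f00003f00005a00002000004800602c, nat_lit 0x830000f6000054008012, nat_lit 0x830000e9000084004024, nat_lit 0x8300004300008100004c000116000068000159014036, nat_lit 0x830000430000480000fe0000a50000c5000078012038, nat_lit 0x870000f6000058008016, nat_lit 0x870000e9000088008018, nat_lit 0x870000f100008400c01a, nat_lit 0x870000e900008400019a00c02a, nat_lit 0x8f00010100009000401c, nat_lit 0x8f0000f9000090008026, nat_lit 0x8f0000fe000064000026, nat_lit 0x8f000047000044000084000196004032, nat_lit 0x8f0000f900004700006600002c000054000151008036, nat_lit 0x6f0000c60000640001b500008f0000470000440000f600002b00002d00000f00000700000900000100000900000800001400003200000f00001400003e00002c0000f500004300004802803a, nat_lit 0x18a0001c1000165000004,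 nat_lit 0x8b0001c100006f000002, nat_lit 0x1260001c100016200000e, nat_lit 0x1c500018a000004, nat_lit 0x1c500007f000008, nat_lit 0x17e0001c500018600000a, nat_lit 0x1c900008b000002, nat_lit 0x1ce00005f000002, nat_lit 0x1d9000182000002, nat_lit 0x1d900007b000008, nat_lit 0x1d900017e00000a, nat_lit 0x770001de00009000e01e, nat_lit 0x93000116000068008012, nat_lit 0x93000105000094004024, nat_lit 0x9300010e0000910000ed00008400802c]
noncomputable def h8_b8_S2 : List ℕ := [nat_lit 0x9300004b0000820000440000f6000054000131014036, nat_lit 0x9300004b00005000011e0000bd0000c6000064012038, nat_lit 0x9700011600006c008016, nat_lit 0x97000105000098008018, nat_lit 0x9700011100009400c01a, nat_lit 0x9700010500009400020600c02a, nat_lit 0x9700010e0000950000ed00008800802e, nat_lit 0x9700010500004b00008200004400008800c034, nat_lit 0x9b00012100009c00401c, nat_lit 0x9b0001e200006400601e, nat_lit 0x9b00011900009c008026, nat_lit 0x9b00011e000078000026, nat_lit 0x9b00004f00004c000094000202004032,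 nat_lit 0x22100009b0001260000900001be000152008034, nat_lit 0x9f00014d004010, nat_lit 0x9f00015100023900401e, nat_lit 0x9f0001290000a0004020, nat_lit 0x9f0000530000b100006800023900402c, nat_lit 0xa300015d004010, nat_lit 0xa30001320000a0004014, nat_lit 0xa300012d0000a4004020, nat_lit 0xa30000570000b100006c00024900402e, nat_lit 0xa70001350000a800401c, nat_lit 0xa700005b00006400801e, nat_lit 0xa70001e600009c00601e, nat_lit 0xa70001390000a8008026, nat_lit 0xab0001690000ac00401c, nat_lit 0xab0001d200009000801e, nat_lit 0xab00007300007800601e, nat_lit 0xab00016d0000ac008026, nat_lit 0xab0001ed0000a8000026, nat_lit 0xab0001d60000de0001e90000a8004032, nat_lit 0x2690000ab0001720000dd00013d0000a8008034, nat_lit 0xaf0001fd004010, nat_lit 0xaf00019600024900401e, nat_lit 0xaf0001910000b0004020, nat_lit 0xaf00018e0000a0008022, nat_lit 0xaf00008300010900009400028500402c, nat_lit 0xaf00019a0001f20001be00023900402e, nat_lit 0xb3000219004010, nat_lit 0xb30001a60000b0004014, nat_lit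 0xb300021d00029d00401e, nat_lit 0xb30001a10000b4004020, nat_lit 0xb300019e0000a4008022, nat_lit 0xb30001aa0001f20001ba00024900402c, nat_lit 0xb300008700010900009800029d00402e]
noncomputable def h8_b8_S : List (List ℕ) := [h8_b8_S0, h8_b8_S1, h8_b8_S2]
noncomputable def h8_b8_defs : List ℕ := [(nat_lit 0x100021001000200030001c003000160010001500100014003000130070001200400012003000110020001100700010004000100040000f0040000e0030000d0020000d0010000d0070000c0040000c0030000b0020000b0010000b0070000a0040000a0040000800300008004000070030000700200006001000060070000400300004007000030030000300300002002000020010000200700001003000010020000100100001007000000040000000000000)]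
noncomputable def h8_b8_recs : List ℕ := [(nat_lit 0x50000b00011000001100011000000a00010050001000010010000900010060001000010000000f0000f060000f0000f030000e0000f050000f0000f020000e0000f000000e0000e060000e0000e050000e0000e040000b0000d060000d0000d000000d0000d050000c0000c02000050000c010000a0000c060000c0000c060000b0000b000000b0000b050000a0000a01000050000a060000a0000a070000900009040000900009000000500009050000900009060000900009070000700008000000800008060000800008050000400008020000700008000000700007060000700007050000300007030000600006050000600006040000200006060000600006000000600006070000500005040000500005050000500005060000500005040000300004000000400004060000400004020000300004000000300003060000300003050000100002060000200002000000200002060000100001000000100001060000000000050000000000030000000000010000000000000000000000),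
  (nat_lit 0x1000200002406000240002400000190002402000230001d050001c00016040000e00016010001300016010000b0001301000110000dff000160001e040000f0001c02000110001cff0001700013ff0000d00022ff0001c0001fff000110001b070001900023040001a00023000001800023050002300023060002300023040001d00021050002000021060002100021000001500021070001d00020030001a0002006000200002000000140002002000110001f05000160001f01000130001e050001c0001e050001d0001d060001d0001d070000e0001c000001c0001c060001c0001c020001b0001c07000170001b01000150001a05000190001a060001a0001a030001400019010001400019060001900019050001800018060001800018070000f00016000001600016060001600016050001400015060001500015060001400014070001100013060001300013050000d00013000001300013000000c00012050001200012020000900012010001000012060001200012060001100011),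
  (nat_lit 0x70002c0002c04000280002c00000280002c060002c0002c030002c0002c050002b0002c01000250002c07000270002b040002b0002b00000270002b060002b0002b03000280002b01000240002b07000290002a04000290002a00000290002a050002a0002a020001d0002a01000230002a060002a0002a050002900029020002600029010001800029060002900029070002800028060002800028050002700028010001a00028040002700027060002700027030002700027010001900027070001400026040001500026000001d00026050002600026020001800026060002600026030002100025010002100025040001800025050002400025060002500025000001a00025070001800024030001500024)]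
noncomputable def h8_b8_L0 : List ℕ := [nat_lit 0x100000000000500000000000600000000000900000000000700000100000d00000000001100000000000b000002, nat_lit 0x1500000100000f00000300001300000400001700000500000800000000002600000200001900000100001b000006, nat_lit 0x1d00000200001f00000700002300000800002700000900005a00000600002500000100002100000200000c000000, nat_lit 0x2d00000300003200000400001000000100002b00000a00003e00000400006600000700002900000300002f00000b, nat_lit 0x3900000400001400000100003100000300003300000c00003d00000300007600000800003500000400003700000d, nat_lit 0x8e0000090000b600000c00009e00000a00001800000100004900000500004500000500004100000500004d000005, nat_lit 0x5100000600003b00000e00003f00000f00006100000600005900000200005d00000600005500000600001c000001, nat_lit 0x6d000007000072000008000020000002000043000010000047000011000065000003000069000007000082000008, nat_lit 0x7d00000800002400000200007100000700004b00001200004f000013000075000004000079000008000081000007,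 nat_lit 0x8d00000500010e0000120000ee000010000028000002000091000009000089000009000085000009000095000009, nat_lit 0xf600001000009d0000050000b200000c00002c0000030000530000140000a100000a00009900000a000057000015, nat_lit 0xa500000b00005b0000160001e20000130000630000170000c600000d0000fe0000110000a900000b000030000003, nat_lit 0x1160000120000b100000a0000b50000050000340000040000670000180000b900000c0000ad00000c00006b000019, nat_lit 0xbd00000d0001dd00001100007300001a00007700001b0000c500000b00011e0000130000c100000d000038000004, nat_lit 0xd100000e0000d600000f00003c0000060000de00000f0001ea0000160000c900000e0000cd00000e00017200001a, nat_lit 0xe500000f0000400000060000d500000e0000dd00000e0001d600001a0000d900000f0000e100000f00013e000016, nat_lit 0xf500000a0000ed00000900010a00001200004400000700008300001c0000f10000100000e900001000008700001d, nat_lit 0xf90000110001d200001a0001de00000d00008f00001e0000480000070000fd00000b000101000011000126000013, nat_lit 0x11500000c00010900001000010d00000900004c00000800009300001f000111000012000105000012000097000020,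 nat_lit 0x1190000130001e100000b0001e600001600009b00002100005000000800011d00000d000121000013000125000011, nat_lit 0x18e00001c00009f00002200014e00001800015200001800005400000a000132000015000129000014000236000021, nat_lit 0x19e00001d0000a300002300015e00001900020200001f00023200002100013100001400012d00001500005800000a, nat_lit 0x1390000160001e500001300005c00000b0000a70000240001e900000e0001ed00001a00013500001600013d00000f, nat_lit 0x1b600001e00022600002100025e00002400006400000b00021600002000014500001700014100001700020600001f, nat_lit 0x1f600001f00014d00001400023a00002200015100001400006800000c00015a0000190001490000180001be00001e, nat_lit 0x20a00002000015d00001500024a00002300019600001c0001ba00001e00015900001800015500001900006c00000c, nat_lit 0x16d00001a00007400000d0001d10000110000ab0000250001d500000f0001ee00001600016900001a00017100000e, nat_lit 0x22e0000210002720000250001f100001e00007800000d0001aa00001d00017900001b00017500001b00019a00001c, nat_lit 0x18d0000140000af0000260001fe00001f0001950000190000840000100001a600001d00019100001c00019900001b,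 nat_lit 0x19d0000150000b300002700021a00002000021e0000200001a900001b0001a500001c0001a100001d000088000010, nat_lit 0x1b50000170001f200001b00026e0000250000900000110001b90000190001b100001e0001ad00001e0001bd000018, nat_lit 0x1f50000180001fd00001c0002860000260002010000150000940000120002120000200001f900001f000205000017, nat_lit 0x20900001900021900001d00029e00002700021d00001d00021500001700021100001f00020d000020000098000012, nat_lit 0x22d00001b00026200002400022500001700009c000013000231000015000229000021000221000021000235000014, nat_lit 0x2920000260002390000180000a000001400023d00002200024500002200024e00002300024100002200029a000026, nat_lit 0x2ae0000270002490000190000a400001500028a0000260002b200002700024d000022000251000023000255000023, nat_lit 0x27a00002500025d0000170002610000210000a800001600027e000025000265000024000259000024000282000025, nat_lit 0x27900002400026d00001e00027100001b0000ac00001a00027d000024000275000025000269000025000281000024, nat_lit 0x29100002200028500001f0000b000001c0002890000230002950000260002a200002700028d000026000299000022,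 nat_lit 0x2ad00002300029d0000200000b400001d0002a50000270002b10000230002a10000260002a90000270002b5000027]
noncomputable def h8_b8_L : List (List ℕ) := [h8_b8_L0]
noncomputable def h8_b8_V : List ℕ := [(nat_lit 0x2c0000002b0000002a0000002900000028000000270000002600000025000000240000002300000021000000200000001d0000001c0000001a0000001900000018000000160000001500000014000000130000001200000011000000100000000f0000000e0000000d0000000c0000000b0000000a00000009000000080000000700000006000000050000000400000003000000020000000100000000)]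
noncomputable def h8_b8_D : H26.Dag := ⟨[0,2,1,3,4,5,6,7], [[0,0],
  [1,2],
  [2,1],
  [3,3],
  [4,4],
  [5,5],
  [6,6],
  [7,7],
  [1,1,1],
  [0,4,0,4],
  [1,5,2,5],
  [0,7,0,7],
  [6,7,6,7],
  [4,5,7,5],
  [3,6,3,6],
  [1,3,1,3],
  [1,6,2,6],
  [0,1,0,2],
  [4,6,4,6],
  [0,3,5,3],
  [0,5,0,5,6],
  [4,6,7,4,7],
  [1,4,1,4,1,4],
  [1,7,1,7,1,7],
  [4,5,6,7,5,6],
  [3,4,3,4,3,4],
  [3,6,7,3,7,3,7],
  [0,3,7,3,4,3,5,4],
  [0,4,3,7,4,3,4,5],
  [0,3,0,3,4,3,0,3,4,1,4,3,0,3,4,1,1,1,1,4,3,0,3,4,1]], [0,1,2,3], h8_b8_defs, h8_b8_recs⟩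
theorem h8_b8_c : h8_b8_D.checkTab h8_b8_S 40 8 h8_b8_V h8_b8_L = true := by decide +kernel
theorem h8_b8 : Bound h8_Rl 8 1920 :=
  bound_dag h8_b4 (K := 8) (J := [0,1,2,3,4,5,6,7,8,9,10,11,12,13,14,15,16,17,19,20,22,23,24,25,26,27,28,29,31,39]) (by decide +kernel) h8_b8_c (by decide +kernel)
theorem h8_P : PModel (nat_lit 32) (nat_lit 5) (nat_lit 31) (nat_lit 0xffbbcdeb38bdab49ca307b9ac5a928398a418820) h8_cs h8_Rl h8_L 1920 :=
  ⟨PkOK.of (by decide +kernel), by decide +kernel, by decide +kernel, h8_b8, ⟨h8_WW, by decide +kernel⟩,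
    ⟨fun c => Nat.mod c (nat_lit 827857), by decide +kernel⟩⟩
noncomputable def h8_soc_t0 : ST := (.node (nat_lit 321747) (.node (nat_lit 159882) (.node (nat_lit 72380) (.node (nat_lit 36190) (.node (nat_lit 17239) (.node (nat_lit 7947) (.node (nat_lit 3054) (.node (nat_lit 1064) (.node (nat_lit 872) (.node (nat_lit 542) (.leaf (nat_lit 653)) (.node (nat_lit 846) (.leaf (nat_lit 2)) (.leaf (nat_lit 1184)))) (.node (nat_lit 1003) (.node (nat_lit 987) (.leaf (nat_lit 802)) (.leaf (nat_lit 1152))) (.node (nat_lit 1042) (.leaf (nat_lit 1184)) (.leaf (nat_lit 1376))))) (.node (nat_lit 2134) (.node (nat_lit 1086) (.leaf (nat_lit 1348)) (.node (nat_lit 1705) (.leaf (nat_lit 2)) (.leaf (nat_lit 128)))) (.node (nat_lit 2381) (.node (nat_lit 2147) (.leaf (nat_lit 866)) (.leaf (nat_lit 1))) (.node (nat_lit 2859) (.leaf (nat_lit 128)) (.leaf (nat_lit 1088)))))) (.node (nat_lit 5160) (.node (nat_lit 4529) (.node (nat_lit 3062) (.leaf (nat_lit 866)) (.node (nat_lit 3882) (.leaf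 (nat_lit 1440)) (.leaf (nat_lit 96)))) (.node (nat_lit 5070) (.node (nat_lit 4878) (.leaf (nat_lit 1793)) (.leaf (nat_lit 653))) (.node (nat_lit 5155) (.leaf (nat_lit 96)) (.leaf (nat_lit 45))))) (.node (nat_lit 6024) (.node (nat_lit 5570) (.leaf (nat_lit 1287)) (.node (nat_lit 5702) (.leaf (nat_lit 833)) (.leaf (nat_lit 1)))) (.node (nat_lit 7489) (.node (nat_lit 6423) (.leaf (nat_lit 128)) (.leaf (nat_lit 1184))) (.node (nat_lit 7806) (.leaf (nat_lit 128)) (.leaf (nat_lit 5))))))) (.node (nat_lit 12283) (.node (nat_lit 9333) (.node (nat_lit 8309) (.node (nat_lit 8176) (.leaf (nat_lit 1088)) (.node (nat_lit 8190) (.leaf (nat_lit 736)) (.leaf (nat_lit 76)))) (.node (nat_lit 8751) (.node (nat_lit 8341) (.leaf (nat_lit 1376)) (.leaf (nat_lit 1440))) (.node (nat_lit 9029) (.leaf (nat_lit 1088)) (.leaf (nat_lit 192))))) (.node (nat_lit 10802) (.node (nat_lit 10135) (.leaf (nat_lit 4)) (.node (nat_lit 10403) (.leaf (nat_lit 1184)) (.leaf (nat_lit 1088)))) (.node (nat_lit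 11706) (.node (nat_lit 10839) (.leaf (nat_lit 1440)) (.leaf (nat_lit 1088))) (.node (nat_lit 11878) (.leaf (nat_lit 1440)) (.leaf (nat_lit 1504)))))) (.node (nat_lit 15736) (.node (nat_lit 13652) (.node (nat_lit 12524) (.leaf (nat_lit 513)) (.node (nat_lit 12534) (.leaf (nat_lit 1)) (.leaf (nat_lit 173)))) (.node (nat_lit 15155) (.node (nat_lit 14555) (.leaf (nat_lit 4)) (.leaf (nat_lit 2))) (.node (nat_lit 15728) (.leaf (nat_lit 1152)) (.leaf (nat_lit 1))))) (.node (nat_lit 16694) (.node (nat_lit 16165) (.leaf (nat_lit 1474)) (.node (nat_lit 16610) (.leaf (nat_lit 1729)) (.leaf (nat_lit 236)))) (.node (nat_lit 16755) (.node (nat_lit 16731) (.leaf (nat_lit 192)) (.leaf (nat_lit 1088))) (.node (nat_lit 16840) (.leaf (nat_lit 513)) (.leaf (nat_lit 128)))))))) (.node (nat_lit 26212) (.node (nat_lit 20284) (.node (nat_lit 17873) (.node (nat_lit 17405) (.node (nat_lit 17244) (.leaf (nat_lit 1440)) (.node (nat_lit 17346) (.leaf (nat_lit 1376)) (.leaf (nat_lit 288))))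 (.node (nat_lit 17597) (.node (nat_lit 17445) (.leaf (nat_lit 192)) (.leaf (nat_lit 1088))) (.node (nat_lit 17848) (.leaf (nat_lit 1)) (.leaf (nat_lit 652))))) (.node (nat_lit 19211) (.node (nat_lit 18779) (.leaf (nat_lit 1088)) (.node (nat_lit 18838) (.leaf (nat_lit 736)) (.leaf (nat_lit 1)))) (.node (nat_lit 19454) (.node (nat_lit 19437) (.leaf (nat_lit 1634)) (.leaf (nat_lit 288))) (.node (nat_lit 19769) (.leaf (nat_lit 1504)) (.leaf (nat_lit 513)))))) (.node (nat_lit 22509) (.node (nat_lit 21569) (.node (nat_lit 20675) (.leaf (nat_lit 5)) (.node (nat_lit 21068) (.leaf (nat_lit 769)) (.leaf (nat_lit 76)))) (.node (nat_lit 22161) (.node (nat_lit 21888) (.leaf (nat_lit 1376)) (.leaf (nat_lit 2))) (.node (nat_lit 22434) (.leaf (nat_lit 1)) (.leaf (nat_lit 1504))))) (.node (nat_lit 23751) (.node (nat_lit 23183) (.leaf (nat_lit 192)) (.node (nat_lit 23664) (.leaf (nat_lit 1793)) (.leaf (nat_lit 736)))) (.node (nat_lit 24315) (.node (nat_lit 24165) (.leaf (nat_lit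 1152)) (.leaf (nat_lit 384))) (.node (nat_lit 24553) (.leaf (nat_lit 1385)) (.leaf (nat_lit 1))))))) (.node (nat_lit 30769) (.node (nat_lit 28170) (.node (nat_lit 27203) (.node (nat_lit 26571) (.leaf (nat_lit 1410)) (.node (nat_lit 27018) (.leaf (nat_lit 802)) (.leaf (nat_lit 173)))) (.node (nat_lit 27698) (.node (nat_lit 27273) (.leaf (nat_lit 2)) (.leaf (nat_lit 1184))) (.node (nat_lit 27954) (.leaf (nat_lit 288)) (.leaf (nat_lit 1088))))) (.node (nat_lit 29683) (.node (nat_lit 29302) (.leaf (nat_lit 866)) (.node (nat_lit 29609) (.leaf (nat_lit 2)) (.leaf (nat_lit 288)))) (.node (nat_lit 30191) (.node (nat_lit 30089) (.leaf (nat_lit 384)) (.leaf (nat_lit 1152))) (.node (nat_lit 30641) (.leaf (nat_lit 1)) (.leaf (nat_lit 209)))))) (.node (nat_lit 33418) (.node (nat_lit 32328) (.node (nat_lit 30862) (.leaf (nat_lit 1)) (.node (nat_lit 31457) (.leaf (nat_lit 736)) (.leaf (nat_lit 2)))) (.node (nat_lit 32917) (.node (nat_lit 32910) (.leaf (nat_lit 1376)) (.leaf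 (nat_lit 513))) (.node (nat_lit 33378) (.leaf (nat_lit 226)) (.leaf (nat_lit 653))))) (.node (nat_lit 34419) (.node (nat_lit 34058) (.node (nat_lit 33949) (.leaf (nat_lit 652)) (.leaf (nat_lit 1057))) (.node (nat_lit 34253) (.leaf (nat_lit 769)) (.leaf (nat_lit 96)))) (.node (nat_lit 35305) (.node (nat_lit 34996) (.leaf (nat_lit 288)) (.leaf (nat_lit 1))) (.node (nat_lit 35954) (.leaf (nat_lit 1152)) (.leaf (nat_lit 192))))))))) (.node (nat_lit 51587) (.node (nat_lit 43846) (.node (nat_lit 38857) (.node (nat_lit 37605) (.node (nat_lit 36521) (.node (nat_lit 36194) (.leaf (nat_lit 1440)) (.node (nat_lit 36317) (.leaf (nat_lit 128)) (.leaf (nat_lit 162)))) (.node (nat_lit 37310) (.node (nat_lit 37016) (.leaf (nat_lit 736)) (.leaf (nat_lit 1))) (.node (nat_lit 37367) (.leaf (nat_lit 1376)) (.leaf (nat_lit 128))))) (.node (nat_lit 38068) (.node (nat_lit 37670) (.leaf (nat_lit 833)) (.node (nat_lit 37759) (.leaf (nat_lit 1)) (.leaf (nat_lit 1376)))) (.node (nat_lit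 38360) (.node (nat_lit 38295) (.leaf (nat_lit 173)) (.leaf (nat_lit 736))) (.node (nat_lit 38647) (.leaf (nat_lit 1440)) (.leaf (nat_lit 192)))))) (.node (nat_lit 41688) (.node (nat_lit 39109) (.node (nat_lit 38991) (.leaf (nat_lit 1152)) (.node (nat_lit 39034) (.leaf (nat_lit 1088)) (.leaf (nat_lit 652)))) (.node (nat_lit 39895) (.node (nat_lit 39167) (.leaf (nat_lit 2)) (.leaf (nat_lit 449))) (.node (nat_lit 41427) (.leaf (nat_lit 652)) (.leaf (nat_lit 1))))) (.node (nat_lit 43325) (.node (nat_lit 42877) (.leaf (nat_lit 5)) (.node (nat_lit 43277) (.leaf (nat_lit 1729)) (.leaf (nat_lit 449)))) (.node (nat_lit 43709) (.node (nat_lit 43405) (.leaf (nat_lit 1120)) (.leaf (nat_lit 1504))) (.node (nat_lit 43806) (.leaf (nat_lit 128)) (.leaf (nat_lit 2))))))) (.node (nat_lit 46608) (.node (nat_lit 44959) (.node (nat_lit 44354) (.node (nat_lit 44063) (.leaf (nat_lit 96)) (.node (nat_lit 44213) (.leaf (nat_lit 192)) (.leaf (nat_lit 1152)))) (.node (nat_lit 44551) (.node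 (nat_lit 44537) (.leaf (nat_lit 96)) (.leaf (nat_lit 1))) (.node (nat_lit 44683) (.leaf (nat_lit 192)) (.leaf (nat_lit 1184))))) (.node (nat_lit 45302) (.node (nat_lit 45008) (.leaf (nat_lit 1120)) (.node (nat_lit 45211) (.leaf (nat_lit 1504)) (.leaf (nat_lit 736)))) (.node (nat_lit 45906) (.node (nat_lit 45389) (.leaf (nat_lit 769)) (.leaf (nat_lit 1440))) (.node (nat_lit 46262) (.leaf (nat_lit 866)) (.leaf (nat_lit 1729)))))) (.node (nat_lit 49654) (.node (nat_lit 48031) (.node (nat_lit 46822) (.leaf (nat_lit 241)) (.node (nat_lit 47780) (.leaf (nat_lit 96)) (.leaf (nat_lit 384)))) (.node (nat_lit 49072) (.node (nat_lit 48577) (.leaf (nat_lit 4)) (.leaf (nat_lit 96))) (.node (nat_lit 49569) (.leaf (nat_lit 1316)) (.leaf (nat_lit 1088))))) (.node (nat_lit 50423) (.node (nat_lit 49894) (.leaf (nat_lit 1)) (.node (nat_lit 49969) (.leaf (nat_lit 1504)) (.leaf (nat_lit 226)))) (.node (nat_lit 51156) (.node (nat_lit 51043) (.leaf (nat_lit 1440)) (.leaf (nat_lit 900)))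 (.node (nat_lit 51428) (.leaf (nat_lit 384)) (.leaf (nat_lit 736)))))))) (.node (nat_lit 61103) (.node (nat_lit 56761) (.node (nat_lit 54324) (.node (nat_lit 53131) (.node (nat_lit 51635) (.leaf (nat_lit 1152)) (.node (nat_lit 52821) (.leaf (nat_lit 96)) (.leaf (nat_lit 192)))) (.node (nat_lit 53664) (.node (nat_lit 53555) (.leaf (nat_lit 1793)) (.leaf (nat_lit 192))) (.node (nat_lit 53736) (.leaf (nat_lit 736)) (.leaf (nat_lit 1410))))) (.node (nat_lit 55698) (.node (nat_lit 55255) (.leaf (nat_lit 1376)) (.node (nat_lit 55629) (.leaf (nat_lit 1184)) (.leaf (nat_lit 1152)))) (.node (nat_lit 56223) (.node (nat_lit 55839) (.leaf (nat_lit 833)) (.leaf (nat_lit 1152))) (.node (nat_lit 56535) (.leaf (nat_lit 2)) (.leaf (nat_lit 802)))))) (.node (nat_lit 58816) (.node (nat_lit 58235) (.node (nat_lit 57133) (.leaf (nat_lit 1088)) (.node (nat_lit 58030) (.leaf (nat_lit 1120)) (.leaf (nat_lit 1)))) (.node (nat_lit 58609) (.node (nat_lit 58377) (.leaf (nat_lit 1152)) (.leaf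 (nat_lit 1))) (.node (nat_lit 58665) (.leaf (nat_lit 2)) (.leaf (nat_lit 96))))) (.node (nat_lit 59282) (.node (nat_lit 58818) (.leaf (nat_lit 180)) (.node (nat_lit 59043) (.leaf (nat_lit 1440)) (.leaf (nat_lit 162)))) (.node (nat_lit 59637) (.node (nat_lit 59498) (.leaf (nat_lit 1)) (.leaf (nat_lit 173))) (.node (nat_lit 60695) (.leaf (nat_lit 192)) (.leaf (nat_lit 96))))))) (.node (nat_lit 64772) (.node (nat_lit 62685) (.node (nat_lit 61697) (.node (nat_lit 61334) (.leaf (nat_lit 1120)) (.node (nat_lit 61365) (.leaf (nat_lit 2)) (.leaf (nat_lit 128)))) (.node (nat_lit 61869) (.node (nat_lit 61767) (.leaf (nat_lit 1152)) (.leaf (nat_lit 96))) (.node (nat_lit 61896) (.leaf (nat_lit 1440)) (.leaf (nat_lit 1088))))) (.node (nat_lit 63460) (.node (nat_lit 62773) (.leaf (nat_lit 96)) (.node (nat_lit 63369) (.leaf (nat_lit 1793)) (.leaf (nat_lit 1)))) (.node (nat_lit 63681) (.node (nat_lit 63635) (.leaf (nat_lit 1088)) (.leaf (nat_lit 801))) (.node (nat_lit 63838)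 (.leaf (nat_lit 1)) (.leaf (nat_lit 1504)))))) (.node (nat_lit 68531) (.node (nat_lit 66252) (.node (nat_lit 65027) (.leaf (nat_lit 241)) (.node (nat_lit 65853) (.leaf (nat_lit 1088)) (.leaf (nat_lit 736)))) (.node (nat_lit 68149) (.node (nat_lit 67450) (.leaf (nat_lit 96)) (.leaf (nat_lit 1088))) (.node (nat_lit 68490) (.leaf (nat_lit 1152)) (.leaf (nat_lit 288))))) (.node (nat_lit 72014) (.node (nat_lit 71401) (.node (nat_lit 70297) (.leaf (nat_lit 1)) (.leaf (nat_lit 4))) (.node (nat_lit 71818) (.leaf (nat_lit 2)) (.leaf (nat_lit 961)))) (.node (nat_lit 72070) (.node (nat_lit 72047) (.leaf (nat_lit 1504)) (.leaf (nat_lit 45))) (.node (nat_lit 72354) (.leaf (nat_lit 1504)) (.leaf (nat_lit 1)))))))))) (.node (nat_lit 116061) (.node (nat_lit 95408) (.node (nat_lit 82978) (.node (nat_lit 79367) (.node (nat_lit 76610) (.node (nat_lit 73596) (.node (nat_lit 72626) (.leaf (nat_lit 192)) (.node (nat_lit 73408) (.leaf (nat_lit 1729)) (.leaf (nat_lit 96)))) (.node (nat_lit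 74732) (.node (nat_lit 74171) (.leaf (nat_lit 1057)) (.leaf (nat_lit 652))) (.node (nat_lit 75953) (.leaf (nat_lit 1)) (.leaf (nat_lit 802))))) (.node (nat_lit 76974) (.node (nat_lit 76734) (.leaf (nat_lit 128)) (.node (nat_lit 76835) (.leaf (nat_lit 1316)) (.leaf (nat_lit 0)))) (.node (nat_lit 78024) (.node (nat_lit 77640) (.leaf (nat_lit 96)) (.leaf (nat_lit 192))) (.node (nat_lit 78461) (.leaf (nat_lit 1440)) (.leaf (nat_lit 162)))))) (.node (nat_lit 81424) (.node (nat_lit 80564) (.node (nat_lit 79449) (.leaf (nat_lit 1793)) (.node (nat_lit 79960) (.leaf (nat_lit 1376)) (.leaf (nat_lit 241)))) (.node (nat_lit 81319) (.node (nat_lit 81117) (.leaf (nat_lit 128)) (.leaf (nat_lit 1474))) (.node (nat_lit 81406) (.leaf (nat_lit 1152)) (.leaf (nat_lit 2))))) (.node (nat_lit 82107) (.node (nat_lit 81757) (.leaf (nat_lit 288)) (.node (nat_lit 81930) (.leaf (nat_lit 1440)) (.leaf (nat_lit 5)))) (.node (nat_lit 82694) (.node (nat_lit 82228) (.leaf (nat_lit 961)) (.leaf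 (nat_lit 801))) (.node (nat_lit 82847) (.leaf (nat_lit 192)) (.leaf (nat_lit 76))))))) (.node (nat_lit 87495) (.node (nat_lit 84593) (.node (nat_lit 83477) (.node (nat_lit 83197) (.leaf (nat_lit 653)) (.node (nat_lit 83300) (.leaf (nat_lit 1316)) (.leaf (nat_lit 1440)))) (.node (nat_lit 83588) (.node (nat_lit 83523) (.leaf (nat_lit 288)) (.leaf (nat_lit 1152))) (.node (nat_lit 83879) (.leaf (nat_lit 513)) (.leaf (nat_lit 1152))))) (.node (nat_lit 85985) (.node (nat_lit 85271) (.leaf (nat_lit 1793)) (.node (nat_lit 85481) (.leaf (nat_lit 736)) (.leaf (nat_lit 1504)))) (.node (nat_lit 87125) (.node (nat_lit 86341) (.leaf (nat_lit 1440)) (.leaf (nat_lit 1152))) (.node (nat_lit 87185) (.leaf (nat_lit 192)) (.leaf (nat_lit 1088)))))) (.node (nat_lit 91946) (.node (nat_lit 89933) (.node (nat_lit 88061) (.leaf (nat_lit 1152)) (.node (nat_lit 89399) (.leaf (nat_lit 192)) (.leaf (nat_lit 1152)))) (.node (nat_lit 90656) (.node (nat_lit 90368) (.leaf (nat_lit 1376)) (.leaf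 (nat_lit 1440))) (.node (nat_lit 91608) (.leaf (nat_lit 736)) (.leaf (nat_lit 2))))) (.node (nat_lit 92828) (.node (nat_lit 91951) (.leaf (nat_lit 1)) (.node (nat_lit 92029) (.leaf (nat_lit 0)) (.leaf (nat_lit 288)))) (.node (nat_lit 93844) (.node (nat_lit 93573) (.leaf (nat_lit 2)) (.leaf (nat_lit 96))) (.node (nat_lit 95139) (.leaf (nat_lit 866)) (.leaf (nat_lit 1152)))))))) (.node (nat_lit 103505) (.node (nat_lit 99190) (.node (nat_lit 97517) (.node (nat_lit 96043) (.node (nat_lit 95421) (.leaf (nat_lit 1376)) (.node (nat_lit 95811) (.leaf (nat_lit 2)) (.leaf (nat_lit 192)))) (.node (nat_lit 96636) (.node (nat_lit 96157) (.leaf (nat_lit 1152)) (.leaf (nat_lit 1184))) (.node (nat_lit 96755) (.leaf (nat_lit 5)) (.leaf (nat_lit 192))))) (.node (nat_lit 98011) (.node (nat_lit 97807) (.leaf (nat_lit 961)) (.node (nat_lit 97904) (.leaf (nat_lit 1440)) (.leaf (nat_lit 866)))) (.node (nat_lit 98326) (.node (nat_lit 98325) (.leaf (nat_lit 192)) (.leaf (nat_lit 1729)))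 (.node (nat_lit 99164) (.leaf (nat_lit 162)) (.leaf (nat_lit 1)))))) (.node (nat_lit 101235) (.node (nat_lit 99622) (.node (nat_lit 99201) (.leaf (nat_lit 1634)) (.node (nat_lit 99320) (.leaf (nat_lit 653)) (.leaf (nat_lit 1729)))) (.node (nat_lit 100407) (.node (nat_lit 99775) (.leaf (nat_lit 1380)) (.leaf (nat_lit 1))) (.node (nat_lit 101193) (.leaf (nat_lit 1287)) (.leaf (nat_lit 1))))) (.node (nat_lit 101849) (.node (nat_lit 101787) (.leaf (nat_lit 384)) (.node (nat_lit 101797) (.leaf (nat_lit 1152)) (.leaf (nat_lit 1376)))) (.node (nat_lit 102412) (.node (nat_lit 102191) (.leaf (nat_lit 1088)) (.leaf (nat_lit 146))) (.node (nat_lit 103266) (.leaf (nat_lit 449)) (.leaf (nat_lit 1348))))))) (.node (nat_lit 109998) (.node (nat_lit 108690) (.node (nat_lit 105481) (.node (nat_lit 104962) (.leaf (nat_lit 1120)) (.node (nat_lit 105210) (.leaf (nat_lit 449)) (.leaf (nat_lit 1538)))) (.node (nat_lit 107757) (.node (nat_lit 105854) (.leaf (nat_lit 2)) (.leaf (nat_lit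 449))) (.node (nat_lit 108202) (.leaf (nat_lit 1)) (.leaf (nat_lit 4))))) (.node (nat_lit 109287) (.node (nat_lit 108796) (.leaf (nat_lit 96)) (.node (nat_lit 109152) (.leaf (nat_lit 1634)) (.leaf (nat_lit 1088)))) (.node (nat_lit 109563) (.node (nat_lit 109547) (.leaf (nat_lit 2)) (.leaf (nat_lit 192))) (.node (nat_lit 109842) (.leaf (nat_lit 5)) (.leaf (nat_lit 1)))))) (.node (nat_lit 114146) (.node (nat_lit 112393) (.node (nat_lit 110612) (.leaf (nat_lit 513)) (.node (nat_lit 111662) (.leaf (nat_lit 5)) (.leaf (nat_lit 736)))) (.node (nat_lit 113032) (.node (nat_lit 112827) (.leaf (nat_lit 1316)) (.leaf (nat_lit 1152))) (.node (nat_lit 113829) (.leaf (nat_lit 1504)) (.leaf (nat_lit 1088))))) (.node (nat_lit 114612) (.node (nat_lit 114233) (.node (nat_lit 114193) (.leaf (nat_lit 1)) (.leaf (nat_lit 449))) (.node (nat_lit 114431) (.leaf (nat_lit 513)) (.leaf (nat_lit 996)))) (.node (nat_lit 115855) (.node (nat_lit 115177) (.leaf (nat_lit 1474)) (.leaf (nat_lit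 2))) (.node (nat_lit 116015) (.leaf (nat_lit 1793)) (.leaf (nat_lit 128))))))))) (.node (nat_lit 137045) (.node (nat_lit 128674) (.node (nat_lit 121474) (.node (nat_lit 117588) (.node (nat_lit 116735) (.node (nat_lit 116105) (.leaf (nat_lit 1152)) (.node (nat_lit 116547) (.leaf (nat_lit 1)) (.leaf (nat_lit 1700)))) (.node (nat_lit 116988) (.node (nat_lit 116790) (.leaf (nat_lit 128)) (.leaf (nat_lit 1504))) (.node (nat_lit 117178) (.leaf (nat_lit 226)) (.leaf (nat_lit 128))))) (.node (nat_lit 120578) (.node (nat_lit 118685) (.leaf (nat_lit 1348)) (.node (nat_lit 119430) (.leaf (nat_lit 96)) (.leaf (nat_lit 1729)))) (.node (nat_lit 121236) (.node (nat_lit 120598) (.leaf (nat_lit 1410)) (.leaf (nat_lit 1088))) (.node (nat_lit 121307) (.leaf (nat_lit 1057)) (.leaf (nat_lit 1474)))))) (.node (nat_lit 124863) (.node (nat_lit 123019) (.node (nat_lit 121995) (.leaf (nat_lit 1)) (.node (nat_lit 122666) (.leaf (nat_lit 96)) (.leaf (nat_lit 652)))) (.node (nat_lit 123631)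 (.node (nat_lit 123120) (.leaf (nat_lit 1793)) (.leaf (nat_lit 1538))) (.node (nat_lit 123875) (.leaf (nat_lit 1316)) (.leaf (nat_lit 736))))) (.node (nat_lit 126875) (.node (nat_lit 126379) (.leaf (nat_lit 1)) (.node (nat_lit 126437) (.leaf (nat_lit 192)) (.leaf (nat_lit 1376)))) (.node (nat_lit 128649) (.node (nat_lit 127946) (.leaf (nat_lit 1152)) (.leaf (nat_lit 2))) (.node (nat_lit 128657) (.leaf (nat_lit 4)) (.leaf (nat_lit 96))))))) (.node (nat_lit 131764) (.node (nat_lit 130703) (.node (nat_lit 129119) (.node (nat_lit 128921) (.leaf (nat_lit 5)) (.node (nat_lit 128992) (.leaf (nat_lit 1088)) (.leaf (nat_lit 1348)))) (.node (nat_lit 130228) (.node (nat_lit 129836) (.leaf (nat_lit 1316)) (.leaf (nat_lit 1504))) (.node (nat_lit 130415) (.leaf (nat_lit 76)) (.leaf (nat_lit 1))))) (.node (nat_lit 131260) (.node (nat_lit 131165) (.leaf (nat_lit 449)) (.node (nat_lit 131203) (.leaf (nat_lit 652)) (.leaf (nat_lit 2)))) (.node (nat_lit 131466) (.node (nat_lit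 131434) (.leaf (nat_lit 178)) (.leaf (nat_lit 241))) (.node (nat_lit 131568) (.leaf (nat_lit 653)) (.leaf (nat_lit 96)))))) (.node (nat_lit 134525) (.node (nat_lit 132824) (.node (nat_lit 132078) (.leaf (nat_lit 128)) (.node (nat_lit 132371) (.leaf (nat_lit 866)) (.leaf (nat_lit 288)))) (.node (nat_lit 134389) (.node (nat_lit 132999) (.leaf (nat_lit 96)) (.leaf (nat_lit 1088))) (.node (nat_lit 134451) (.leaf (nat_lit 1)) (.leaf (nat_lit 1152))))) (.node (nat_lit 136250) (.node (nat_lit 135697) (.leaf (nat_lit 128)) (.node (nat_lit 135829) (.leaf (nat_lit 2)) (.leaf (nat_lit 449)))) (.node (nat_lit 136470) (.node (nat_lit 136271) (.leaf (nat_lit 178)) (.leaf (nat_lit 1))) (.node (nat_lit 136990) (.leaf (nat_lit 802)) (.leaf (nat_lit 1088)))))))) (.node (nat_lit 147460) (.node (nat_lit 142695) (.node (nat_lit 139707) (.node (nat_lit 137895) (.node (nat_lit 137576) (.leaf (nat_lit 1440)) (.node (nat_lit 137690) (.leaf (nat_lit 1410)) (.leaf (nat_lit 1504)))) (.node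 (nat_lit 138984) (.node (nat_lit 138429) (.leaf (nat_lit 128)) (.leaf (nat_lit 1088))) (.node (nat_lit 139514) (.leaf (nat_lit 1184)) (.leaf (nat_lit 513))))) (.node (nat_lit 139985) (.node (nat_lit 139845) (.leaf (nat_lit 96)) (.node (nat_lit 139861) (.leaf (nat_lit 1)) (.leaf (nat_lit 961)))) (.node (nat_lit 142287) (.node (nat_lit 140822) (.leaf (nat_lit 76)) (.leaf (nat_lit 1376))) (.node (nat_lit 142497) (.leaf (nat_lit 833)) (.leaf (nat_lit 1504)))))) (.node (nat_lit 144572) (.node (nat_lit 143557) (.node (nat_lit 142797) (.leaf (nat_lit 288)) (.node (nat_lit 142973) (.leaf (nat_lit 736)) (.leaf (nat_lit 1376)))) (.node (nat_lit 144396) (.node (nat_lit 144131) (.leaf (nat_lit 1793)) (.leaf (nat_lit 736))) (.node (nat_lit 144554) (.leaf (nat_lit 1)) (.leaf (nat_lit 76))))) (.node (nat_lit 146668) (.node (nat_lit 144607) (.leaf (nat_lit 1641)) (.node (nat_lit 144803) (.leaf (nat_lit 1376)) (.leaf (nat_lit 1088)))) (.node (nat_lit 146935) (.node (nat_lit 146695)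 (.leaf (nat_lit 802)) (.leaf (nat_lit 1))) (.node (nat_lit 146968) (.leaf (nat_lit 1057)) (.leaf (nat_lit 241))))))) (.node (nat_lit 153206) (.node (nat_lit 151424) (.node (nat_lit 150114) (.node (nat_lit 149921) (.leaf (nat_lit 2)) (.node (nat_lit 149923) (.leaf (nat_lit 802)) (.leaf (nat_lit 1088)))) (.node (nat_lit 151292) (.node (nat_lit 150386) (.leaf (nat_lit 833)) (.leaf (nat_lit 1088))) (.node (nat_lit 151323) (.leaf (nat_lit 736)) (.leaf (nat_lit 96))))) (.node (nat_lit 152374) (.node (nat_lit 151829) (.leaf (nat_lit 1)) (.node (nat_lit 151958) (.leaf (nat_lit 1152)) (.leaf (nat_lit 241)))) (.node (nat_lit 152686) (.node (nat_lit 152547) (.leaf (nat_lit 833)) (.leaf (nat_lit 1120))) (.node (nat_lit 152713) (.leaf (nat_lit 736)) (.leaf (nat_lit 1380)))))) (.node (nat_lit 155335) (.node (nat_lit 154388) (.node (nat_lit 153223) (.leaf (nat_lit 96)) (.node (nat_lit 153434) (.leaf (nat_lit 128)) (.leaf (nat_lit 2)))) (.node (nat_lit 155111) (.node (nat_lit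 154447) (.leaf (nat_lit 1440)) (.leaf (nat_lit 961))) (.node (nat_lit 155327) (.leaf (nat_lit 96)) (.leaf (nat_lit 1410))))) (.node (nat_lit 158120) (.node (nat_lit 155876) (.node (nat_lit 155567) (.leaf (nat_lit 128)) (.leaf (nat_lit 192))) (.node (nat_lit 157267) (.leaf (nat_lit 1504)) (.leaf (nat_lit 1)))) (.node (nat_lit 159786) (.node (nat_lit 159606) (.leaf (nat_lit 1348)) (.leaf (nat_lit 833))) (.node (nat_lit 159836) (.leaf (nat_lit 1184)) (.leaf (nat_lit 1504))))))))))) (.node (nat_lit 246578) (.node (nat_lit 204134) (.node (nat_lit 180725) (.node (nat_lit 171710) (.node (nat_lit 165715) (.node (nat_lit 163111) (.node (nat_lit 161991) (.node (nat_lit 160091) (.leaf (nat_lit 1474)) (.node (nat_lit 161348) (.leaf (nat_lit 96)) (.leaf (nat_lit 1504)))) (.node (nat_lit 162515) (.node (nat_lit 162340) (.leaf (nat_lit 1)) (.leaf (nat_lit 1504))) (.node (nat_lit 163009) (.leaf (nat_lit 802)) (.leaf (nat_lit 1700))))) (.node (nat_lit 164030) (.node (nat_lit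 163675) (.leaf (nat_lit 1)) (.node (nat_lit 163785) (.leaf (nat_lit 1641)) (.leaf (nat_lit 1376)))) (.node (nat_lit 164891) (.node (nat_lit 164381) (.leaf (nat_lit 1120)) (.leaf (nat_lit 1152))) (.node (nat_lit 165228) (.leaf (nat_lit 192)) (.leaf (nat_lit 76)))))) (.node (nat_lit 168509) (.node (nat_lit 167761) (.node (nat_lit 166153) (.leaf (nat_lit 769)) (.node (nat_lit 166995) (.leaf (nat_lit 384)) (.leaf (nat_lit 652)))) (.node (nat_lit 168366) (.node (nat_lit 168250) (.leaf (nat_lit 1793)) (.leaf (nat_lit 1))) (.node (nat_lit 168494) (.leaf (nat_lit 128)) (.leaf (nat_lit 2))))) (.node (nat_lit 169775) (.node (nat_lit 169034) (.leaf (nat_lit 128)) (.node (nat_lit 169058) (.leaf (nat_lit 736)) (.leaf (nat_lit 1504)))) (.node (nat_lit 170035) (.node (nat_lit 169970) (.leaf (nat_lit 449)) (.leaf (nat_lit 1))) (.node (nat_lit 170826) (.leaf (nat_lit 653)) (.leaf (nat_lit 1))))))) (.node (nat_lit 176009) (.node (nat_lit 173795) (.node (nat_lit 173113) (.node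 (nat_lit 171806) (.leaf (nat_lit 1152)) (.node (nat_lit 172367) (.leaf (nat_lit 736)) (.leaf (nat_lit 802)))) (.node (nat_lit 173160) (.node (nat_lit 173129) (.leaf (nat_lit 1184)) (.leaf (nat_lit 1152))) (.node (nat_lit 173457) (.leaf (nat_lit 128)) (.leaf (nat_lit 226))))) (.node (nat_lit 174648) (.node (nat_lit 174007) (.leaf (nat_lit 384)) (.node (nat_lit 174126) (.leaf (nat_lit 2)) (.leaf (nat_lit 226)))) (.node (nat_lit 175705) (.node (nat_lit 175044) (.leaf (nat_lit 1088)) (.leaf (nat_lit 1))) (.node (nat_lit 175918) (.leaf (nat_lit 1376)) (.leaf (nat_lit 652)))))) (.node (nat_lit 178256) (.node (nat_lit 176944) (.node (nat_lit 176163) (.leaf (nat_lit 2)) (.node (nat_lit 176869) (.leaf (nat_lit 1316)) (.leaf (nat_lit 2)))) (.node (nat_lit 177472) (.node (nat_lit 177055) (.leaf (nat_lit 1)) (.leaf (nat_lit 192))) (.node (nat_lit 178112) (.leaf (nat_lit 1120)) (.leaf (nat_lit 833))))) (.node (nat_lit 179133) (.node (nat_lit 178719) (.leaf (nat_lit 128))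 (.node (nat_lit 178812) (.leaf (nat_lit 1152)) (.leaf (nat_lit 1440)))) (.node (nat_lit 179755) (.node (nat_lit 179257) (.leaf (nat_lit 513)) (.leaf (nat_lit 128))) (.node (nat_lit 180048) (.leaf (nat_lit 162)) (.leaf (nat_lit 1634)))))))) (.node (nat_lit 191188) (.node (nat_lit 186014) (.node (nat_lit 183487) (.node (nat_lit 183051) (.node (nat_lit 181641) (.leaf (nat_lit 1316)) (.node (nat_lit 182150) (.leaf (nat_lit 736)) (.leaf (nat_lit 1504)))) (.node (nat_lit 183275) (.node (nat_lit 183079) (.leaf (nat_lit 1088)) (.leaf (nat_lit 1184))) (.node (nat_lit 183319) (.leaf (nat_lit 288)) (.leaf (nat_lit 513))))) (.node (nat_lit 185121) (.node (nat_lit 183720) (.leaf (nat_lit 288)) (.node (nat_lit 184060) (.leaf (nat_lit 1376)) (.leaf (nat_lit 802)))) (.node (nat_lit 185334) (.node (nat_lit 185193) (.leaf (nat_lit 192)) (.leaf (nat_lit 1152))) (.node (nat_lit 185668) (.leaf (nat_lit 128)) (.leaf (nat_lit 1088)))))) (.node (nat_lit 187393) (.node (nat_lit 186457)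 (.node (nat_lit 186110) (.leaf (nat_lit 384)) (.node (nat_lit 186341) (.leaf (nat_lit 2)) (.leaf (nat_lit 736)))) (.node (nat_lit 186831) (.node (nat_lit 186567) (.leaf (nat_lit 1120)) (.leaf (nat_lit 96))) (.node (nat_lit 187233) (.leaf (nat_lit 192)) (.leaf (nat_lit 1))))) (.node (nat_lit 189645) (.node (nat_lit 187935) (.leaf (nat_lit 1287)) (.node (nat_lit 189638) (.leaf (nat_lit 652)) (.leaf (nat_lit 1)))) (.node (nat_lit 190840) (.node (nat_lit 190159) (.leaf (nat_lit 1184)) (.leaf (nat_lit 1152))) (.node (nat_lit 190844) (.leaf (nat_lit 128)) (.leaf (nat_lit 961))))))) (.node (nat_lit 196411) (.node (nat_lit 194382) (.node (nat_lit 192714) (.node (nat_lit 191510) (.leaf (nat_lit 1376)) (.node (nat_lit 192676) (.leaf (nat_lit 769)) (.leaf (nat_lit 1376)))) (.node (nat_lit 193040) (.node (nat_lit 192750) (.leaf (nat_lit 236)) (.leaf (nat_lit 288))) (.node (nat_lit 193616) (.leaf (nat_lit 192)) (.leaf (nat_lit 1120))))) (.node (nat_lit 194757) (.node (nat_lit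 194668) (.leaf (nat_lit 1440)) (.node (nat_lit 194684) (.leaf (nat_lit 1504)) (.leaf (nat_lit 1376)))) (.node (nat_lit 196028) (.node (nat_lit 195169) (.leaf (nat_lit 1)) (.leaf (nat_lit 653))) (.node (nat_lit 196036) (.leaf (nat_lit 1474)) (.leaf (nat_lit 833)))))) (.node (nat_lit 199579) (.node (nat_lit 196898) (.node (nat_lit 196525) (.leaf (nat_lit 736)) (.node (nat_lit 196652) (.leaf (nat_lit 1)) (.leaf (nat_lit 1088)))) (.node (nat_lit 197578) (.node (nat_lit 196942) (.leaf (nat_lit 1)) (.leaf (nat_lit 1348))) (.node (nat_lit 198593) (.leaf (nat_lit 1538)) (.leaf (nat_lit 1184))))) (.node (nat_lit 202950) (.node (nat_lit 200690) (.node (nat_lit 199646) (.leaf (nat_lit 1376)) (.leaf (nat_lit 1))) (.node (nat_lit 200738) (.leaf (nat_lit 192)) (.leaf (nat_lit 833)))) (.node (nat_lit 203877) (.node (nat_lit 203201) (.leaf (nat_lit 1376)) (.leaf (nat_lit 0))) (.node (nat_lit 204121) (.leaf (nat_lit 1793)) (.leaf (nat_lit 513))))))))) (.node (nat_lit 225132)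 (.node (nat_lit 214642) (.node (nat_lit 211633) (.node (nat_lit 207714) (.node (nat_lit 205304) (.node (nat_lit 204720) (.leaf (nat_lit 2)) (.node (nat_lit 204932) (.leaf (nat_lit 1376)) (.leaf (nat_lit 128)))) (.node (nat_lit 206338) (.node (nat_lit 205897) (.leaf (nat_lit 241)) (.leaf (nat_lit 1))) (.node (nat_lit 206883) (.leaf (nat_lit 802)) (.leaf (nat_lit 1504))))) (.node (nat_lit 209660) (.node (nat_lit 208472) (.leaf (nat_lit 5)) (.node (nat_lit 209659) (.leaf (nat_lit 96)) (.leaf (nat_lit 128)))) (.node (nat_lit 211274) (.node (nat_lit 211087) (.leaf (nat_lit 1440)) (.leaf (nat_lit 1))) (.node (nat_lit 211535) (.leaf (nat_lit 1474)) (.leaf (nat_lit 1376)))))) (.node (nat_lit 212513) (.node (nat_lit 212129) (.node (nat_lit 212012) (.leaf (nat_lit 192)) (.node (nat_lit 212053) (.leaf (nat_lit 1)) (.leaf (nat_lit 1504)))) (.node (nat_lit 212341) (.node (nat_lit 212234) (.leaf (nat_lit 192)) (.leaf (nat_lit 241))) (.node (nat_lit 212347) (.leaf (nat_lit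 1184)) (.leaf (nat_lit 1440))))) (.node (nat_lit 213832) (.node (nat_lit 213361) (.leaf (nat_lit 288)) (.node (nat_lit 213674) (.leaf (nat_lit 996)) (.leaf (nat_lit 769)))) (.node (nat_lit 214244) (.node (nat_lit 214187) (.leaf (nat_lit 192)) (.leaf (nat_lit 1634))) (.node (nat_lit 214591) (.leaf (nat_lit 1316)) (.leaf (nat_lit 192))))))) (.node (nat_lit 220207) (.node (nat_lit 218473) (.node (nat_lit 216543) (.node (nat_lit 215902) (.leaf (nat_lit 1440)) (.node (nat_lit 216518) (.leaf (nat_lit 833)) (.leaf (nat_lit 736)))) (.node (nat_lit 217994) (.node (nat_lit 217311) (.leaf (nat_lit 961)) (.leaf (nat_lit 96))) (.node (nat_lit 218263) (.leaf (nat_lit 652)) (.leaf (nat_lit 1152))))) (.node (nat_lit 218734) (.node (nat_lit 218508) (.leaf (nat_lit 652)) (.node (nat_lit 218530) (.leaf (nat_lit 1)) (.leaf (nat_lit 1504)))) (.node (nat_lit 219176) (.node (nat_lit 218900) (.leaf (nat_lit 1088)) (.leaf (nat_lit 866))) (.node (nat_lit 219906) (.leaf (nat_lit 1)) (.leaf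 (nat_lit 866)))))) (.node (nat_lit 222597) (.node (nat_lit 221615) (.node (nat_lit 220286) (.leaf (nat_lit 1538)) (.node (nat_lit 221005) (.leaf (nat_lit 2)) (.leaf (nat_lit 1729)))) (.node (nat_lit 221898) (.node (nat_lit 221658) (.leaf (nat_lit 1440)) (.leaf (nat_lit 736))) (.node (nat_lit 222388) (.leaf (nat_lit 1410)) (.leaf (nat_lit 1474))))) (.node (nat_lit 223793) (.node (nat_lit 222599) (.leaf (nat_lit 96)) (.node (nat_lit 223199) (.leaf (nat_lit 1440)) (.leaf (nat_lit 4)))) (.node (nat_lit 224607) (.node (nat_lit 223914) (.leaf (nat_lit 1634)) (.leaf (nat_lit 1440))) (.node (nat_lit 225106) (.leaf (nat_lit 192)) (.leaf (nat_lit 384)))))))) (.node (nat_lit 234952) (.node (nat_lit 229526) (.node (nat_lit 227271) (.node (nat_lit 225738) (.node (nat_lit 225391) (.leaf (nat_lit 736)) (.node (nat_lit 225615) (.leaf (nat_lit 288)) (.leaf (nat_lit 653)))) (.node (nat_lit 225984) (.node (nat_lit 225830) (.leaf (nat_lit 2)) (.leaf (nat_lit 1348))) (.node (nat_lit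 226757) (.leaf (nat_lit 449)) (.leaf (nat_lit 192))))) (.node (nat_lit 227880) (.node (nat_lit 227474) (.leaf (nat_lit 1088)) (.node (nat_lit 227741) (.leaf (nat_lit 1057)) (.leaf (nat_lit 1376)))) (.node (nat_lit 228619) (.node (nat_lit 228156) (.leaf (nat_lit 45)) (.leaf (nat_lit 1729))) (.node (nat_lit 229418) (.leaf (nat_lit 449)) (.leaf (nat_lit 833)))))) (.node (nat_lit 231887) (.node (nat_lit 230988) (.node (nat_lit 229672) (.leaf (nat_lit 1088)) (.node (nat_lit 230014) (.leaf (nat_lit 1)) (.leaf (nat_lit 1348)))) (.node (nat_lit 231707) (.node (nat_lit 231518) (.leaf (nat_lit 1)) (.leaf (nat_lit 1088))) (.node (nat_lit 231776) (.leaf (nat_lit 1316)) (.leaf (nat_lit 5))))) (.node (nat_lit 233726) (.node (nat_lit 232920) (.leaf (nat_lit 1)) (.node (nat_lit 232964) (.leaf (nat_lit 1287)) (.leaf (nat_lit 1504)))) (.node (nat_lit 233858) (.node (nat_lit 233779) (.leaf (nat_lit 2)) (.leaf (nat_lit 1152))) (.node (nat_lit 234680) (.leaf (nat_lit 128)) (.leaf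 (nat_lit 1348))))))) (.node (nat_lit 240263) (.node (nat_lit 237317) (.node (nat_lit 235361) (.node (nat_lit 235012) (.leaf (nat_lit 1504)) (.node (nat_lit 235334) (.leaf (nat_lit 1088)) (.leaf (nat_lit 2)))) (.node (nat_lit 236471) (.node (nat_lit 235817) (.leaf (nat_lit 1088)) (.leaf (nat_lit 736))) (.node (nat_lit 236651) (.leaf (nat_lit 1)) (.leaf (nat_lit 384))))) (.node (nat_lit 238807) (.node (nat_lit 237711) (.leaf (nat_lit 128)) (.node (nat_lit 238117) (.leaf (nat_lit 1)) (.leaf (nat_lit 1538)))) (.node (nat_lit 239642) (.node (nat_lit 238851) (.leaf (nat_lit 1316)) (.leaf (nat_lit 1440))) (.node (nat_lit 239939) (.leaf (nat_lit 128)) (.leaf (nat_lit 1088)))))) (.node (nat_lit 243564) (.node (nat_lit 241443) (.node (nat_lit 240915) (.leaf (nat_lit 1)) (.node (nat_lit 240973) (.leaf (nat_lit 1088)) (.leaf (nat_lit 1)))) (.node (nat_lit 242871) (.node (nat_lit 242076) (.leaf (nat_lit 162)) (.leaf (nat_lit 5))) (.node (nat_lit 243266) (.leaf (nat_lit 128))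 (.leaf (nat_lit 769))))) (.node (nat_lit 244546) (.node (nat_lit 243930) (.node (nat_lit 243567) (.leaf (nat_lit 1088)) (.leaf (nat_lit 513))) (.node (nat_lit 243956) (.leaf (nat_lit 1)) (.leaf (nat_lit 1440)))) (.node (nat_lit 245368) (.node (nat_lit 244965) (.leaf (nat_lit 128)) (.leaf (nat_lit 96))) (.node (nat_lit 245985) (.leaf (nat_lit 1634)) (.leaf (nat_lit 833)))))))))) (.node (nat_lit 281722) (.node (nat_lit 261436) (.node (nat_lit 254587) (.node (nat_lit 249613) (.node (nat_lit 247997) (.node (nat_lit 247075) (.node (nat_lit 247032) (.leaf (nat_lit 1316)) (.node (nat_lit 247061) (.leaf (nat_lit 5)) (.leaf (nat_lit 961)))) (.node (nat_lit 247690) (.node (nat_lit 247080) (.leaf (nat_lit 1793)) (.leaf (nat_lit 1410))) (.node (nat_lit 247987) (.leaf (nat_lit 2)) (.leaf (nat_lit 1504))))) (.node (nat_lit 248522) (.node (nat_lit 248049) (.leaf (nat_lit 1152)) (.node (nat_lit 248320) (.leaf (nat_lit 1641)) (.leaf (nat_lit 1057)))) (.node (nat_lit 248981) (.node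 (nat_lit 248788) (.leaf (nat_lit 1348)) (.leaf (nat_lit 1410))) (.node (nat_lit 249392) (.leaf (nat_lit 736)) (.leaf (nat_lit 1440)))))) (.node (nat_lit 251806) (.node (nat_lit 250439) (.node (nat_lit 250199) (.leaf (nat_lit 1504)) (.node (nat_lit 250229) (.leaf (nat_lit 1316)) (.leaf (nat_lit 1793)))) (.node (nat_lit 250822) (.node (nat_lit 250626) (.leaf (nat_lit 96)) (.leaf (nat_lit 866))) (.node (nat_lit 251456) (.leaf (nat_lit 96)) (.leaf (nat_lit 288))))) (.node (nat_lit 252612) (.node (nat_lit 252103) (.leaf (nat_lit 653)) (.node (nat_lit 252164) (.leaf (nat_lit 1376)) (.leaf (nat_lit 96)))) (.node (nat_lit 253471) (.node (nat_lit 253433) (.leaf (nat_lit 1)) (.leaf (nat_lit 1376))) (.node (nat_lit 254556) (.leaf (nat_lit 128)) (.leaf (nat_lit 679))))))) (.node (nat_lit 257059) (.node (nat_lit 256144) (.node (nat_lit 254662) (.node (nat_lit 254603) (.leaf (nat_lit 1)) (.node (nat_lit 254613) (.leaf (nat_lit 1504)) (.leaf (nat_lit 128)))) (.node (nat_lit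 255904) (.node (nat_lit 255156) (.leaf (nat_lit 1152)) (.leaf (nat_lit 1))) (.node (nat_lit 256135) (.leaf (nat_lit 192)) (.leaf (nat_lit 513))))) (.node (nat_lit 256367) (.node (nat_lit 256307) (.leaf (nat_lit 1316)) (.node (nat_lit 256365) (.leaf (nat_lit 652)) (.leaf (nat_lit 1152)))) (.node (nat_lit 256729) (.node (nat_lit 256601) (.leaf (nat_lit 1088)) (.leaf (nat_lit 1641))) (.node (nat_lit 256972) (.leaf (nat_lit 1088)) (.leaf (nat_lit 736)))))) (.node (nat_lit 258486) (.node (nat_lit 258103) (.node (nat_lit 257430) (.leaf (nat_lit 1)) (.node (nat_lit 257762) (.leaf (nat_lit 736)) (.leaf (nat_lit 1)))) (.node (nat_lit 258155) (.node (nat_lit 258135) (.leaf (nat_lit 128)) (.leaf (nat_lit 1184))) (.node (nat_lit 258256) (.leaf (nat_lit 802)) (.leaf (nat_lit 1504))))) (.node (nat_lit 258892) (.node (nat_lit 258584) (.leaf (nat_lit 1)) (.node (nat_lit 258809) (.leaf (nat_lit 1504)) (.leaf (nat_lit 736)))) (.node (nat_lit 260230) (.node (nat_lit 259956) (.leaf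 (nat_lit 1152)) (.leaf (nat_lit 1440))) (.node (nat_lit 260299) (.leaf (nat_lit 449)) (.leaf (nat_lit 1)))))))) (.node (nat_lit 272048) (.node (nat_lit 267926) (.node (nat_lit 264418) (.node (nat_lit 262902) (.node (nat_lit 261922) (.leaf (nat_lit 1440)) (.node (nat_lit 262038) (.leaf (nat_lit 1)) (.leaf (nat_lit 833)))) (.node (nat_lit 263605) (.node (nat_lit 263403) (.leaf (nat_lit 1380)) (.leaf (nat_lit 1376))) (.node (nat_lit 263678) (.leaf (nat_lit 1)) (.leaf (nat_lit 1504))))) (.node (nat_lit 266081) (.node (nat_lit 265073) (.leaf (nat_lit 1440)) (.node (nat_lit 265759) (.leaf (nat_lit 2)) (.leaf (nat_lit 1287)))) (.node (nat_lit 266293) (.node (nat_lit 266111) (.leaf (nat_lit 1)) (.leaf (nat_lit 128))) (.node (nat_lit 266867) (.leaf (nat_lit 833)) (.leaf (nat_lit 1152)))))) (.node (nat_lit 269629) (.node (nat_lit 268653) (.node (nat_lit 268161) (.leaf (nat_lit 5)) (.node (nat_lit 268567) (.leaf (nat_lit 1152)) (.leaf (nat_lit 128)))) (.node (nat_lit 269420)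 (.node (nat_lit 268704) (.leaf (nat_lit 1120)) (.leaf (nat_lit 178))) (.node (nat_lit 269520) (.leaf (nat_lit 653)) (.leaf (nat_lit 128))))) (.node (nat_lit 270488) (.node (nat_lit 270000) (.leaf (nat_lit 1)) (.node (nat_lit 270024) (.leaf (nat_lit 1348)) (.leaf (nat_lit 513)))) (.node (nat_lit 271232) (.node (nat_lit 270873) (.leaf (nat_lit 384)) (.leaf (nat_lit 192))) (.node (nat_lit 271731) (.leaf (nat_lit 1287)) (.leaf (nat_lit 736))))))) (.node (nat_lit 275915) (.node (nat_lit 274008) (.node (nat_lit 273087) (.node (nat_lit 272740) (.leaf (nat_lit 1504)) (.node (nat_lit 272946) (.leaf (nat_lit 1)) (.leaf (nat_lit 1504)))) (.node (nat_lit 273267) (.node (nat_lit 273117) (.leaf (nat_lit 1380)) (.leaf (nat_lit 1152))) (.node (nat_lit 273643) (.leaf (nat_lit 736)) (.leaf (nat_lit 1120))))) (.node (nat_lit 274800) (.node (nat_lit 274163) (.leaf (nat_lit 5)) (.node (nat_lit 274371) (.leaf (nat_lit 192)) (.leaf (nat_lit 1120)))) (.node (nat_lit 274992) (.node (nat_lit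 274913) (.leaf (nat_lit 2)) (.leaf (nat_lit 1152))) (.node (nat_lit 275629) (.leaf (nat_lit 1)) (.leaf (nat_lit 96)))))) (.node (nat_lit 277553) (.node (nat_lit 276644) (.node (nat_lit 276047) (.leaf (nat_lit 1120)) (.node (nat_lit 276588) (.leaf (nat_lit 513)) (.leaf (nat_lit 128)))) (.node (nat_lit 277337) (.node (nat_lit 277323) (.leaf (nat_lit 736)) (.leaf (nat_lit 1088))) (.node (nat_lit 277542) (.leaf (nat_lit 1152)) (.leaf (nat_lit 1440))))) (.node (nat_lit 279601) (.node (nat_lit 278821) (.node (nat_lit 277641) (.leaf (nat_lit 961)) (.leaf (nat_lit 288))) (.node (nat_lit 279264) (.leaf (nat_lit 736)) (.leaf (nat_lit 2)))) (.node (nat_lit 280855) (.node (nat_lit 280730) (.leaf (nat_lit 1088)) (.leaf (nat_lit 96))) (.node (nat_lit 281683) (.leaf (nat_lit 1)) (.leaf (nat_lit 5))))))))) (.node (nat_lit 303534) (.node (nat_lit 293809) (.node (nat_lit 287634) (.node (nat_lit 285855) (.node (nat_lit 283581) (.node (nat_lit 282722) (.leaf (nat_lit 1088)) (.node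 (nat_lit 283557) (.leaf (nat_lit 5)) (.leaf (nat_lit 128)))) (.node (nat_lit 284269) (.node (nat_lit 283767) (.leaf (nat_lit 769)) (.leaf (nat_lit 0))) (.node (nat_lit 285747) (.leaf (nat_lit 1376)) (.leaf (nat_lit 76))))) (.node (nat_lit 286715) (.node (nat_lit 285932) (.leaf (nat_lit 1184)) (.node (nat_lit 286253) (.leaf (nat_lit 96)) (.leaf (nat_lit 192)))) (.node (nat_lit 287499) (.node (nat_lit 287097) (.leaf (nat_lit 2)) (.leaf (nat_lit 513))) (.node (nat_lit 287621) (.leaf (nat_lit 449)) (.leaf (nat_lit 1)))))) (.node (nat_lit 290530) (.node (nat_lit 288585) (.node (nat_lit 287848) (.leaf (nat_lit 1729)) (.node (nat_lit 288207) (.leaf (nat_lit 128)) (.leaf (nat_lit 1120)))) (.node (nat_lit 290039) (.node (nat_lit 289318) (.leaf (nat_lit 192)) (.leaf (nat_lit 1))) (.node (nat_lit 290228) (.leaf (nat_lit 1184)) (.leaf (nat_lit 173))))) (.node (nat_lit 292753) (.node (nat_lit 292407) (.leaf (nat_lit 1)) (.node (nat_lit 292734) (.leaf (nat_lit 192)) (.leaf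 (nat_lit 833)))) (.node (nat_lit 293722) (.node (nat_lit 293491) (.leaf (nat_lit 192)) (.leaf (nat_lit 1120))) (.node (nat_lit 293738) (.leaf (nat_lit 1474)) (.leaf (nat_lit 866))))))) (.node (nat_lit 298167) (.node (nat_lit 295862) (.node (nat_lit 294892) (.node (nat_lit 294714) (.leaf (nat_lit 1504)) (.node (nat_lit 294831) (.leaf (nat_lit 5)) (.leaf (nat_lit 226)))) (.node (nat_lit 295045) (.node (nat_lit 295015) (.leaf (nat_lit 449)) (.leaf (nat_lit 1604))) (.node (nat_lit 295723) (.leaf (nat_lit 1634)) (.leaf (nat_lit 2))))) (.node (nat_lit 296478) (.node (nat_lit 296269) (.leaf (nat_lit 1504)) (.node (nat_lit 296414) (.leaf (nat_lit 1)) (.leaf (nat_lit 1634)))) (.node (nat_lit 297894) (.node (nat_lit 297857) (.leaf (nat_lit 961)) (.leaf (nat_lit 1088))) (.node (nat_lit 298042) (.leaf (nat_lit 1504)) (.leaf (nat_lit 1)))))) (.node (nat_lit 300511) (.node (nat_lit 298964) (.node (nat_lit 298216) (.leaf (nat_lit 1793)) (.node (nat_lit 298690) (.leaf (nat_lit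 1)) (.leaf (nat_lit 2)))) (.node (nat_lit 299508) (.node (nat_lit 299374) (.leaf (nat_lit 866)) (.leaf (nat_lit 128))) (.node (nat_lit 299526) (.leaf (nat_lit 1504)) (.leaf (nat_lit 1729))))) (.node (nat_lit 302038) (.node (nat_lit 301496) (.node (nat_lit 301022) (.leaf (nat_lit 192)) (.leaf (nat_lit 128))) (.node (nat_lit 301747) (.leaf (nat_lit 1504)) (.leaf (nat_lit 192)))) (.node (nat_lit 302227) (.node (nat_lit 302139) (.leaf (nat_lit 1440)) (.leaf (nat_lit 5))) (.node (nat_lit 302452) (.leaf (nat_lit 1793)) (.leaf (nat_lit 2)))))))) (.node (nat_lit 312461) (.node (nat_lit 307754) (.node (nat_lit 305298) (.node (nat_lit 303700) (.node (nat_lit 303542) (.leaf (nat_lit 96)) (.node (nat_lit 303555) (.leaf (nat_lit 45)) (.leaf (nat_lit 802)))) (.node (nat_lit 304738) (.node (nat_lit 304582) (.leaf (nat_lit 1538)) (.leaf (nat_lit 2))) (.node (nat_lit 304957) (.leaf (nat_lit 1152)) (.leaf (nat_lit 96))))) (.node (nat_lit 305751) (.node (nat_lit 305482) (.leaf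 (nat_lit 5)) (.node (nat_lit 305721) (.leaf (nat_lit 802)) (.leaf (nat_lit 833)))) (.node (nat_lit 306657) (.node (nat_lit 306289) (.leaf (nat_lit 128)) (.leaf (nat_lit 96))) (.node (nat_lit 307013) (.leaf (nat_lit 1152)) (.leaf (nat_lit 5)))))) (.node (nat_lit 309510) (.node (nat_lit 308676) (.node (nat_lit 307838) (.leaf (nat_lit 1)) (.node (nat_lit 308093) (.leaf (nat_lit 2)) (.leaf (nat_lit 1)))) (.node (nat_lit 308715) (.node (nat_lit 308705) (.leaf (nat_lit 1316)) (.leaf (nat_lit 653))) (.node (nat_lit 309094) (.leaf (nat_lit 1641)) (.leaf (nat_lit 192))))) (.node (nat_lit 310003) (.node (nat_lit 309677) (.leaf (nat_lit 1504)) (.node (nat_lit 309941) (.leaf (nat_lit 226)) (.leaf (nat_lit 1700)))) (.node (nat_lit 312069) (.node (nat_lit 311740) (.leaf (nat_lit 1316)) (.leaf (nat_lit 513))) (.node (nat_lit 312258) (.leaf (nat_lit 1440)) (.leaf (nat_lit 162))))))) (.node (nat_lit 315977) (.node (nat_lit 314165) (.node (nat_lit 313084) (.node (nat_lit 312575)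 (.leaf (nat_lit 288)) (.node (nat_lit 312980) (.leaf (nat_lit 1538)) (.leaf (nat_lit 128)))) (.node (nat_lit 313850) (.node (nat_lit 313158) (.leaf (nat_lit 76)) (.leaf (nat_lit 241))) (.node (nat_lit 313860) (.leaf (nat_lit 5)) (.leaf (nat_lit 1088))))) (.node (nat_lit 315017) (.node (nat_lit 314243) (.leaf (nat_lit 1)) (.node (nat_lit 314635) (.leaf (nat_lit 128)) (.leaf (nat_lit 1376)))) (.node (nat_lit 315630) (.node (nat_lit 315529) (.leaf (nat_lit 1)) (.leaf (nat_lit 2))) (.node (nat_lit 315850) (.leaf (nat_lit 1729)) (.leaf (nat_lit 128)))))) (.node (nat_lit 319080) (.node (nat_lit 316696) (.node (nat_lit 316369) (.leaf (nat_lit 192)) (.node (nat_lit 316568) (.leaf (nat_lit 2)) (.leaf (nat_lit 178)))) (.node (nat_lit 317901) (.node (nat_lit 317275) (.leaf (nat_lit 192)) (.leaf (nat_lit 1088))) (.node (nat_lit 318576) (.leaf (nat_lit 449)) (.leaf (nat_lit 736))))) (.node (nat_lit 320115) (.node (nat_lit 319338) (.node (nat_lit 319290) (.leaf (nat_lit 96))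 (.leaf (nat_lit 736))) (.node (nat_lit 319717) (.leaf (nat_lit 1088)) (.leaf (nat_lit 1376)))) (.node (nat_lit 321113) (.node (nat_lit 320824) (.leaf (nat_lit 162)) (.leaf (nat_lit 1152))) (.node (nat_lit 321717) (.leaf (nat_lit 192)) (.leaf (nat_lit 96)))))))))))) (.node (nat_lit 491496) (.node (nat_lit 402607) (.node (nat_lit 365661) (.node (nat_lit 344556) (.node (nat_lit 329833) (.node (nat_lit 325819) (.node (nat_lit 324009) (.node (nat_lit 322960) (.node (nat_lit 321911) (.leaf (nat_lit 2)) (.node (nat_lit 322320) (.leaf (nat_lit 1152)) (.leaf (nat_lit 1316)))) (.node (nat_lit 323889) (.node (nat_lit 323016) (.leaf (nat_lit 45)) (.leaf (nat_lit 2))) (.node (nat_lit 323918) (.leaf (nat_lit 192)) (.leaf (nat_lit 5))))) (.node (nat_lit 325206) (.node (nat_lit 324704) (.leaf (nat_lit 1152)) (.node (nat_lit 325126) (.leaf (nat_lit 1)) (.leaf (nat_lit 1376)))) (.node (nat_lit 325549) (.node (nat_lit 325225) (.leaf (nat_lit 736)) (.leaf (nat_lit 1729))) (.node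 (nat_lit 325726) (.leaf (nat_lit 676)) (.leaf (nat_lit 1)))))) (.node (nat_lit 327853) (.node (nat_lit 327198) (.node (nat_lit 326255) (.leaf (nat_lit 513)) (.node (nat_lit 326787) (.leaf (nat_lit 1088)) (.leaf (nat_lit 288)))) (.node (nat_lit 327624) (.node (nat_lit 327431) (.leaf (nat_lit 1348)) (.leaf (nat_lit 226))) (.node (nat_lit 327708) (.leaf (nat_lit 513)) (.leaf (nat_lit 1))))) (.node (nat_lit 328924) (.node (nat_lit 327964) (.leaf (nat_lit 1440)) (.node (nat_lit 328023) (.leaf (nat_lit 1152)) (.leaf (nat_lit 1604)))) (.node (nat_lit 329390) (.node (nat_lit 329233) (.leaf (nat_lit 736)) (.leaf (nat_lit 1))) (.node (nat_lit 329639) (.leaf (nat_lit 736)) (.leaf (nat_lit 1504))))))) (.node (nat_lit 335343) (.node (nat_lit 333829) (.node (nat_lit 331492) (.node (nat_lit 330072) (.leaf (nat_lit 1410)) (.node (nat_lit 330226) (.leaf (nat_lit 384)) (.leaf (nat_lit 866)))) (.node (nat_lit 333174) (.node (nat_lit 331775) (.leaf (nat_lit 736)) (.leaf (nat_lit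 769))) (.node (nat_lit 333315) (.leaf (nat_lit 1184)) (.leaf (nat_lit 1152))))) (.node (nat_lit 334002) (.node (nat_lit 333919) (.leaf (nat_lit 1088)) (.node (nat_lit 333996) (.leaf (nat_lit 1120)) (.leaf (nat_lit 1348)))) (.node (nat_lit 334653) (.node (nat_lit 334275) (.leaf (nat_lit 1088)) (.leaf (nat_lit 1545))) (.node (nat_lit 335127) (.leaf (nat_lit 2)) (.leaf (nat_lit 192)))))) (.node (nat_lit 340637) (.node (nat_lit 339380) (.node (nat_lit 335395) (.leaf (nat_lit 833)) (.node (nat_lit 337600) (.leaf (nat_lit 449)) (.leaf (nat_lit 1440)))) (.node (nat_lit 340531) (.node (nat_lit 339792) (.leaf (nat_lit 1057)) (.leaf (nat_lit 2))) (.node (nat_lit 340581) (.leaf (nat_lit 676)) (.leaf (nat_lit 2))))) (.node (nat_lit 341664) (.node (nat_lit 340719) (.leaf (nat_lit 1440)) (.node (nat_lit 341546) (.leaf (nat_lit 769)) (.leaf (nat_lit 1440)))) (.node (nat_lit 342176) (.node (nat_lit 341959) (.leaf (nat_lit 1474)) (.leaf (nat_lit 2))) (.node (nat_lit 344546) (.leaf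 (nat_lit 961)) (.leaf (nat_lit 1316)))))))) (.node (nat_lit 357428) (.node (nat_lit 348959) (.node (nat_lit 347077) (.node (nat_lit 346817) (.node (nat_lit 345985) (.leaf (nat_lit 1348)) (.node (nat_lit 346263) (.leaf (nat_lit 1)) (.leaf (nat_lit 1120)))) (.node (nat_lit 347036) (.node (nat_lit 346864) (.leaf (nat_lit 1184)) (.leaf (nat_lit 128))) (.node (nat_lit 347054) (.leaf (nat_lit 2)) (.leaf (nat_lit 4))))) (.node (nat_lit 347461) (.node (nat_lit 347167) (.leaf (nat_lit 1376)) (.node (nat_lit 347420) (.leaf (nat_lit 2)) (.leaf (nat_lit 1474)))) (.node (nat_lit 347961) (.node (nat_lit 347815) (.leaf (nat_lit 288)) (.leaf (nat_lit 0))) (.node (nat_lit 348454) (.leaf (nat_lit 192)) (.leaf (nat_lit 1376)))))) (.node (nat_lit 351191) (.node (nat_lit 350599) (.node (nat_lit 349677) (.leaf (nat_lit 513)) (.node (nat_lit 349841) (.leaf (nat_lit 1152)) (.leaf (nat_lit 1729)))) (.node (nat_lit 350816) (.node (nat_lit 350642) (.leaf (nat_lit 192)) (.leaf (nat_lit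 1))) (.node (nat_lit 350984) (.leaf (nat_lit 653)) (.leaf (nat_lit 1))))) (.node (nat_lit 355074) (.node (nat_lit 351721) (.leaf (nat_lit 1088)) (.node (nat_lit 354393) (.leaf (nat_lit 128)) (.leaf (nat_lit 1504)))) (.node (nat_lit 355747) (.node (nat_lit 355411) (.leaf (nat_lit 173)) (.leaf (nat_lit 513))) (.node (nat_lit 356881) (.leaf (nat_lit 1)) (.leaf (nat_lit 1152))))))) (.node (nat_lit 361639) (.node (nat_lit 359422) (.node (nat_lit 358210) (.node (nat_lit 357744) (.leaf (nat_lit 1440)) (.node (nat_lit 358074) (.leaf (nat_lit 1504)) (.leaf (nat_lit 1152)))) (.node (nat_lit 358983) (.node (nat_lit 358576) (.leaf (nat_lit 1348)) (.leaf (nat_lit 1))) (.node (nat_lit 359153) (.leaf (nat_lit 5)) (.leaf (nat_lit 192))))) (.node (nat_lit 360212) (.node (nat_lit 359575) (.leaf (nat_lit 1)) (.node (nat_lit 360038) (.leaf (nat_lit 2)) (.leaf (nat_lit 1504)))) (.node (nat_lit 361074) (.node (nat_lit 360254) (.leaf (nat_lit 1641)) (.leaf (nat_lit 1376))) (.node (nat_lit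 361405) (.leaf (nat_lit 1088)) (.leaf (nat_lit 1440)))))) (.node (nat_lit 364063) (.node (nat_lit 363205) (.node (nat_lit 362916) (.leaf (nat_lit 652)) (.node (nat_lit 362963) (.leaf (nat_lit 513)) (.leaf (nat_lit 1793)))) (.node (nat_lit 363370) (.node (nat_lit 363217) (.leaf (nat_lit 736)) (.leaf (nat_lit 513))) (.node (nat_lit 363448) (.leaf (nat_lit 802)) (.leaf (nat_lit 1440))))) (.node (nat_lit 365079) (.node (nat_lit 364385) (.node (nat_lit 364220) (.leaf (nat_lit 1152)) (.leaf (nat_lit 1316))) (.node (nat_lit 364982) (.leaf (nat_lit 0)) (.leaf (nat_lit 96)))) (.node (nat_lit 365340) (.node (nat_lit 365249) (.leaf (nat_lit 1057)) (.leaf (nat_lit 1152))) (.node (nat_lit 365623) (.leaf (nat_lit 96)) (.leaf (nat_lit 1793))))))))) (.node (nat_lit 384845) (.node (nat_lit 376241) (.node (nat_lit 369637) (.node (nat_lit 367875) (.node (nat_lit 366409) (.node (nat_lit 365671) (.leaf (nat_lit 736)) (.node (nat_lit 366293) (.leaf (nat_lit 192)) (.leaf (nat_lit 802))))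 (.node (nat_lit 366926) (.node (nat_lit 366627) (.leaf (nat_lit 736)) (.leaf (nat_lit 128))) (.node (nat_lit 367609) (.leaf (nat_lit 5)) (.leaf (nat_lit 1))))) (.node (nat_lit 368942) (.node (nat_lit 368133) (.leaf (nat_lit 961)) (.node (nat_lit 368247) (.leaf (nat_lit 652)) (.leaf (nat_lit 1376)))) (.node (nat_lit 369198) (.node (nat_lit 369102) (.leaf (nat_lit 1)) (.leaf (nat_lit 736))) (.node (nat_lit 369435) (.leaf (nat_lit 1440)) (.leaf (nat_lit 736)))))) (.node (nat_lit 372573) (.node (nat_lit 370048) (.node (nat_lit 369938) (.leaf (nat_lit 1088)) (.node (nat_lit 369995) (.leaf (nat_lit 1504)) (.leaf (nat_lit 449)))) (.node (nat_lit 371470) (.node (nat_lit 370942) (.leaf (nat_lit 128)) (.leaf (nat_lit 1504))) (.node (nat_lit 372452) (.leaf (nat_lit 1440)) (.leaf (nat_lit 1088))))) (.node (nat_lit 374254) (.node (nat_lit 373191) (.leaf (nat_lit 1)) (.node (nat_lit 373253) (.leaf (nat_lit 96)) (.leaf (nat_lit 192)))) (.node (nat_lit 375126) (.node (nat_lit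 374293) (.leaf (nat_lit 736)) (.leaf (nat_lit 1))) (.node (nat_lit 375227) (.leaf (nat_lit 1376)) (.leaf (nat_lit 2))))))) (.node (nat_lit 380679) (.node (nat_lit 379115) (.node (nat_lit 378707) (.node (nat_lit 376956) (.leaf (nat_lit 681)) (.node (nat_lit 377483) (.leaf (nat_lit 1088)) (.leaf (nat_lit 192)))) (.node (nat_lit 378848) (.node (nat_lit 378768) (.leaf (nat_lit 1440)) (.leaf (nat_lit 1385))) (.node (nat_lit 378856) (.leaf (nat_lit 1)) (.leaf (nat_lit 652))))) (.node (nat_lit 379809) (.node (nat_lit 379387) (.leaf (nat_lit 1)) (.node (nat_lit 379623) (.leaf (nat_lit 1057)) (.leaf (nat_lit 513)))) (.node (nat_lit 380171) (.node (nat_lit 380054) (.leaf (nat_lit 96)) (.leaf (nat_lit 2))) (.node (nat_lit 380500) (.leaf (nat_lit 1)) (.leaf (nat_lit 652)))))) (.node (nat_lit 382184) (.node (nat_lit 381267) (.node (nat_lit 380994) (.leaf (nat_lit 128)) (.node (nat_lit 381179) (.leaf (nat_lit 1)) (.leaf (nat_lit 5)))) (.node (nat_lit 381593) (.node (nat_lit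 381362) (.leaf (nat_lit 1)) (.leaf (nat_lit 802))) (.node (nat_lit 381807) (.leaf (nat_lit 1152)) (.leaf (nat_lit 1120))))) (.node (nat_lit 382818) (.node (nat_lit 382318) (.leaf (nat_lit 1504)) (.node (nat_lit 382423) (.leaf (nat_lit 449)) (.leaf (nat_lit 192)))) (.node (nat_lit 384014) (.node (nat_lit 383121) (.leaf (nat_lit 2)) (.leaf (nat_lit 1504))) (.node (nat_lit 384614) (.leaf (nat_lit 1)) (.leaf (nat_lit 1088)))))))) (.node (nat_lit 395041) (.node (nat_lit 390389) (.node (nat_lit 387947) (.node (nat_lit 386473) (.node (nat_lit 384984) (.leaf (nat_lit 513)) (.node (nat_lit 385909) (.leaf (nat_lit 1)) (.leaf (nat_lit 128)))) (.node (nat_lit 387500) (.node (nat_lit 387050) (.leaf (nat_lit 192)) (.leaf (nat_lit 1410))) (.node (nat_lit 387943) (.leaf (nat_lit 1504)) (.leaf (nat_lit 1152))))) (.node (nat_lit 388491) (.node (nat_lit 388043) (.leaf (nat_lit 1440)) (.node (nat_lit 388404) (.leaf (nat_lit 384)) (.leaf (nat_lit 173)))) (.node (nat_lit 388880) (.node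 (nat_lit 388820) (.leaf (nat_lit 2)) (.leaf (nat_lit 1504))) (.node (nat_lit 390355) (.leaf (nat_lit 1088)) (.leaf (nat_lit 1152)))))) (.node (nat_lit 392792) (.node (nat_lit 391039) (.node (nat_lit 390781) (.leaf (nat_lit 1184)) (.node (nat_lit 390959) (.leaf (nat_lit 1088)) (.leaf (nat_lit 449)))) (.node (nat_lit 392037) (.node (nat_lit 391665) (.leaf (nat_lit 0)) (.leaf (nat_lit 226))) (.node (nat_lit 392199) (.leaf (nat_lit 449)) (.leaf (nat_lit 1088))))) (.node (nat_lit 393431) (.node (nat_lit 393037) (.leaf (nat_lit 1)) (.node (nat_lit 393346) (.leaf (nat_lit 1152)) (.leaf (nat_lit 1)))) (.node (nat_lit 394053) (.node (nat_lit 393739) (.leaf (nat_lit 1120)) (.leaf (nat_lit 1700))) (.node (nat_lit 394641) (.leaf (nat_lit 128)) (.leaf (nat_lit 1))))))) (.node (nat_lit 398031) (.node (nat_lit 396483) (.node (nat_lit 395705) (.node (nat_lit 395107) (.leaf (nat_lit 449)) (.node (nat_lit 395621) (.leaf (nat_lit 96)) (.leaf (nat_lit 1184)))) (.node (nat_lit 395916)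 (.node (nat_lit 395802) (.leaf (nat_lit 96)) (.leaf (nat_lit 1474))) (.node (nat_lit 396153) (.leaf (nat_lit 1376)) (.leaf (nat_lit 146))))) (.node (nat_lit 397073) (.node (nat_lit 396662) (.leaf (nat_lit 449)) (.node (nat_lit 396999) (.leaf (nat_lit 1)) (.leaf (nat_lit 384)))) (.node (nat_lit 397620) (.node (nat_lit 397379) (.leaf (nat_lit 76)) (.leaf (nat_lit 1440))) (.node (nat_lit 397688) (.leaf (nat_lit 769)) (.leaf (nat_lit 1)))))) (.node (nat_lit 400549) (.node (nat_lit 399150) (.node (nat_lit 398272) (.leaf (nat_lit 192)) (.node (nat_lit 398306) (.leaf (nat_lit 1287)) (.leaf (nat_lit 1729)))) (.node (nat_lit 400030) (.node (nat_lit 399359) (.leaf (nat_lit 513)) (.leaf (nat_lit 653))) (.node (nat_lit 400336) (.leaf (nat_lit 96)) (.leaf (nat_lit 5))))) (.node (nat_lit 401174) (.node (nat_lit 400914) (.node (nat_lit 400741) (.leaf (nat_lit 1184)) (.leaf (nat_lit 1))) (.node (nat_lit 400939) (.leaf (nat_lit 76)) (.leaf (nat_lit 961)))) (.node (nat_lit 401604)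 (.node (nat_lit 401538) (.leaf (nat_lit 1474)) (.leaf (nat_lit 1088))) (.node (nat_lit 402277) (.leaf (nat_lit 1)) (.leaf (nat_lit 96)))))))))) (.node (nat_lit 450263) (.node (nat_lit 425458) (.node (nat_lit 415381) (.node (nat_lit 409529) (.node (nat_lit 406436) (.node (nat_lit 403423) (.node (nat_lit 402840) (.leaf (nat_lit 2)) (.node (nat_lit 402907) (.leaf (nat_lit 1376)) (.leaf (nat_lit 226)))) (.node (nat_lit 404703) (.node (nat_lit 404454) (.leaf (nat_lit 243)) (.leaf (nat_lit 384))) (.node (nat_lit 405013) (.leaf (nat_lit 96)) (.leaf (nat_lit 128))))) (.node (nat_lit 407339) (.node (nat_lit 406949) (.leaf (nat_lit 1)) (.node (nat_lit 407037) (.leaf (nat_lit 1152)) (.leaf (nat_lit 1120)))) (.node (nat_lit 408842) (.node (nat_lit 407570) (.leaf (nat_lit 45)) (.leaf (nat_lit 1))) (.node (nat_lit 409319) (.leaf (nat_lit 833)) (.leaf (nat_lit 1729)))))) (.node (nat_lit 412878) (.node (nat_lit 411411) (.node (nat_lit 410113) (.leaf (nat_lit 653)) (.node (nat_lit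 410768) (.leaf (nat_lit 384)) (.leaf (nat_lit 1538)))) (.node (nat_lit 411836) (.node (nat_lit 411771) (.leaf (nat_lit 1634)) (.leaf (nat_lit 1440))) (.node (nat_lit 411905) (.leaf (nat_lit 2)) (.leaf (nat_lit 96))))) (.node (nat_lit 414672) (.node (nat_lit 413389) (.leaf (nat_lit 1316)) (.node (nat_lit 414431) (.leaf (nat_lit 736)) (.leaf (nat_lit 1474)))) (.node (nat_lit 414801) (.node (nat_lit 414732) (.leaf (nat_lit 384)) (.leaf (nat_lit 1376))) (.node (nat_lit 415003) (.leaf (nat_lit 1152)) (.leaf (nat_lit 1440))))))) (.node (nat_lit 420088) (.node (nat_lit 418439) (.node (nat_lit 416851) (.node (nat_lit 416627) (.leaf (nat_lit 2)) (.node (nat_lit 416781) (.leaf (nat_lit 192)) (.leaf (nat_lit 653)))) (.node (nat_lit 417848) (.node (nat_lit 417789) (.leaf (nat_lit 1)) (.leaf (nat_lit 1088))) (.node (nat_lit 418368) (.leaf (nat_lit 1)) (.leaf (nat_lit 1184))))) (.node (nat_lit 418984) (.node (nat_lit 418491) (.leaf (nat_lit 192)) (.node (nat_lit 418697) (.leaf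 (nat_lit 1)) (.leaf (nat_lit 1538)))) (.node (nat_lit 419691) (.node (nat_lit 419228) (.leaf (nat_lit 1152)) (.leaf (nat_lit 2))) (.node (nat_lit 420043) (.leaf (nat_lit 961)) (.leaf (nat_lit 1316)))))) (.node (nat_lit 422552) (.node (nat_lit 421098) (.node (nat_lit 420451) (.leaf (nat_lit 1504)) (.node (nat_lit 420720) (.leaf (nat_lit 226)) (.leaf (nat_lit 1120)))) (.node (nat_lit 421390) (.node (nat_lit 421256) (.leaf (nat_lit 1152)) (.leaf (nat_lit 1504))) (.node (nat_lit 421650) (.leaf (nat_lit 449)) (.leaf (nat_lit 653))))) (.node (nat_lit 424229) (.node (nat_lit 423499) (.leaf (nat_lit 1184)) (.node (nat_lit 423609) (.leaf (nat_lit 1)) (.leaf (nat_lit 1440)))) (.node (nat_lit 425411) (.node (nat_lit 424798) (.leaf (nat_lit 1793)) (.leaf (nat_lit 513))) (.node (nat_lit 425443) (.leaf (nat_lit 1152)) (.leaf (nat_lit 96)))))))) (.node (nat_lit 435247) (.node (nat_lit 430155) (.node (nat_lit 427457) (.node (nat_lit 426515) (.node (nat_lit 426225) (.leaf (nat_lit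 1729)) (.node (nat_lit 426362) (.leaf (nat_lit 1440)) (.leaf (nat_lit 1538)))) (.node (nat_lit 427136) (.node (nat_lit 427047) (.leaf (nat_lit 1)) (.leaf (nat_lit 2))) (.node (nat_lit 427167) (.leaf (nat_lit 1410)) (.leaf (nat_lit 1604))))) (.node (nat_lit 428484) (.node (nat_lit 427601) (.leaf (nat_lit 1088)) (.node (nat_lit 428220) (.leaf (nat_lit 1538)) (.leaf (nat_lit 384)))) (.node (nat_lit 428962) (.node (nat_lit 428732) (.leaf (nat_lit 2)) (.leaf (nat_lit 288))) (.node (nat_lit 430153) (.leaf (nat_lit 5)) (.leaf (nat_lit 1152)))))) (.node (nat_lit 433425) (.node (nat_lit 431933) (.node (nat_lit 430512) (.leaf (nat_lit 1)) (.node (nat_lit 431673) (.leaf (nat_lit 128)) (.leaf (nat_lit 192)))) (.node (nat_lit 433269) (.node (nat_lit 432938) (.leaf (nat_lit 513)) (.leaf (nat_lit 1120))) (.node (nat_lit 433326) (.leaf (nat_lit 96)) (.leaf (nat_lit 1))))) (.node (nat_lit 434337) (.node (nat_lit 433689) (.leaf (nat_lit 2)) (.node (nat_lit 434148) (.leaf (nat_lit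 1376)) (.leaf (nat_lit 1)))) (.node (nat_lit 434666) (.node (nat_lit 434582) (.leaf (nat_lit 1152)) (.leaf (nat_lit 736))) (.node (nat_lit 434843) (.leaf (nat_lit 1088)) (.leaf (nat_lit 1120))))))) (.node (nat_lit 440975) (.node (nat_lit 439264) (.node (nat_lit 438253) (.node (nat_lit 437389) (.leaf (nat_lit 96)) (.node (nat_lit 437883) (.leaf (nat_lit 192)) (.leaf (nat_lit 1440)))) (.node (nat_lit 438438) (.node (nat_lit 438323) (.leaf (nat_lit 1184)) (.leaf (nat_lit 1088))) (.node (nat_lit 438530) (.leaf (nat_lit 1)) (.leaf (nat_lit 2))))) (.node (nat_lit 440012) (.node (nat_lit 439275) (.leaf (nat_lit 653)) (.node (nat_lit 439854) (.leaf (nat_lit 1152)) (.leaf (nat_lit 1)))) (.node (nat_lit 440261) (.node (nat_lit 440123) (.leaf (nat_lit 513)) (.leaf (nat_lit 1376))) (.node (nat_lit 440270) (.leaf (nat_lit 1184)) (.leaf (nat_lit 866)))))) (.node (nat_lit 447170) (.node (nat_lit 441598) (.node (nat_lit 441186) (.leaf (nat_lit 1120)) (.node (nat_lit 441260)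 (.leaf (nat_lit 802)) (.leaf (nat_lit 736)))) (.node (nat_lit 445069) (.node (nat_lit 442516) (.leaf (nat_lit 1504)) (.leaf (nat_lit 1316))) (.node (nat_lit 445281) (.leaf (nat_lit 384)) (.leaf (nat_lit 653))))) (.node (nat_lit 448993) (.node (nat_lit 448205) (.node (nat_lit 447210) (.leaf (nat_lit 1057)) (.leaf (nat_lit 2))) (.node (nat_lit 448759) (.leaf (nat_lit 128)) (.leaf (nat_lit 996)))) (.node (nat_lit 450053) (.node (nat_lit 449071) (.leaf (nat_lit 1152)) (.leaf (nat_lit 226))) (.node (nat_lit 450208) (.leaf (nat_lit 128)) (.leaf (nat_lit 736))))))))) (.node (nat_lit 470399) (.node (nat_lit 458548) (.node (nat_lit 453768) (.node (nat_lit 452020) (.node (nat_lit 450856) (.node (nat_lit 450442) (.leaf (nat_lit 1440)) (.node (nat_lit 450810) (.leaf (nat_lit 1)) (.leaf (nat_lit 5)))) (.node (nat_lit 451281) (.node (nat_lit 451034) (.leaf (nat_lit 2)) (.leaf (nat_lit 96))) (.node (nat_lit 451355) (.leaf (nat_lit 1793)) (.leaf (nat_lit 192))))) (.node (nat_lit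 452845) (.node (nat_lit 452201) (.leaf (nat_lit 1634)) (.node (nat_lit 452729) (.leaf (nat_lit 1793)) (.leaf (nat_lit 833)))) (.node (nat_lit 453465) (.node (nat_lit 453177) (.leaf (nat_lit 1152)) (.leaf (nat_lit 1120))) (.node (nat_lit 453660) (.leaf (nat_lit 1287)) (.leaf (nat_lit 1504)))))) (.node (nat_lit 454849) (.node (nat_lit 454133) (.node (nat_lit 453869) (.leaf (nat_lit 1440)) (.node (nat_lit 453902) (.leaf (nat_lit 1287)) (.leaf (nat_lit 2)))) (.node (nat_lit 454475) (.node (nat_lit 454262) (.leaf (nat_lit 96)) (.leaf (nat_lit 513))) (.node (nat_lit 454709) (.leaf (nat_lit 996)) (.leaf (nat_lit 1088))))) (.node (nat_lit 455486) (.node (nat_lit 454962) (.leaf (nat_lit 1)) (.node (nat_lit 455084) (.leaf (nat_lit 2)) (.leaf (nat_lit 1)))) (.node (nat_lit 457903) (.node (nat_lit 457236) (.leaf (nat_lit 802)) (.leaf (nat_lit 736))) (.node (nat_lit 458511) (.leaf (nat_lit 513)) (.leaf (nat_lit 1120))))))) (.node (nat_lit 465553) (.node (nat_lit 461974) (.node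 (nat_lit 459850) (.node (nat_lit 459424) (.leaf (nat_lit 1)) (.node (nat_lit 459553) (.leaf (nat_lit 1088)) (.leaf (nat_lit 1152)))) (.node (nat_lit 460182) (.node (nat_lit 459949) (.leaf (nat_lit 180)) (.leaf (nat_lit 1504))) (.node (nat_lit 461957) (.leaf (nat_lit 1348)) (.leaf (nat_lit 162))))) (.node (nat_lit 462366) (.node (nat_lit 462051) (.leaf (nat_lit 736)) (.node (nat_lit 462132) (.leaf (nat_lit 4)) (.leaf (nat_lit 513)))) (.node (nat_lit 463755) (.node (nat_lit 462368) (.leaf (nat_lit 241)) (.leaf (nat_lit 1348))) (.node (nat_lit 463805) (.leaf (nat_lit 513)) (.leaf (nat_lit 1440)))))) (.node (nat_lit 467041) (.node (nat_lit 466051) (.node (nat_lit 465911) (.leaf (nat_lit 1)) (.node (nat_lit 465981) (.leaf (nat_lit 1410)) (.leaf (nat_lit 1)))) (.node (nat_lit 466352) (.node (nat_lit 466249) (.leaf (nat_lit 1088)) (.leaf (nat_lit 96))) (.node (nat_lit 466404) (.leaf (nat_lit 226)) (.leaf (nat_lit 1))))) (.node (nat_lit 467554) (.node (nat_lit 467240)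 (.node (nat_lit 467166) (.leaf (nat_lit 96)) (.leaf (nat_lit 2))) (.node (nat_lit 467319) (.leaf (nat_lit 1440)) (.leaf (nat_lit 1152)))) (.node (nat_lit 469202) (.node (nat_lit 468008) (.leaf (nat_lit 2)) (.leaf (nat_lit 5))) (.node (nat_lit 470360) (.leaf (nat_lit 1410)) (.leaf (nat_lit 1376)))))))) (.node (nat_lit 480449) (.node (nat_lit 474811) (.node (nat_lit 472758) (.node (nat_lit 471004) (.node (nat_lit 470569) (.leaf (nat_lit 1504)) (.node (nat_lit 470960) (.leaf (nat_lit 96)) (.leaf (nat_lit 1316)))) (.node (nat_lit 471430) (.node (nat_lit 471097) (.leaf (nat_lit 1504)) (.leaf (nat_lit 192))) (.node (nat_lit 472155) (.leaf (nat_lit 1)) (.leaf (nat_lit 2))))) (.node (nat_lit 472936) (.node (nat_lit 472829) (.leaf (nat_lit 1)) (.node (nat_lit 472869) (.leaf (nat_lit 96)) (.leaf (nat_lit 1057)))) (.node (nat_lit 473207) (.node (nat_lit 473053) (.leaf (nat_lit 1385)) (.leaf (nat_lit 5))) (.node (nat_lit 474214) (.leaf (nat_lit 1152)) (.leaf (nat_lit 1440))))))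 (.node (nat_lit 477317) (.node (nat_lit 476026) (.node (nat_lit 475638) (.leaf (nat_lit 1376)) (.node (nat_lit 475849) (.leaf (nat_lit 1348)) (.leaf (nat_lit 2)))) (.node (nat_lit 477063) (.node (nat_lit 476420) (.leaf (nat_lit 736)) (.leaf (nat_lit 1474))) (.node (nat_lit 477230) (.leaf (nat_lit 1)) (.leaf (nat_lit 653))))) (.node (nat_lit 479601) (.node (nat_lit 477419) (.leaf (nat_lit 1793)) (.node (nat_lit 478203) (.leaf (nat_lit 513)) (.leaf (nat_lit 192)))) (.node (nat_lit 480114) (.node (nat_lit 480103) (.leaf (nat_lit 833)) (.leaf (nat_lit 1088))) (.node (nat_lit 480437) (.leaf (nat_lit 1)) (.leaf (nat_lit 1316))))))) (.node (nat_lit 486756) (.node (nat_lit 483885) (.node (nat_lit 482559) (.node (nat_lit 481607) (.leaf (nat_lit 1)) (.node (nat_lit 481766) (.leaf (nat_lit 192)) (.leaf (nat_lit 652)))) (.node (nat_lit 483360) (.node (nat_lit 483326) (.leaf (nat_lit 1152)) (.leaf (nat_lit 162))) (.node (nat_lit 483704) (.leaf (nat_lit 1376)) (.leaf (nat_lit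 1088))))) (.node (nat_lit 485055) (.node (nat_lit 484247) (.leaf (nat_lit 0)) (.node (nat_lit 484806) (.leaf (nat_lit 1)) (.leaf (nat_lit 961)))) (.node (nat_lit 485775) (.node (nat_lit 485586) (.leaf (nat_lit 802)) (.leaf (nat_lit 1376))) (.node (nat_lit 486457) (.leaf (nat_lit 384)) (.leaf (nat_lit 2)))))) (.node (nat_lit 489284) (.node (nat_lit 487486) (.node (nat_lit 486815) (.leaf (nat_lit 652)) (.node (nat_lit 487045) (.leaf (nat_lit 513)) (.leaf (nat_lit 192)))) (.node (nat_lit 488331) (.node (nat_lit 487909) (.leaf (nat_lit 178)) (.leaf (nat_lit 1545))) (.node (nat_lit 488932) (.leaf (nat_lit 1)) (.leaf (nat_lit 128))))) (.node (nat_lit 490256) (.node (nat_lit 489987) (.node (nat_lit 489808) (.leaf (nat_lit 1348)) (.leaf (nat_lit 1634))) (.node (nat_lit 490183) (.leaf (nat_lit 1)) (.leaf (nat_lit 1440)))) (.node (nat_lit 490682) (.node (nat_lit 490400) (.leaf (nat_lit 128)) (.leaf (nat_lit 866))) (.node (nat_lit 490849) (.leaf (nat_lit 1057)) (.leaf (nat_lit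 0))))))))))) (.node (nat_lit 576769) (.node (nat_lit 531539) (.node (nat_lit 509161) (.node (nat_lit 499287) (.node (nat_lit 495317) (.node (nat_lit 494486) (.node (nat_lit 493075) (.node (nat_lit 492434) (.leaf (nat_lit 5)) (.node (nat_lit 492452) (.leaf (nat_lit 128)) (.leaf (nat_lit 736)))) (.node (nat_lit 493918) (.node (nat_lit 493728) (.leaf (nat_lit 1)) (.leaf (nat_lit 162))) (.node (nat_lit 494289) (.leaf (nat_lit 1440)) (.leaf (nat_lit 192))))) (.node (nat_lit 494935) (.node (nat_lit 494825) (.leaf (nat_lit 128)) (.node (nat_lit 494881) (.leaf (nat_lit 1152)) (.leaf (nat_lit 653)))) (.node (nat_lit 495148) (.node (nat_lit 494942) (.leaf (nat_lit 1410)) (.leaf (nat_lit 1504))) (.node (nat_lit 495203) (.leaf (nat_lit 2)) (.leaf (nat_lit 1440)))))) (.node (nat_lit 497853) (.node (nat_lit 497181) (.node (nat_lit 495553) (.leaf (nat_lit 288)) (.node (nat_lit 495939) (.leaf (nat_lit 96)) (.leaf (nat_lit 1120)))) (.node (nat_lit 497450) (.node (nat_lit 497289)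 (.leaf (nat_lit 192)) (.leaf (nat_lit 180))) (.node (nat_lit 497842) (.leaf (nat_lit 1729)) (.leaf (nat_lit 1504))))) (.node (nat_lit 498083) (.node (nat_lit 497863) (.leaf (nat_lit 1287)) (.node (nat_lit 498000) (.leaf (nat_lit 1729)) (.leaf (nat_lit 1088)))) (.node (nat_lit 498541) (.node (nat_lit 498457) (.leaf (nat_lit 192)) (.leaf (nat_lit 1))) (.node (nat_lit 498730) (.leaf (nat_lit 236)) (.leaf (nat_lit 1))))))) (.node (nat_lit 505193) (.node (nat_lit 501948) (.node (nat_lit 500185) (.node (nat_lit 499315) (.leaf (nat_lit 1088)) (.node (nat_lit 500144) (.leaf (nat_lit 209)) (.leaf (nat_lit 5)))) (.node (nat_lit 500722) (.node (nat_lit 500456) (.leaf (nat_lit 192)) (.leaf (nat_lit 1088))) (.node (nat_lit 501808) (.leaf (nat_lit 1376)) (.leaf (nat_lit 1))))) (.node (nat_lit 503746) (.node (nat_lit 502365) (.leaf (nat_lit 736)) (.node (nat_lit 503679) (.leaf (nat_lit 1)) (.leaf (nat_lit 128)))) (.node (nat_lit 504986) (.node (nat_lit 504773) (.leaf (nat_lit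 5)) (.leaf (nat_lit 96))) (.node (nat_lit 505086) (.leaf (nat_lit 866)) (.leaf (nat_lit 128)))))) (.node (nat_lit 506838) (.node (nat_lit 505813) (.node (nat_lit 505420) (.leaf (nat_lit 384)) (.node (nat_lit 505600) (.leaf (nat_lit 736)) (.leaf (nat_lit 1385)))) (.node (nat_lit 506669) (.node (nat_lit 506045) (.leaf (nat_lit 1)) (.leaf (nat_lit 96))) (.node (nat_lit 506778) (.leaf (nat_lit 1)) (.leaf (nat_lit 5))))) (.node (nat_lit 507439) (.node (nat_lit 506937) (.leaf (nat_lit 2)) (.node (nat_lit 507124) (.leaf (nat_lit 1)) (.leaf (nat_lit 1504)))) (.node (nat_lit 508213) (.node (nat_lit 508178) (.leaf (nat_lit 736)) (.leaf (nat_lit 1410))) (.node (nat_lit 508344) (.leaf (nat_lit 2)) (.leaf (nat_lit 1088)))))))) (.node (nat_lit 517837) (.node (nat_lit 514882) (.node (nat_lit 511476) (.node (nat_lit 510128) (.node (nat_lit 509750) (.leaf (nat_lit 1)) (.node (nat_lit 509857) (.leaf (nat_lit 736)) (.leaf (nat_lit 2)))) (.node (nat_lit 510949) (.node (nat_lit 510505)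 (.leaf (nat_lit 513)) (.leaf (nat_lit 961))) (.node (nat_lit 510974) (.leaf (nat_lit 128)) (.leaf (nat_lit 736))))) (.node (nat_lit 513257) (.node (nat_lit 511623) (.leaf (nat_lit 1)) (.node (nat_lit 512787) (.leaf (nat_lit 736)) (.leaf (nat_lit 5)))) (.node (nat_lit 513866) (.node (nat_lit 513836) (.leaf (nat_lit 1440)) (.leaf (nat_lit 5))) (.node (nat_lit 514315) (.leaf (nat_lit 236)) (.leaf (nat_lit 449)))))) (.node (nat_lit 516422) (.node (nat_lit 515333) (.node (nat_lit 515011) (.leaf (nat_lit 1504)) (.node (nat_lit 515034) (.leaf (nat_lit 1440)) (.leaf (nat_lit 1348)))) (.node (nat_lit 515704) (.node (nat_lit 515407) (.leaf (nat_lit 192)) (.leaf (nat_lit 1184))) (.node (nat_lit 516381) (.leaf (nat_lit 1376)) (.leaf (nat_lit 1057))))) (.node (nat_lit 517428) (.node (nat_lit 516854) (.leaf (nat_lit 2)) (.node (nat_lit 516865) (.leaf (nat_lit 1)) (.leaf (nat_lit 449)))) (.node (nat_lit 517726) (.node (nat_lit 517430) (.leaf (nat_lit 1385)) (.leaf (nat_lit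 1348))) (.node (nat_lit 517757) (.leaf (nat_lit 128)) (.leaf (nat_lit 449))))))) (.node (nat_lit 525023) (.node (nat_lit 522876) (.node (nat_lit 519653) (.node (nat_lit 517923) (.leaf (nat_lit 1376)) (.node (nat_lit 518184) (.leaf (nat_lit 1)) (.leaf (nat_lit 1504)))) (.node (nat_lit 521510) (.node (nat_lit 520182) (.leaf (nat_lit 2)) (.leaf (nat_lit 128))) (.node (nat_lit 521919) (.leaf (nat_lit 2)) (.leaf (nat_lit 1376))))) (.node (nat_lit 523733) (.node (nat_lit 523294) (.leaf (nat_lit 1)) (.node (nat_lit 523657) (.leaf (nat_lit 1088)) (.leaf (nat_lit 833)))) (.node (nat_lit 524264) (.node (nat_lit 523924) (.leaf (nat_lit 1)) (.leaf (nat_lit 679))) (.node (nat_lit 524994) (.leaf (nat_lit 1410)) (.leaf (nat_lit 192)))))) (.node (nat_lit 527973) (.node (nat_lit 525765) (.node (nat_lit 525126) (.leaf (nat_lit 5)) (.node (nat_lit 525480) (.leaf (nat_lit 513)) (.leaf (nat_lit 1088)))) (.node (nat_lit 526566) (.node (nat_lit 525944) (.leaf (nat_lit 1538)) (.leaf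 (nat_lit 1120))) (.node (nat_lit 526916) (.leaf (nat_lit 128)) (.leaf (nat_lit 96))))) (.node (nat_lit 529162) (.node (nat_lit 528910) (.node (nat_lit 528121) (.leaf (nat_lit 961)) (.leaf (nat_lit 1))) (.node (nat_lit 529044) (.leaf (nat_lit 192)) (.leaf (nat_lit 1088)))) (.node (nat_lit 530893) (.node (nat_lit 529729) (.leaf (nat_lit 2)) (.leaf (nat_lit 1376))) (.node (nat_lit 531333) (.leaf (nat_lit 1440)) (.leaf (nat_lit 1604))))))))) (.node (nat_lit 553519) (.node (nat_lit 544239) (.node (nat_lit 539462) (.node (nat_lit 535058) (.node (nat_lit 532872) (.node (nat_lit 532031) (.leaf (nat_lit 192)) (.node (nat_lit 532537) (.leaf (nat_lit 1)) (.leaf (nat_lit 513)))) (.node (nat_lit 533564) (.node (nat_lit 533122) (.leaf (nat_lit 1088)) (.leaf (nat_lit 5))) (.node (nat_lit 534067) (.leaf (nat_lit 833)) (.leaf (nat_lit 1440))))) (.node (nat_lit 538260) (.node (nat_lit 535120) (.leaf (nat_lit 1474)) (.node (nat_lit 536913) (.leaf (nat_lit 513)) (.leaf (nat_lit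 1440)))) (.node (nat_lit 539114) (.node (nat_lit 538380) (.leaf (nat_lit 1504)) (.leaf (nat_lit 1348))) (.node (nat_lit 539166) (.leaf (nat_lit 449)) (.leaf (nat_lit 5)))))) (.node (nat_lit 542042) (.node (nat_lit 540809) (.node (nat_lit 539532) (.leaf (nat_lit 192)) (.node (nat_lit 540075) (.leaf (nat_lit 833)) (.leaf (nat_lit 2)))) (.node (nat_lit 541359) (.node (nat_lit 540818) (.leaf (nat_lit 1)) (.leaf (nat_lit 802))) (.node (nat_lit 541977) (.leaf (nat_lit 1538)) (.leaf (nat_lit 5))))) (.node (nat_lit 542836) (.node (nat_lit 542478) (.leaf (nat_lit 288)) (.node (nat_lit 542567) (.leaf (nat_lit 801)) (.leaf (nat_lit 736)))) (.node (nat_lit 543369) (.node (nat_lit 543217) (.leaf (nat_lit 178)) (.leaf (nat_lit 384))) (.node (nat_lit 543729) (.leaf (nat_lit 653)) (.leaf (nat_lit 288))))))) (.node (nat_lit 548718) (.node (nat_lit 547516) (.node (nat_lit 545149) (.node (nat_lit 544407) (.leaf (nat_lit 1440)) (.node (nat_lit 544829) (.leaf (nat_lit 652)) (.leaf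 (nat_lit 1184)))) (.node (nat_lit 545902) (.node (nat_lit 545536) (.leaf (nat_lit 2)) (.leaf (nat_lit 1504))) (.node (nat_lit 546630) (.leaf (nat_lit 736)) (.leaf (nat_lit 1729))))) (.node (nat_lit 548249) (.node (nat_lit 547637) (.leaf (nat_lit 1440)) (.node (nat_lit 547729) (.leaf (nat_lit 236)) (.leaf (nat_lit 1088)))) (.node (nat_lit 548529) (.node (nat_lit 548256) (.leaf (nat_lit 1376)) (.leaf (nat_lit 736))) (.node (nat_lit 548715) (.leaf (nat_lit 226)) (.leaf (nat_lit 192)))))) (.node (nat_lit 551187) (.node (nat_lit 549140) (.node (nat_lit 548853) (.leaf (nat_lit 96)) (.node (nat_lit 548893) (.leaf (nat_lit 1504)) (.leaf (nat_lit 1088)))) (.node (nat_lit 549361) (.node (nat_lit 549328) (.leaf (nat_lit 128)) (.leaf (nat_lit 2))) (.node (nat_lit 550852) (.leaf (nat_lit 513)) (.leaf (nat_lit 769))))) (.node (nat_lit 552321) (.node (nat_lit 551963) (.leaf (nat_lit 192)) (.node (nat_lit 551968) (.leaf (nat_lit 1152)) (.leaf (nat_lit 178)))) (.node (nat_lit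 552615) (.node (nat_lit 552536) (.leaf (nat_lit 1504)) (.leaf (nat_lit 769))) (.node (nat_lit 553332) (.leaf (nat_lit 0)) (.leaf (nat_lit 384)))))))) (.node (nat_lit 563595) (.node (nat_lit 558721) (.node (nat_lit 556267) (.node (nat_lit 555011) (.node (nat_lit 554037) (.leaf (nat_lit 2)) (.node (nat_lit 554815) (.leaf (nat_lit 1)) (.leaf (nat_lit 243)))) (.node (nat_lit 555238) (.node (nat_lit 555080) (.leaf (nat_lit 1)) (.leaf (nat_lit 1088))) (.node (nat_lit 555727) (.leaf (nat_lit 1504)) (.leaf (nat_lit 996))))) (.node (nat_lit 557550) (.node (nat_lit 556640) (.leaf (nat_lit 1184)) (.node (nat_lit 557366) (.leaf (nat_lit 236)) (.leaf (nat_lit 128)))) (.node (nat_lit 558299) (.node (nat_lit 557854) (.leaf (nat_lit 5)) (.leaf (nat_lit 4))) (.node (nat_lit 558539) (.leaf (nat_lit 1152)) (.leaf (nat_lit 1729)))))) (.node (nat_lit 560417) (.node (nat_lit 560065) (.node (nat_lit 558959) (.leaf (nat_lit 1538)) (.node (nat_lit 559363) (.leaf (nat_lit 1088)) (.leaf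 (nat_lit 2)))) (.node (nat_lit 560320) (.node (nat_lit 560123) (.leaf (nat_lit 1440)) (.leaf (nat_lit 1))) (.node (nat_lit 560388) (.leaf (nat_lit 653)) (.leaf (nat_lit 1))))) (.node (nat_lit 562067) (.node (nat_lit 560734) (.leaf (nat_lit 513)) (.node (nat_lit 561175) (.leaf (nat_lit 288)) (.leaf (nat_lit 162)))) (.node (nat_lit 562871) (.node (nat_lit 562207) (.leaf (nat_lit 192)) (.leaf (nat_lit 2))) (.node (nat_lit 563076) (.leaf (nat_lit 802)) (.leaf (nat_lit 449))))))) (.node (nat_lit 567732) (.node (nat_lit 565246) (.node (nat_lit 564186) (.node (nat_lit 563624) (.leaf (nat_lit 802)) (.node (nat_lit 563745) (.leaf (nat_lit 513)) (.leaf (nat_lit 1)))) (.node (nat_lit 564325) (.node (nat_lit 564224) (.leaf (nat_lit 1152)) (.leaf (nat_lit 1504))) (.node (nat_lit 564361) (.leaf (nat_lit 449)) (.leaf (nat_lit 192))))) (.node (nat_lit 566325) (.node (nat_lit 565858) (.leaf (nat_lit 802)) (.node (nat_lit 566247) (.leaf (nat_lit 128)) (.leaf (nat_lit 1)))) (.node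 (nat_lit 567144) (.node (nat_lit 566517) (.leaf (nat_lit 192)) (.leaf (nat_lit 802))) (.node (nat_lit 567195) (.leaf (nat_lit 2)) (.leaf (nat_lit 1440)))))) (.node (nat_lit 571704) (.node (nat_lit 570090) (.node (nat_lit 569055) (.leaf (nat_lit 1634)) (.node (nat_lit 569324) (.leaf (nat_lit 1440)) (.leaf (nat_lit 178)))) (.node (nat_lit 571356) (.node (nat_lit 570682) (.leaf (nat_lit 1376)) (.leaf (nat_lit 1))) (.node (nat_lit 571634) (.leaf (nat_lit 1729)) (.leaf (nat_lit 769))))) (.node (nat_lit 572704) (.node (nat_lit 572325) (.node (nat_lit 571810) (.leaf (nat_lit 866)) (.leaf (nat_lit 1440))) (.node (nat_lit 572326) (.leaf (nat_lit 449)) (.leaf (nat_lit 736)))) (.node (nat_lit 573250) (.node (nat_lit 572719) (.leaf (nat_lit 833)) (.leaf (nat_lit 1))) (.node (nat_lit 575359) (.leaf (nat_lit 1316)) (.leaf (nat_lit 96)))))))))) (.node (nat_lit 615141) (.node (nat_lit 596318) (.node (nat_lit 585744) (.node (nat_lit 580911) (.node (nat_lit 578204) (.node (nat_lit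 577334) (.node (nat_lit 577164) (.leaf (nat_lit 1)) (.node (nat_lit 577197) (.leaf (nat_lit 681)) (.leaf (nat_lit 802)))) (.node (nat_lit 577870) (.node (nat_lit 577827) (.leaf (nat_lit 866)) (.leaf (nat_lit 96))) (.node (nat_lit 578130) (.leaf (nat_lit 1088)) (.leaf (nat_lit 288))))) (.node (nat_lit 579452) (.node (nat_lit 578921) (.leaf (nat_lit 384)) (.node (nat_lit 579230) (.leaf (nat_lit 1184)) (.leaf (nat_lit 1376)))) (.node (nat_lit 579986) (.node (nat_lit 579553) (.leaf (nat_lit 192)) (.leaf (nat_lit 449))) (.node (nat_lit 580539) (.leaf (nat_lit 1376)) (.leaf (nat_lit 1729)))))) (.node (nat_lit 584051) (.node (nat_lit 582214) (.node (nat_lit 581060) (.leaf (nat_lit 192)) (.node (nat_lit 581557) (.leaf (nat_lit 736)) (.leaf (nat_lit 1474)))) (.node (nat_lit 583082) (.node (nat_lit 582660) (.leaf (nat_lit 866)) (.leaf (nat_lit 833))) (.node (nat_lit 583375) (.leaf (nat_lit 288)) (.leaf (nat_lit 449))))) (.node (nat_lit 585317) (.node (nat_lit 585158) (.leaf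 (nat_lit 1120)) (.node (nat_lit 585301) (.leaf (nat_lit 736)) (.leaf (nat_lit 2)))) (.node (nat_lit 585444) (.node (nat_lit 585378) (.leaf (nat_lit 1)) (.leaf (nat_lit 833))) (.node (nat_lit 585682) (.leaf (nat_lit 1088)) (.leaf (nat_lit 1729))))))) (.node (nat_lit 590635) (.node (nat_lit 586996) (.node (nat_lit 586516) (.node (nat_lit 586280) (.leaf (nat_lit 513)) (.node (nat_lit 586382) (.leaf (nat_lit 1376)) (.leaf (nat_lit 1287)))) (.node (nat_lit 586687) (.node (nat_lit 586546) (.leaf (nat_lit 178)) (.leaf (nat_lit 652))) (.node (nat_lit 586948) (.leaf (nat_lit 1376)) (.leaf (nat_lit 1))))) (.node (nat_lit 588064) (.node (nat_lit 587860) (.leaf (nat_lit 1504)) (.node (nat_lit 587924) (.leaf (nat_lit 1440)) (.leaf (nat_lit 2)))) (.node (nat_lit 589323) (.node (nat_lit 588243) (.leaf (nat_lit 1152)) (.leaf (nat_lit 769))) (.node (nat_lit 589368) (.leaf (nat_lit 2)) (.leaf (nat_lit 1)))))) (.node (nat_lit 592252) (.node (nat_lit 591566) (.node (nat_lit 590945)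 (.leaf (nat_lit 1152)) (.node (nat_lit 591073) (.leaf (nat_lit 802)) (.leaf (nat_lit 900)))) (.node (nat_lit 592146) (.node (nat_lit 591771) (.leaf (nat_lit 76)) (.leaf (nat_lit 192))) (.node (nat_lit 592196) (.leaf (nat_lit 681)) (.leaf (nat_lit 2))))) (.node (nat_lit 593792) (.node (nat_lit 592584) (.leaf (nat_lit 1440)) (.node (nat_lit 593758) (.leaf (nat_lit 1504)) (.leaf (nat_lit 1057)))) (.node (nat_lit 595851) (.node (nat_lit 595358) (.leaf (nat_lit 1504)) (.leaf (nat_lit 736))) (.node (nat_lit 595964) (.leaf (nat_lit 96)) (.leaf (nat_lit 1504)))))))) (.node (nat_lit 607408) (.node (nat_lit 599948) (.node (nat_lit 597814) (.node (nat_lit 596983) (.node (nat_lit 596552) (.leaf (nat_lit 1440)) (.node (nat_lit 596905) (.leaf (nat_lit 4)) (.leaf (nat_lit 45)))) (.node (nat_lit 597088) (.node (nat_lit 597055) (.leaf (nat_lit 96)) (.leaf (nat_lit 1729))) (.node (nat_lit 597571) (.leaf (nat_lit 736)) (.leaf (nat_lit 1088))))) (.node (nat_lit 598564) (.node (nat_lit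 597942) (.leaf (nat_lit 736)) (.node (nat_lit 598476) (.leaf (nat_lit 96)) (.leaf (nat_lit 1474)))) (.node (nat_lit 599180) (.node (nat_lit 598782) (.leaf (nat_lit 1088)) (.leaf (nat_lit 2))) (.node (nat_lit 599846) (.leaf (nat_lit 288)) (.leaf (nat_lit 384)))))) (.node (nat_lit 603882) (.node (nat_lit 602011) (.node (nat_lit 600081) (.leaf (nat_lit 769)) (.node (nat_lit 601652) (.leaf (nat_lit 1)) (.leaf (nat_lit 866)))) (.node (nat_lit 603075) (.node (nat_lit 602418) (.leaf (nat_lit 1)) (.leaf (nat_lit 513))) (.node (nat_lit 603802) (.leaf (nat_lit 192)) (.leaf (nat_lit 384))))) (.node (nat_lit 605397) (.node (nat_lit 604805) (.leaf (nat_lit 1088)) (.node (nat_lit 605237) (.leaf (nat_lit 1634)) (.leaf (nat_lit 288)))) (.node (nat_lit 606068) (.node (nat_lit 605778) (.leaf (nat_lit 1793)) (.leaf (nat_lit 5))) (.node (nat_lit 607031) (.leaf (nat_lit 128)) (.leaf (nat_lit 2))))))) (.node (nat_lit 610860) (.node (nat_lit 609029) (.node (nat_lit 607907) (.node (nat_lit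 607615) (.leaf (nat_lit 1348)) (.node (nat_lit 607722) (.leaf (nat_lit 128)) (.leaf (nat_lit 384)))) (.node (nat_lit 608555) (.node (nat_lit 608362) (.leaf (nat_lit 513)) (.leaf (nat_lit 2))) (.node (nat_lit 608645) (.leaf (nat_lit 1088)) (.leaf (nat_lit 1152))))) (.node (nat_lit 610145) (.node (nat_lit 609171) (.leaf (nat_lit 1440)) (.node (nat_lit 610107) (.leaf (nat_lit 1184)) (.leaf (nat_lit 180)))) (.node (nat_lit 610299) (.node (nat_lit 610218) (.leaf (nat_lit 2)) (.leaf (nat_lit 1504))) (.node (nat_lit 610364) (.leaf (nat_lit 0)) (.leaf (nat_lit 736)))))) (.node (nat_lit 612402) (.node (nat_lit 611381) (.node (nat_lit 611024) (.leaf (nat_lit 1440)) (.node (nat_lit 611294) (.leaf (nat_lit 1504)) (.leaf (nat_lit 866)))) (.node (nat_lit 611569) (.node (nat_lit 611443) (.leaf (nat_lit 1729)) (.leaf (nat_lit 2))) (.node (nat_lit 611700) (.leaf (nat_lit 128)) (.leaf (nat_lit 1))))) (.node (nat_lit 612745) (.node (nat_lit 612411) (.node (nat_lit 612409) (.leaf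 (nat_lit 5)) (.leaf (nat_lit 192))) (.node (nat_lit 612616) (.leaf (nat_lit 833)) (.leaf (nat_lit 1088)))) (.node (nat_lit 613699) (.node (nat_lit 613477) (.leaf (nat_lit 192)) (.leaf (nat_lit 2))) (.node (nat_lit 615067) (.leaf (nat_lit 1152)) (.leaf (nat_lit 1))))))))) (.node (nat_lit 639782) (.node (nat_lit 631813) (.node (nat_lit 621610) (.node (nat_lit 618205) (.node (nat_lit 616381) (.node (nat_lit 615171) (.leaf (nat_lit 192)) (.node (nat_lit 615760) (.leaf (nat_lit 1120)) (.leaf (nat_lit 96)))) (.node (nat_lit 616835) (.node (nat_lit 616487) (.leaf (nat_lit 1)) (.leaf (nat_lit 96))) (.node (nat_lit 617207) (.leaf (nat_lit 128)) (.leaf (nat_lit 1120))))) (.node (nat_lit 619172) (.node (nat_lit 618242) (.leaf (nat_lit 1152)) (.node (nat_lit 618818) (.leaf (nat_lit 128)) (.leaf (nat_lit 4)))) (.node (nat_lit 620761) (.node (nat_lit 619983) (.leaf (nat_lit 1316)) (.leaf (nat_lit 1793))) (.node (nat_lit 621252) (.leaf (nat_lit 1)) (.leaf (nat_lit 1088))))))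 (.node (nat_lit 624405) (.node (nat_lit 622791) (.node (nat_lit 622205) (.leaf (nat_lit 449)) (.node (nat_lit 622632) (.leaf (nat_lit 128)) (.leaf (nat_lit 384)))) (.node (nat_lit 623240) (.node (nat_lit 622980) (.leaf (nat_lit 96)) (.leaf (nat_lit 384))) (.node (nat_lit 623361) (.leaf (nat_lit 1440)) (.leaf (nat_lit 1))))) (.node (nat_lit 626339) (.node (nat_lit 625589) (.leaf (nat_lit 1152)) (.node (nat_lit 625943) (.leaf (nat_lit 96)) (.leaf (nat_lit 1)))) (.node (nat_lit 629914) (.node (nat_lit 626956) (.leaf (nat_lit 449)) (.leaf (nat_lit 866))) (.node (nat_lit 630366) (.leaf (nat_lit 1057)) (.leaf (nat_lit 1287))))))) (.node (nat_lit 634531) (.node (nat_lit 632810) (.node (nat_lit 631998) (.node (nat_lit 631851) (.leaf (nat_lit 2)) (.node (nat_lit 631904) (.leaf (nat_lit 1)) (.leaf (nat_lit 736)))) (.node (nat_lit 632550) (.node (nat_lit 632294) (.leaf (nat_lit 288)) (.leaf (nat_lit 128))) (.node (nat_lit 632787) (.leaf (nat_lit 652)) (.leaf (nat_lit 801)))))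 (.node (nat_lit 633600) (.node (nat_lit 633181) (.leaf (nat_lit 5)) (.node (nat_lit 633422) (.leaf (nat_lit 1152)) (.leaf (nat_lit 241)))) (.node (nat_lit 634253) (.node (nat_lit 634062) (.leaf (nat_lit 1)) (.leaf (nat_lit 961))) (.node (nat_lit 634315) (.leaf (nat_lit 1538)) (.leaf (nat_lit 1376)))))) (.node (nat_lit 636856) (.node (nat_lit 635597) (.node (nat_lit 635439) (.leaf (nat_lit 996)) (.node (nat_lit 635476) (.leaf (nat_lit 736)) (.leaf (nat_lit 1380)))) (.node (nat_lit 636192) (.node (nat_lit 635893) (.leaf (nat_lit 2)) (.leaf (nat_lit 1440))) (.node (nat_lit 636582) (.leaf (nat_lit 128)) (.leaf (nat_lit 5))))) (.node (nat_lit 637914) (.node (nat_lit 637719) (.node (nat_lit 636961) (.leaf (nat_lit 96)) (.leaf (nat_lit 128))) (.node (nat_lit 637887) (.leaf (nat_lit 802)) (.leaf (nat_lit 449)))) (.node (nat_lit 639562) (.node (nat_lit 637990) (.leaf (nat_lit 1504)) (.leaf (nat_lit 178))) (.node (nat_lit 639770) (.leaf (nat_lit 1440)) (.leaf (nat_lit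 1)))))))) (.node (nat_lit 648119) (.node (nat_lit 644500) (.node (nat_lit 642766) (.node (nat_lit 640550) (.node (nat_lit 639948) (.leaf (nat_lit 1348)) (.node (nat_lit 640335) (.leaf (nat_lit 128)) (.leaf (nat_lit 2)))) (.node (nat_lit 641459) (.node (nat_lit 641025) (.leaf (nat_lit 288)) (.leaf (nat_lit 1440))) (.node (nat_lit 641473) (.leaf (nat_lit 0)) (.leaf (nat_lit 5))))) (.node (nat_lit 643800) (.node (nat_lit 643276) (.leaf (nat_lit 1380)) (.node (nat_lit 643652) (.leaf (nat_lit 128)) (.leaf (nat_lit 449)))) (.node (nat_lit 643924) (.node (nat_lit 643825) (.leaf (nat_lit 802)) (.leaf (nat_lit 1376))) (.node (nat_lit 644124) (.leaf (nat_lit 1440)) (.leaf (nat_lit 736)))))) (.node (nat_lit 646089) (.node (nat_lit 645338) (.node (nat_lit 644593) (.leaf (nat_lit 1057)) (.node (nat_lit 645276) (.leaf (nat_lit 1793)) (.leaf (nat_lit 5)))) (.node (nat_lit 645894) (.node (nat_lit 645609) (.leaf (nat_lit 241)) (.leaf (nat_lit 681))) (.node (nat_lit 645940) (.leaf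 (nat_lit 128)) (.leaf (nat_lit 5))))) (.node (nat_lit 647314) (.node (nat_lit 646656) (.leaf (nat_lit 1152)) (.node (nat_lit 646811) (.leaf (nat_lit 449)) (.leaf (nat_lit 2)))) (.node (nat_lit 648040) (.node (nat_lit 647765) (.leaf (nat_lit 513)) (.leaf (nat_lit 736))) (.node (nat_lit 648098) (.leaf (nat_lit 769)) (.leaf (nat_lit 449))))))) (.node (nat_lit 655133) (.node (nat_lit 650974) (.node (nat_lit 649491) (.node (nat_lit 648793) (.leaf (nat_lit 192)) (.node (nat_lit 649116) (.leaf (nat_lit 1)) (.leaf (nat_lit 173)))) (.node (nat_lit 649942) (.node (nat_lit 649756) (.leaf (nat_lit 736)) (.leaf (nat_lit 384))) (.node (nat_lit 650308) (.leaf (nat_lit 1088)) (.leaf (nat_lit 1504))))) (.node (nat_lit 653087) (.node (nat_lit 652164) (.leaf (nat_lit 653)) (.node (nat_lit 653023) (.leaf (nat_lit 736)) (.leaf (nat_lit 1)))) (.node (nat_lit 654765) (.node (nat_lit 654666) (.leaf (nat_lit 1538)) (.leaf (nat_lit 226))) (.node (nat_lit 655080) (.leaf (nat_lit 1)) (.leaf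 (nat_lit 45)))))) (.node (nat_lit 657588) (.node (nat_lit 656278) (.node (nat_lit 655169) (.leaf (nat_lit 192)) (.node (nat_lit 655859) (.leaf (nat_lit 1385)) (.leaf (nat_lit 1440)))) (.node (nat_lit 657103) (.node (nat_lit 656990) (.leaf (nat_lit 1)) (.leaf (nat_lit 2))) (.node (nat_lit 657536) (.leaf (nat_lit 1376)) (.leaf (nat_lit 5))))) (.node (nat_lit 659344) (.node (nat_lit 658652) (.node (nat_lit 657619) (.leaf (nat_lit 2)) (.leaf (nat_lit 1))) (.node (nat_lit 659299) (.leaf (nat_lit 241)) (.leaf (nat_lit 96)))) (.node (nat_lit 661144) (.node (nat_lit 660184) (.leaf (nat_lit 128)) (.leaf (nat_lit 769))) (.node (nat_lit 663072) (.leaf (nat_lit 653)) (.leaf (nat_lit 866)))))))))))))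
noncomputable def h8_soc_t1 : ST := (.node (nat_lit 167140) (.node (nat_lit 81500) (.node (nat_lit 38711) (.node (nat_lit 18829) (.node (nat_lit 9040) (.node (nat_lit 4355) (.node (nat_lit 1649) (.node (nat_lit 1069) (.node (nat_lit 451) (.node (nat_lit 165) (.leaf (nat_lit 640)) (.leaf (nat_lit 736))) (.node (nat_lit 823) (.leaf (nat_lit 640)) (.node (nat_lit 859) (.leaf (nat_lit 672)) (.leaf (nat_lit 32))))) (.node (nat_lit 1203) (.node (nat_lit 1075) (.leaf (nat_lit 96)) (.leaf (nat_lit 672))) (.node (nat_lit 1234) (.leaf (nat_lit 640)) (.node (nat_lit 1566) (.leaf (nat_lit 32)) (.leaf (nat_lit 640)))))) (.node (nat_lit 2735) (.node (nat_lit 2453) (.node (nat_lit 2413) (.leaf (nat_lit 1312)) (.leaf (nat_lit 32))) (.node (nat_lit 2588) (.leaf (nat_lit 1312)) (.node (nat_lit 2721) (.leaf (nat_lit 640)) (.leaf (nat_lit 96))))) (.node (nat_lit 3200) (.node (nat_lit 2963) (.leaf (nat_lit 1312)) (.leaf (nat_lit 640))) (.node (nat_lit 3209) (.leaf (nat_lit 1312))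 (.node (nat_lit 4343) (.leaf (nat_lit 640)) (.leaf (nat_lit 1312))))))) (.node (nat_lit 6998) (.node (nat_lit 5471) (.node (nat_lit 4492) (.node (nat_lit 4491) (.leaf (nat_lit 672)) (.leaf (nat_lit 32))) (.node (nat_lit 5263) (.leaf (nat_lit 640)) (.node (nat_lit 5328) (.leaf (nat_lit 32)) (.leaf (nat_lit 640))))) (.node (nat_lit 6362) (.node (nat_lit 5722) (.leaf (nat_lit 32)) (.leaf (nat_lit 640))) (.node (nat_lit 6436) (.leaf (nat_lit 32)) (.node (nat_lit 6874) (.leaf (nat_lit 640)) (.leaf (nat_lit 32)))))) (.node (nat_lit 7780) (.node (nat_lit 7188) (.node (nat_lit 7150) (.leaf (nat_lit 640)) (.leaf (nat_lit 1312))) (.node (nat_lit 7211) (.leaf (nat_lit 640)) (.node (nat_lit 7380) (.leaf (nat_lit 96)) (.leaf (nat_lit 1312))))) (.node (nat_lit 8057) (.node (nat_lit 7895) (.leaf (nat_lit 672)) (.node (nat_lit 7942) (.leaf (nat_lit 32)) (.leaf (nat_lit 672)))) (.node (nat_lit 8692) (.leaf (nat_lit 640)) (.node (nat_lit 8887) (.leaf (nat_lit 1)) (.leaf (nat_lit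 1312)))))))) (.node (nat_lit 14101) (.node (nat_lit 10919) (.node (nat_lit 10203) (.node (nat_lit 9488) (.node (nat_lit 9137) (.leaf (nat_lit 640)) (.leaf (nat_lit 1312))) (.node (nat_lit 10092) (.leaf (nat_lit 32)) (.node (nat_lit 10093) (.leaf (nat_lit 640)) (.leaf (nat_lit 32))))) (.node (nat_lit 10382) (.node (nat_lit 10354) (.leaf (nat_lit 640)) (.leaf (nat_lit 1312))) (.node (nat_lit 10514) (.leaf (nat_lit 640)) (.node (nat_lit 10891) (.leaf (nat_lit 32)) (.leaf (nat_lit 672)))))) (.node (nat_lit 11810) (.node (nat_lit 10968) (.node (nat_lit 10943) (.leaf (nat_lit 1312)) (.leaf (nat_lit 640))) (.node (nat_lit 11458) (.leaf (nat_lit 1312)) (.node (nat_lit 11597) (.leaf (nat_lit 640)) (.leaf (nat_lit 32))))) (.node (nat_lit 11885) (.node (nat_lit 11843) (.leaf (nat_lit 1312)) (.node (nat_lit 11863) (.leaf (nat_lit 32)) (.leaf (nat_lit 1312)))) (.node (nat_lit 12160) (.leaf (nat_lit 672)) (.node (nat_lit 13638) (.leaf (nat_lit 640)) (.leaf (nat_lit 32)))))))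 (.node (nat_lit 16715) (.node (nat_lit 14767) (.node (nat_lit 14237) (.node (nat_lit 14138) (.leaf (nat_lit 640)) (.leaf (nat_lit 1312))) (.node (nat_lit 14406) (.leaf (nat_lit 672)) (.node (nat_lit 14674) (.leaf (nat_lit 128)) (.leaf (nat_lit 640))))) (.node (nat_lit 14986) (.node (nat_lit 14951) (.leaf (nat_lit 32)) (.leaf (nat_lit 640))) (.node (nat_lit 16003) (.leaf (nat_lit 32)) (.node (nat_lit 16139) (.leaf (nat_lit 640)) (.leaf (nat_lit 32)))))) (.node (nat_lit 17989) (.node (nat_lit 17148) (.node (nat_lit 17028) (.leaf (nat_lit 96)) (.leaf (nat_lit 32))) (.node (nat_lit 17953) (.leaf (nat_lit 640)) (.node (nat_lit 17976) (.leaf (nat_lit 32)) (.leaf (nat_lit 96))))) (.node (nat_lit 18486) (.node (nat_lit 18301) (.leaf (nat_lit 672)) (.node (nat_lit 18455) (.leaf (nat_lit 32)) (.leaf (nat_lit 640)))) (.node (nat_lit 18665) (.leaf (nat_lit 672)) (.node (nat_lit 18695) (.leaf (nat_lit 32)) (.leaf (nat_lit 672))))))))) (.node (nat_lit 28688) (.node (nat_lit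 24246) (.node (nat_lit 22372) (.node (nat_lit 21015) (.node (nat_lit 20372) (.node (nat_lit 18838) (.leaf (nat_lit 640)) (.leaf (nat_lit 32))) (.node (nat_lit 20553) (.leaf (nat_lit 1)) (.node (nat_lit 20772) (.leaf (nat_lit 1312)) (.leaf (nat_lit 672))))) (.node (nat_lit 22124) (.node (nat_lit 21971) (.leaf (nat_lit 640)) (.leaf (nat_lit 96))) (.node (nat_lit 22305) (.leaf (nat_lit 1312)) (.node (nat_lit 22348) (.leaf (nat_lit 640)) (.leaf (nat_lit 32)))))) (.node (nat_lit 23374) (.node (nat_lit 22696) (.node (nat_lit 22515) (.leaf (nat_lit 640)) (.leaf (nat_lit 32))) (.node (nat_lit 22884) (.leaf (nat_lit 672)) (.node (nat_lit 22901) (.leaf (nat_lit 640)) (.leaf (nat_lit 32))))) (.node (nat_lit 23466) (.node (nat_lit 23385) (.leaf (nat_lit 672)) (.leaf (nat_lit 640))) (.node (nat_lit 23919) (.leaf (nat_lit 704)) (.node (nat_lit 24222) (.leaf (nat_lit 640)) (.leaf (nat_lit 32))))))) (.node (nat_lit 26251) (.node (nat_lit 25127) (.node (nat_lit 24534) (.node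 (nat_lit 24425) (.leaf (nat_lit 1)) (.leaf (nat_lit 640))) (.node (nat_lit 24915) (.leaf (nat_lit 32)) (.node (nat_lit 24985) (.leaf (nat_lit 672)) (.leaf (nat_lit 640))))) (.node (nat_lit 25603) (.node (nat_lit 25308) (.leaf (nat_lit 32)) (.leaf (nat_lit 640))) (.node (nat_lit 25949) (.leaf (nat_lit 672)) (.node (nat_lit 26171) (.leaf (nat_lit 1312)) (.leaf (nat_lit 128)))))) (.node (nat_lit 27500) (.node (nat_lit 26729) (.node (nat_lit 26395) (.leaf (nat_lit 32)) (.leaf (nat_lit 640))) (.node (nat_lit 26906) (.leaf (nat_lit 32)) (.node (nat_lit 26990) (.leaf (nat_lit 640)) (.leaf (nat_lit 672))))) (.node (nat_lit 28274) (.node (nat_lit 27520) (.leaf (nat_lit 32)) (.node (nat_lit 27704) (.leaf (nat_lit 1312)) (.leaf (nat_lit 640)))) (.node (nat_lit 28311) (.leaf (nat_lit 32)) (.node (nat_lit 28673) (.leaf (nat_lit 640)) (.leaf (nat_lit 672)))))))) (.node (nat_lit 33004) (.node (nat_lit 30714) (.node (nat_lit 29770) (.node (nat_lit 29209) (.node (nat_lit 28777)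 (.leaf (nat_lit 1312)) (.leaf (nat_lit 640))) (.node (nat_lit 29246) (.leaf (nat_lit 32)) (.node (nat_lit 29263) (.leaf (nat_lit 640)) (.leaf (nat_lit 32))))) (.node (nat_lit 30080) (.node (nat_lit 30017) (.leaf (nat_lit 1312)) (.leaf (nat_lit 640))) (.node (nat_lit 30318) (.leaf (nat_lit 672)) (.node (nat_lit 30438) (.leaf (nat_lit 1312)) (.leaf (nat_lit 672)))))) (.node (nat_lit 31552) (.node (nat_lit 31186) (.node (nat_lit 31109) (.leaf (nat_lit 640)) (.leaf (nat_lit 672))) (.node (nat_lit 31294) (.leaf (nat_lit 32)) (.node (nat_lit 31308) (.leaf (nat_lit 640)) (.leaf (nat_lit 672))))) (.node (nat_lit 32091) (.node (nat_lit 31582) (.leaf (nat_lit 640)) (.node (nat_lit 32029) (.leaf (nat_lit 1312)) (.leaf (nat_lit 672)))) (.node (nat_lit 32440) (.leaf (nat_lit 640)) (.node (nat_lit 32565) (.leaf (nat_lit 672)) (.leaf (nat_lit 640))))))) (.node (nat_lit 35398) (.node (nat_lit 34387) (.node (nat_lit 33116) (.node (nat_lit 33103) (.leaf (nat_lit 736)) (.leaf (nat_lit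 640))) (.node (nat_lit 33402) (.leaf (nat_lit 1312)) (.node (nat_lit 34321) (.leaf (nat_lit 640)) (.leaf (nat_lit 32))))) (.node (nat_lit 35001) (.node (nat_lit 34895) (.leaf (nat_lit 640)) (.leaf (nat_lit 672))) (.node (nat_lit 35183) (.leaf (nat_lit 640)) (.node (nat_lit 35357) (.leaf (nat_lit 672)) (.leaf (nat_lit 32)))))) (.node (nat_lit 37971) (.node (nat_lit 37529) (.node (nat_lit 37090) (.leaf (nat_lit 640)) (.leaf (nat_lit 32))) (.node (nat_lit 37741) (.leaf (nat_lit 1312)) (.node (nat_lit 37874) (.leaf (nat_lit 96)) (.leaf (nat_lit 32))))) (.node (nat_lit 38241) (.node (nat_lit 38173) (.leaf (nat_lit 640)) (.node (nat_lit 38197) (.leaf (nat_lit 32)) (.leaf (nat_lit 640)))) (.node (nat_lit 38256) (.leaf (nat_lit 672)) (.node (nat_lit 38672) (.leaf (nat_lit 640)) (.leaf (nat_lit 1344)))))))))) (.node (nat_lit 60984) (.node (nat_lit 51316) (.node (nat_lit 44808) (.node (nat_lit 41947) (.node (nat_lit 40798) (.node (nat_lit 39823) (.node (nat_lit 39502)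 (.leaf (nat_lit 640)) (.leaf (nat_lit 672))) (.node (nat_lit 40129) (.leaf (nat_lit 32)) (.node (nat_lit 40582) (.leaf (nat_lit 640)) (.leaf (nat_lit 1312))))) (.node (nat_lit 41689) (.node (nat_lit 41681) (.leaf (nat_lit 640)) (.leaf (nat_lit 32))) (.node (nat_lit 41743) (.leaf (nat_lit 640)) (.node (nat_lit 41917) (.leaf (nat_lit 32)) (.leaf (nat_lit 1312)))))) (.node (nat_lit 42736) (.node (nat_lit 42121) (.node (nat_lit 42093) (.leaf (nat_lit 672)) (.leaf (nat_lit 640))) (.node (nat_lit 42210) (.leaf (nat_lit 672)) (.node (nat_lit 42445) (.leaf (nat_lit 640)) (.leaf (nat_lit 704))))) (.node (nat_lit 43999) (.node (nat_lit 43139) (.leaf (nat_lit 672)) (.leaf (nat_lit 640))) (.node (nat_lit 44043) (.leaf (nat_lit 1312)) (.node (nat_lit 44262) (.leaf (nat_lit 32)) (.leaf (nat_lit 640))))))) (.node (nat_lit 48480) (.node (nat_lit 46664) (.node (nat_lit 45569) (.node (nat_lit 45115) (.leaf (nat_lit 672)) (.leaf (nat_lit 640))) (.node (nat_lit 46034) (.leaf (nat_lit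 672)) (.node (nat_lit 46206) (.leaf (nat_lit 640)) (.leaf (nat_lit 32))))) (.node (nat_lit 47217) (.node (nat_lit 47147) (.leaf (nat_lit 640)) (.leaf (nat_lit 32))) (.node (nat_lit 47227) (.leaf (nat_lit 1312)) (.node (nat_lit 48100) (.leaf (nat_lit 672)) (.leaf (nat_lit 640)))))) (.node (nat_lit 49704) (.node (nat_lit 48826) (.node (nat_lit 48702) (.leaf (nat_lit 1312)) (.leaf (nat_lit 640))) (.node (nat_lit 48856) (.leaf (nat_lit 672)) (.node (nat_lit 49406) (.leaf (nat_lit 640)) (.leaf (nat_lit 672))))) (.node (nat_lit 50822) (.node (nat_lit 49736) (.leaf (nat_lit 640)) (.node (nat_lit 50013) (.leaf (nat_lit 672)) (.leaf (nat_lit 640)))) (.node (nat_lit 50929) (.leaf (nat_lit 672)) (.node (nat_lit 51298) (.leaf (nat_lit 1312)) (.leaf (nat_lit 32)))))))) (.node (nat_lit 54958) (.node (nat_lit 53111) (.node (nat_lit 52217) (.node (nat_lit 51891) (.node (nat_lit 51689) (.leaf (nat_lit 640)) (.leaf (nat_lit 672))) (.node (nat_lit 51927) (.leaf (nat_lit 640)) (.node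 (nat_lit 51953) (.leaf (nat_lit 32)) (.leaf (nat_lit 640))))) (.node (nat_lit 52380) (.node (nat_lit 52346) (.leaf (nat_lit 32)) (.leaf (nat_lit 1312))) (.node (nat_lit 52683) (.leaf (nat_lit 640)) (.node (nat_lit 52943) (.leaf (nat_lit 672)) (.leaf (nat_lit 640)))))) (.node (nat_lit 54123) (.node (nat_lit 53528) (.node (nat_lit 53515) (.leaf (nat_lit 1312)) (.leaf (nat_lit 32))) (.node (nat_lit 53852) (.leaf (nat_lit 640)) (.node (nat_lit 54122) (.leaf (nat_lit 1)) (.leaf (nat_lit 1312))))) (.node (nat_lit 54381) (.node (nat_lit 54214) (.leaf (nat_lit 640)) (.node (nat_lit 54366) (.leaf (nat_lit 672)) (.leaf (nat_lit 640)))) (.node (nat_lit 54541) (.leaf (nat_lit 1312)) (.node (nat_lit 54763) (.leaf (nat_lit 32)) (.leaf (nat_lit 1312))))))) (.node (nat_lit 58516) (.node (nat_lit 56868) (.node (nat_lit 55910) (.node (nat_lit 55688) (.leaf (nat_lit 32)) (.leaf (nat_lit 640))) (.node (nat_lit 55950) (.leaf (nat_lit 1312)) (.node (nat_lit 56307) (.leaf (nat_lit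 32)) (.leaf (nat_lit 640))))) (.node (nat_lit 58181) (.node (nat_lit 57687) (.leaf (nat_lit 32)) (.leaf (nat_lit 640))) (.node (nat_lit 58238) (.leaf (nat_lit 672)) (.node (nat_lit 58351) (.leaf (nat_lit 1312)) (.leaf (nat_lit 640)))))) (.node (nat_lit 59652) (.node (nat_lit 58720) (.node (nat_lit 58543) (.leaf (nat_lit 1)) (.leaf (nat_lit 640))) (.node (nat_lit 58974) (.leaf (nat_lit 672)) (.node (nat_lit 59166) (.leaf (nat_lit 640)) (.leaf (nat_lit 32))))) (.node (nat_lit 60534) (.node (nat_lit 60195) (.leaf (nat_lit 1312)) (.node (nat_lit 60451) (.leaf (nat_lit 640)) (.leaf (nat_lit 1312)))) (.node (nat_lit 60643) (.leaf (nat_lit 640)) (.node (nat_lit 60891) (.leaf (nat_lit 1312)) (.leaf (nat_lit 640))))))))) (.node (nat_lit 70933) (.node (nat_lit 64817) (.node (nat_lit 63203) (.node (nat_lit 61787) (.node (nat_lit 61175) (.node (nat_lit 61096) (.leaf (nat_lit 672)) (.leaf (nat_lit 32))) (.node (nat_lit 61486) (.leaf (nat_lit 640)) (.node (nat_lit 61763) (.leaf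 (nat_lit 1312)) (.leaf (nat_lit 640))))) (.node (nat_lit 62865) (.node (nat_lit 62746) (.leaf (nat_lit 672)) (.leaf (nat_lit 1))) (.node (nat_lit 63083) (.leaf (nat_lit 32)) (.node (nat_lit 63186) (.leaf (nat_lit 672)) (.leaf (nat_lit 640)))))) (.node (nat_lit 64108) (.node (nat_lit 63475) (.node (nat_lit 63392) (.leaf (nat_lit 672)) (.leaf (nat_lit 640))) (.node (nat_lit 63482) (.leaf (nat_lit 672)) (.node (nat_lit 63921) (.leaf (nat_lit 1312)) (.leaf (nat_lit 640))))) (.node (nat_lit 64286) (.node (nat_lit 64256) (.leaf (nat_lit 1312)) (.leaf (nat_lit 32))) (.node (nat_lit 64365) (.leaf (nat_lit 640)) (.node (nat_lit 64518) (.leaf (nat_lit 672)) (.leaf (nat_lit 32))))))) (.node (nat_lit 68525) (.node (nat_lit 66549) (.node (nat_lit 65464) (.node (nat_lit 65138) (.leaf (nat_lit 640)) (.leaf (nat_lit 1312))) (.node (nat_lit 65651) (.leaf (nat_lit 672)) (.node (nat_lit 66165) (.leaf (nat_lit 640)) (.leaf (nat_lit 672))))) (.node (nat_lit 67621) (.node (nat_lit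 67493) (.leaf (nat_lit 640)) (.leaf (nat_lit 1312))) (.node (nat_lit 67743) (.leaf (nat_lit 640)) (.node (nat_lit 68140) (.leaf (nat_lit 672)) (.leaf (nat_lit 640)))))) (.node (nat_lit 69602) (.node (nat_lit 68827) (.node (nat_lit 68561) (.leaf (nat_lit 672)) (.leaf (nat_lit 32))) (.node (nat_lit 69061) (.leaf (nat_lit 672)) (.node (nat_lit 69107) (.leaf (nat_lit 32)) (.leaf (nat_lit 640))))) (.node (nat_lit 69767) (.node (nat_lit 69708) (.leaf (nat_lit 1)) (.node (nat_lit 69763) (.leaf (nat_lit 1312)) (.leaf (nat_lit 96)))) (.node (nat_lit 70523) (.leaf (nat_lit 32)) (.node (nat_lit 70855) (.leaf (nat_lit 640)) (.leaf (nat_lit 32)))))))) (.node (nat_lit 75609) (.node (nat_lit 72350) (.node (nat_lit 71707) (.node (nat_lit 71564) (.node (nat_lit 71305) (.leaf (nat_lit 640)) (.leaf (nat_lit 128))) (.node (nat_lit 71587) (.leaf (nat_lit 672)) (.node (nat_lit 71603) (.leaf (nat_lit 32)) (.leaf (nat_lit 704))))) (.node (nat_lit 71830) (.node (nat_lit 71731) (.leaf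 (nat_lit 32)) (.leaf (nat_lit 640))) (.node (nat_lit 72168) (.leaf (nat_lit 1344)) (.node (nat_lit 72227) (.leaf (nat_lit 640)) (.leaf (nat_lit 96)))))) (.node (nat_lit 74859) (.node (nat_lit 72497) (.node (nat_lit 72451) (.leaf (nat_lit 640)) (.leaf (nat_lit 32))) (.node (nat_lit 74383) (.leaf (nat_lit 640)) (.node (nat_lit 74564) (.leaf (nat_lit 672)) (.leaf (nat_lit 1312))))) (.node (nat_lit 75321) (.node (nat_lit 75160) (.leaf (nat_lit 672)) (.node (nat_lit 75190) (.leaf (nat_lit 1312)) (.leaf (nat_lit 32)))) (.node (nat_lit 75551) (.leaf (nat_lit 640)) (.node (nat_lit 75602) (.leaf (nat_lit 672)) (.leaf (nat_lit 640))))))) (.node (nat_lit 77560) (.node (nat_lit 76118) (.node (nat_lit 75782) (.node (nat_lit 75739) (.leaf (nat_lit 1312)) (.leaf (nat_lit 640))) (.node (nat_lit 75795) (.leaf (nat_lit 32)) (.node (nat_lit 76090) (.leaf (nat_lit 1312)) (.leaf (nat_lit 32))))) (.node (nat_lit 76574) (.node (nat_lit 76347) (.leaf (nat_lit 672)) (.leaf (nat_lit 1312)))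 (.node (nat_lit 76774) (.leaf (nat_lit 640)) (.node (nat_lit 76942) (.leaf (nat_lit 1)) (.leaf (nat_lit 640)))))) (.node (nat_lit 79270) (.node (nat_lit 78303) (.node (nat_lit 77992) (.leaf (nat_lit 1)) (.leaf (nat_lit 32))) (.node (nat_lit 78991) (.leaf (nat_lit 640)) (.node (nat_lit 79079) (.leaf (nat_lit 672)) (.leaf (nat_lit 640))))) (.node (nat_lit 79960) (.node (nat_lit 79584) (.leaf (nat_lit 32)) (.node (nat_lit 79645) (.leaf (nat_lit 640)) (.leaf (nat_lit 32)))) (.node (nat_lit 81206) (.leaf (nat_lit 640)) (.node (nat_lit 81224) (.leaf (nat_lit 1)) (.leaf (nat_lit 32))))))))))) (.node (nat_lit 123712) (.node (nat_lit 103679) (.node (nat_lit 93736) (.node (nat_lit 88356) (.node (nat_lit 84109) (.node (nat_lit 82943) (.node (nat_lit 81873) (.node (nat_lit 81739) (.leaf (nat_lit 640)) (.leaf (nat_lit 32))) (.node (nat_lit 82302) (.leaf (nat_lit 1312)) (.node (nat_lit 82855) (.leaf (nat_lit 96)) (.leaf (nat_lit 672))))) (.node (nat_lit 83529) (.node (nat_lit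 83116) (.leaf (nat_lit 1312)) (.leaf (nat_lit 32))) (.node (nat_lit 83634) (.leaf (nat_lit 1344)) (.node (nat_lit 83793) (.leaf (nat_lit 640)) (.leaf (nat_lit 32)))))) (.node (nat_lit 86255) (.node (nat_lit 85131) (.node (nat_lit 85080) (.leaf (nat_lit 640)) (.leaf (nat_lit 1312))) (.node (nat_lit 85280) (.leaf (nat_lit 32)) (.node (nat_lit 86232) (.leaf (nat_lit 640)) (.leaf (nat_lit 672))))) (.node (nat_lit 86648) (.node (nat_lit 86478) (.leaf (nat_lit 640)) (.leaf (nat_lit 800))) (.node (nat_lit 87348) (.leaf (nat_lit 32)) (.node (nat_lit 87822) (.leaf (nat_lit 640)) (.leaf (nat_lit 32))))))) (.node (nat_lit 91323) (.node (nat_lit 90452) (.node (nat_lit 88882) (.node (nat_lit 88427) (.leaf (nat_lit 640)) (.leaf (nat_lit 32))) (.node (nat_lit 90350) (.leaf (nat_lit 640)) (.node (nat_lit 90413) (.leaf (nat_lit 32)) (.leaf (nat_lit 1312))))) (.node (nat_lit 90752) (.node (nat_lit 90718) (.leaf (nat_lit 640)) (.leaf (nat_lit 800))) (.node (nat_lit 91203) (.leaf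 (nat_lit 640)) (.node (nat_lit 91218) (.leaf (nat_lit 32)) (.leaf (nat_lit 640)))))) (.node (nat_lit 92437) (.node (nat_lit 92013) (.node (nat_lit 91386) (.leaf (nat_lit 672)) (.leaf (nat_lit 640))) (.node (nat_lit 92141) (.leaf (nat_lit 1312)) (.node (nat_lit 92392) (.leaf (nat_lit 640)) (.leaf (nat_lit 1312))))) (.node (nat_lit 92899) (.node (nat_lit 92451) (.leaf (nat_lit 640)) (.node (nat_lit 92620) (.leaf (nat_lit 32)) (.leaf (nat_lit 800)))) (.node (nat_lit 93318) (.leaf (nat_lit 32)) (.node (nat_lit 93435) (.leaf (nat_lit 640)) (.leaf (nat_lit 672)))))))) (.node (nat_lit 98017) (.node (nat_lit 95842) (.node (nat_lit 94965) (.node (nat_lit 94296) (.node (nat_lit 94200) (.leaf (nat_lit 1)) (.leaf (nat_lit 640))) (.node (nat_lit 94378) (.leaf (nat_lit 32)) (.node (nat_lit 94646) (.leaf (nat_lit 640)) (.leaf (nat_lit 1312))))) (.node (nat_lit 95132) (.node (nat_lit 95106) (.leaf (nat_lit 640)) (.leaf (nat_lit 800))) (.node (nat_lit 95228) (.leaf (nat_lit 672))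 (.node (nat_lit 95282) (.leaf (nat_lit 32)) (.leaf (nat_lit 640)))))) (.node (nat_lit 96777) (.node (nat_lit 96334) (.node (nat_lit 95868) (.leaf (nat_lit 672)) (.leaf (nat_lit 640))) (.node (nat_lit 96373) (.leaf (nat_lit 672)) (.node (nat_lit 96407) (.leaf (nat_lit 1312)) (.leaf (nat_lit 640))))) (.node (nat_lit 97595) (.node (nat_lit 96927) (.leaf (nat_lit 32)) (.node (nat_lit 97031) (.leaf (nat_lit 640)) (.leaf (nat_lit 32)))) (.node (nat_lit 97879) (.leaf (nat_lit 640)) (.node (nat_lit 97927) (.leaf (nat_lit 672)) (.leaf (nat_lit 1312))))))) (.node (nat_lit 101404) (.node (nat_lit 99265) (.node (nat_lit 98328) (.node (nat_lit 98064) (.leaf (nat_lit 640)) (.leaf (nat_lit 672))) (.node (nat_lit 98393) (.leaf (nat_lit 640)) (.node (nat_lit 99032) (.leaf (nat_lit 32)) (.leaf (nat_lit 640))))) (.node (nat_lit 99963) (.node (nat_lit 99506) (.leaf (nat_lit 32)) (.leaf (nat_lit 672))) (.node (nat_lit 101027) (.leaf (nat_lit 640)) (.node (nat_lit 101051) (.leaf (nat_lit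 1312)) (.leaf (nat_lit 640)))))) (.node (nat_lit 102245) (.node (nat_lit 101750) (.node (nat_lit 101412) (.leaf (nat_lit 1312)) (.leaf (nat_lit 640))) (.node (nat_lit 101775) (.leaf (nat_lit 672)) (.node (nat_lit 102124) (.leaf (nat_lit 640)) (.leaf (nat_lit 800))))) (.node (nat_lit 102688) (.node (nat_lit 102451) (.leaf (nat_lit 640)) (.node (nat_lit 102640) (.leaf (nat_lit 32)) (.leaf (nat_lit 640)))) (.node (nat_lit 103220) (.leaf (nat_lit 32)) (.node (nat_lit 103569) (.leaf (nat_lit 640)) (.leaf (nat_lit 32))))))))) (.node (nat_lit 114082) (.node (nat_lit 110047) (.node (nat_lit 108039) (.node (nat_lit 104747) (.node (nat_lit 104118) (.node (nat_lit 103881) (.leaf (nat_lit 1312)) (.leaf (nat_lit 672))) (.node (nat_lit 104210) (.leaf (nat_lit 1312)) (.node (nat_lit 104547) (.leaf (nat_lit 672)) (.leaf (nat_lit 32))))) (.node (nat_lit 105104) (.node (nat_lit 105011) (.leaf (nat_lit 1312)) (.leaf (nat_lit 672))) (.node (nat_lit 107449) (.leaf (nat_lit 640))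 (.node (nat_lit 108018) (.leaf (nat_lit 32)) (.leaf (nat_lit 640)))))) (.node (nat_lit 109510) (.node (nat_lit 108695) (.node (nat_lit 108100) (.leaf (nat_lit 32)) (.leaf (nat_lit 640))) (.node (nat_lit 109158) (.leaf (nat_lit 704)) (.node (nat_lit 109412) (.leaf (nat_lit 640)) (.leaf (nat_lit 672))))) (.node (nat_lit 109797) (.node (nat_lit 109640) (.leaf (nat_lit 32)) (.leaf (nat_lit 640))) (.node (nat_lit 109915) (.leaf (nat_lit 1312)) (.node (nat_lit 109975) (.leaf (nat_lit 32)) (.leaf (nat_lit 640))))))) (.node (nat_lit 111471) (.node (nat_lit 110536) (.node (nat_lit 110245) (.node (nat_lit 110075) (.leaf (nat_lit 96)) (.leaf (nat_lit 640))) (.node (nat_lit 110324) (.leaf (nat_lit 1312)) (.node (nat_lit 110386) (.leaf (nat_lit 800)) (.leaf (nat_lit 640))))) (.node (nat_lit 110786) (.node (nat_lit 110602) (.leaf (nat_lit 1)) (.leaf (nat_lit 640))) (.node (nat_lit 111373) (.leaf (nat_lit 1312)) (.node (nat_lit 111470) (.leaf (nat_lit 32)) (.leaf (nat_lit 672))))))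 (.node (nat_lit 112307) (.node (nat_lit 112043) (.node (nat_lit 111558) (.leaf (nat_lit 32)) (.leaf (nat_lit 640))) (.node (nat_lit 112138) (.leaf (nat_lit 32)) (.node (nat_lit 112291) (.leaf (nat_lit 672)) (.leaf (nat_lit 32))))) (.node (nat_lit 112942) (.node (nat_lit 112538) (.leaf (nat_lit 640)) (.node (nat_lit 112865) (.leaf (nat_lit 32)) (.leaf (nat_lit 704)))) (.node (nat_lit 112973) (.leaf (nat_lit 1)) (.node (nat_lit 113640) (.leaf (nat_lit 640)) (.leaf (nat_lit 800)))))))) (.node (nat_lit 117479) (.node (nat_lit 116084) (.node (nat_lit 114556) (.node (nat_lit 114105) (.node (nat_lit 114103) (.leaf (nat_lit 672)) (.leaf (nat_lit 640))) (.node (nat_lit 114326) (.leaf (nat_lit 32)) (.node (nat_lit 114457) (.leaf (nat_lit 640)) (.leaf (nat_lit 1312))))) (.node (nat_lit 114807) (.node (nat_lit 114643) (.leaf (nat_lit 640)) (.leaf (nat_lit 32))) (.node (nat_lit 115448) (.leaf (nat_lit 640)) (.node (nat_lit 115843) (.leaf (nat_lit 672)) (.leaf (nat_lit 32))))))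 (.node (nat_lit 116519) (.node (nat_lit 116156) (.node (nat_lit 116141) (.leaf (nat_lit 640)) (.leaf (nat_lit 672))) (.node (nat_lit 116229) (.leaf (nat_lit 1312)) (.node (nat_lit 116287) (.leaf (nat_lit 32)) (.leaf (nat_lit 640))))) (.node (nat_lit 117309) (.node (nat_lit 116988) (.leaf (nat_lit 32)) (.node (nat_lit 117053) (.leaf (nat_lit 640)) (.leaf (nat_lit 32)))) (.node (nat_lit 117370) (.leaf (nat_lit 640)) (.node (nat_lit 117374) (.leaf (nat_lit 672)) (.leaf (nat_lit 1312))))))) (.node (nat_lit 119809) (.node (nat_lit 118613) (.node (nat_lit 118297) (.node (nat_lit 117981) (.leaf (nat_lit 672)) (.leaf (nat_lit 640))) (.node (nat_lit 118355) (.leaf (nat_lit 32)) (.node (nat_lit 118415) (.leaf (nat_lit 640)) (.leaf (nat_lit 32))))) (.node (nat_lit 118992) (.node (nat_lit 118905) (.leaf (nat_lit 1344)) (.leaf (nat_lit 1312))) (.node (nat_lit 119217) (.leaf (nat_lit 640)) (.node (nat_lit 119533) (.leaf (nat_lit 32)) (.leaf (nat_lit 672)))))) (.node (nat_lit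 120960) (.node (nat_lit 120141) (.node (nat_lit 120078) (.leaf (nat_lit 736)) (.leaf (nat_lit 32))) (.node (nat_lit 120218) (.leaf (nat_lit 640)) (.node (nat_lit 120801) (.leaf (nat_lit 32)) (.leaf (nat_lit 672))))) (.node (nat_lit 122191) (.node (nat_lit 121638) (.leaf (nat_lit 640)) (.node (nat_lit 121789) (.leaf (nat_lit 672)) (.leaf (nat_lit 640)))) (.node (nat_lit 123150) (.leaf (nat_lit 672)) (.node (nat_lit 123296) (.leaf (nat_lit 96)) (.leaf (nat_lit 32)))))))))) (.node (nat_lit 145730) (.node (nat_lit 135665) (.node (nat_lit 129536) (.node (nat_lit 127462) (.node (nat_lit 125417) (.node (nat_lit 125171) (.node (nat_lit 124776) (.leaf (nat_lit 640)) (.leaf (nat_lit 32))) (.node (nat_lit 125200) (.leaf (nat_lit 640)) (.node (nat_lit 125376) (.leaf (nat_lit 32)) (.leaf (nat_lit 640))))) (.node (nat_lit 126392) (.node (nat_lit 125757) (.leaf (nat_lit 1312)) (.leaf (nat_lit 32))) (.node (nat_lit 126704) (.leaf (nat_lit 640)) (.node (nat_lit 127070) (.leaf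 (nat_lit 1312)) (.leaf (nat_lit 640)))))) (.node (nat_lit 128646) (.node (nat_lit 127854) (.node (nat_lit 127590) (.leaf (nat_lit 32)) (.leaf (nat_lit 640))) (.node (nat_lit 128257) (.leaf (nat_lit 1312)) (.node (nat_lit 128605) (.leaf (nat_lit 640)) (.leaf (nat_lit 672))))) (.node (nat_lit 129035) (.node (nat_lit 128940) (.leaf (nat_lit 640)) (.leaf (nat_lit 672))) (.node (nat_lit 129107) (.leaf (nat_lit 640)) (.node (nat_lit 129249) (.leaf (nat_lit 1312)) (.leaf (nat_lit 32))))))) (.node (nat_lit 131875) (.node (nat_lit 130788) (.node (nat_lit 130482) (.node (nat_lit 130301) (.leaf (nat_lit 1312)) (.leaf (nat_lit 672))) (.node (nat_lit 130635) (.leaf (nat_lit 640)) (.node (nat_lit 130668) (.leaf (nat_lit 32)) (.leaf (nat_lit 1312))))) (.node (nat_lit 131357) (.node (nat_lit 131335) (.leaf (nat_lit 640)) (.leaf (nat_lit 1312))) (.node (nat_lit 131608) (.leaf (nat_lit 96)) (.node (nat_lit 131726) (.leaf (nat_lit 1312)) (.leaf (nat_lit 640)))))) (.node (nat_lit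 133611) (.node (nat_lit 132867) (.node (nat_lit 131883) (.leaf (nat_lit 32)) (.leaf (nat_lit 640))) (.node (nat_lit 133263) (.leaf (nat_lit 32)) (.node (nat_lit 133370) (.leaf (nat_lit 640)) (.leaf (nat_lit 672))))) (.node (nat_lit 134895) (.node (nat_lit 134002) (.leaf (nat_lit 640)) (.node (nat_lit 134816) (.leaf (nat_lit 32)) (.leaf (nat_lit 640)))) (.node (nat_lit 134979) (.leaf (nat_lit 1312)) (.node (nat_lit 135321) (.leaf (nat_lit 640)) (.leaf (nat_lit 32)))))))) (.node (nat_lit 141715) (.node (nat_lit 138319) (.node (nat_lit 137477) (.node (nat_lit 136164) (.node (nat_lit 135738) (.leaf (nat_lit 640)) (.leaf (nat_lit 1312))) (.node (nat_lit 137298) (.leaf (nat_lit 32)) (.node (nat_lit 137336) (.leaf (nat_lit 640)) (.leaf (nat_lit 672))))) (.node (nat_lit 137942) (.node (nat_lit 137836) (.leaf (nat_lit 32)) (.leaf (nat_lit 640))) (.node (nat_lit 137988) (.leaf (nat_lit 32)) (.node (nat_lit 138089) (.leaf (nat_lit 1312)) (.leaf (nat_lit 640)))))) (.node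 (nat_lit 139616) (.node (nat_lit 138673) (.node (nat_lit 138453) (.leaf (nat_lit 672)) (.leaf (nat_lit 640))) (.node (nat_lit 138831) (.leaf (nat_lit 704)) (.node (nat_lit 139095) (.leaf (nat_lit 32)) (.leaf (nat_lit 640))))) (.node (nat_lit 139997) (.node (nat_lit 139853) (.leaf (nat_lit 1)) (.node (nat_lit 139897) (.leaf (nat_lit 640)) (.leaf (nat_lit 32)))) (.node (nat_lit 140080) (.leaf (nat_lit 96)) (.node (nat_lit 141634) (.leaf (nat_lit 640)) (.leaf (nat_lit 1))))))) (.node (nat_lit 143528) (.node (nat_lit 142177) (.node (nat_lit 141991) (.node (nat_lit 141988) (.leaf (nat_lit 32)) (.leaf (nat_lit 1))) (.node (nat_lit 142011) (.leaf (nat_lit 640)) (.node (nat_lit 142073) (.leaf (nat_lit 704)) (.leaf (nat_lit 640))))) (.node (nat_lit 143340) (.node (nat_lit 142347) (.leaf (nat_lit 32)) (.leaf (nat_lit 640))) (.node (nat_lit 143375) (.leaf (nat_lit 32)) (.node (nat_lit 143521) (.leaf (nat_lit 704)) (.leaf (nat_lit 640)))))) (.node (nat_lit 144605) (.node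 (nat_lit 144506) (.node (nat_lit 143657) (.leaf (nat_lit 672)) (.leaf (nat_lit 32))) (.node (nat_lit 144527) (.leaf (nat_lit 640)) (.node (nat_lit 144600) (.leaf (nat_lit 32)) (.leaf (nat_lit 1312))))) (.node (nat_lit 145275) (.node (nat_lit 144697) (.leaf (nat_lit 640)) (.node (nat_lit 144857) (.leaf (nat_lit 32)) (.leaf (nat_lit 640)))) (.node (nat_lit 145291) (.leaf (nat_lit 96)) (.node (nat_lit 145514) (.leaf (nat_lit 32)) (.leaf (nat_lit 640))))))))) (.node (nat_lit 156144) (.node (nat_lit 151549) (.node (nat_lit 149774) (.node (nat_lit 146909) (.node (nat_lit 146632) (.node (nat_lit 146347) (.leaf (nat_lit 32)) (.leaf (nat_lit 640))) (.node (nat_lit 146641) (.leaf (nat_lit 1)) (.node (nat_lit 146652) (.leaf (nat_lit 640)) (.leaf (nat_lit 32))))) (.node (nat_lit 149330) (.node (nat_lit 149120) (.leaf (nat_lit 640)) (.leaf (nat_lit 1))) (.node (nat_lit 149718) (.leaf (nat_lit 640)) (.node (nat_lit 149763) (.leaf (nat_lit 32)) (.leaf (nat_lit 640)))))) (.node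 (nat_lit 150926) (.node (nat_lit 150242) (.node (nat_lit 149898) (.leaf (nat_lit 32)) (.leaf (nat_lit 640))) (.node (nat_lit 150463) (.leaf (nat_lit 32)) (.node (nat_lit 150555) (.leaf (nat_lit 640)) (.leaf (nat_lit 672))))) (.node (nat_lit 151116) (.node (nat_lit 151104) (.leaf (nat_lit 128)) (.leaf (nat_lit 640))) (.node (nat_lit 151173) (.leaf (nat_lit 1312)) (.node (nat_lit 151386) (.leaf (nat_lit 640)) (.leaf (nat_lit 1312))))))) (.node (nat_lit 154041) (.node (nat_lit 153487) (.node (nat_lit 152035) (.node (nat_lit 151696) (.leaf (nat_lit 32)) (.leaf (nat_lit 672))) (.node (nat_lit 152454) (.leaf (nat_lit 640)) (.node (nat_lit 153048) (.leaf (nat_lit 32)) (.leaf (nat_lit 1344))))) (.node (nat_lit 153637) (.node (nat_lit 153537) (.leaf (nat_lit 672)) (.leaf (nat_lit 32))) (.node (nat_lit 153646) (.leaf (nat_lit 1312)) (.node (nat_lit 153941) (.leaf (nat_lit 640)) (.leaf (nat_lit 1312)))))) (.node (nat_lit 154945) (.node (nat_lit 154621) (.node (nat_lit 154045)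 (.leaf (nat_lit 640)) (.leaf (nat_lit 704))) (.node (nat_lit 154830) (.leaf (nat_lit 672)) (.node (nat_lit 154929) (.leaf (nat_lit 640)) (.leaf (nat_lit 672))))) (.node (nat_lit 155175) (.node (nat_lit 155125) (.leaf (nat_lit 640)) (.node (nat_lit 155172) (.leaf (nat_lit 1312)) (.leaf (nat_lit 96)))) (.node (nat_lit 155834) (.leaf (nat_lit 640)) (.node (nat_lit 155934) (.leaf (nat_lit 32)) (.leaf (nat_lit 640)))))))) (.node (nat_lit 161015) (.node (nat_lit 158335) (.node (nat_lit 157636) (.node (nat_lit 156798) (.node (nat_lit 156658) (.leaf (nat_lit 32)) (.leaf (nat_lit 640))) (.node (nat_lit 157275) (.leaf (nat_lit 1312)) (.node (nat_lit 157290) (.leaf (nat_lit 32)) (.leaf (nat_lit 640))))) (.node (nat_lit 157962) (.node (nat_lit 157797) (.leaf (nat_lit 96)) (.leaf (nat_lit 640))) (.node (nat_lit 158274) (.leaf (nat_lit 32)) (.node (nat_lit 158278) (.leaf (nat_lit 640)) (.leaf (nat_lit 1)))))) (.node (nat_lit 160512) (.node (nat_lit 158758) (.node (nat_lit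 158612) (.leaf (nat_lit 640)) (.leaf (nat_lit 32))) (.node (nat_lit 159236) (.leaf (nat_lit 640)) (.node (nat_lit 159841) (.leaf (nat_lit 1)) (.leaf (nat_lit 640))))) (.node (nat_lit 160709) (.node (nat_lit 160604) (.leaf (nat_lit 1)) (.node (nat_lit 160648) (.leaf (nat_lit 32)) (.leaf (nat_lit 1)))) (.node (nat_lit 160766) (.leaf (nat_lit 640)) (.node (nat_lit 160960) (.leaf (nat_lit 32)) (.leaf (nat_lit 800))))))) (.node (nat_lit 162590) (.node (nat_lit 162123) (.node (nat_lit 161616) (.node (nat_lit 161422) (.leaf (nat_lit 640)) (.leaf (nat_lit 1))) (.node (nat_lit 161813) (.leaf (nat_lit 640)) (.node (nat_lit 161996) (.leaf (nat_lit 1344)) (.leaf (nat_lit 640))))) (.node (nat_lit 162270) (.node (nat_lit 162206) (.leaf (nat_lit 672)) (.leaf (nat_lit 640))) (.node (nat_lit 162360) (.leaf (nat_lit 672)) (.node (nat_lit 162402) (.leaf (nat_lit 1312)) (.leaf (nat_lit 640)))))) (.node (nat_lit 164254) (.node (nat_lit 163434) (.node (nat_lit 162671) (.leaf (nat_lit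 704)) (.leaf (nat_lit 640))) (.node (nat_lit 163525) (.leaf (nat_lit 1312)) (.node (nat_lit 164105) (.leaf (nat_lit 640)) (.leaf (nat_lit 32))))) (.node (nat_lit 165051) (.node (nat_lit 164470) (.leaf (nat_lit 672)) (.node (nat_lit 164910) (.leaf (nat_lit 640)) (.leaf (nat_lit 1)))) (.node (nat_lit 166723) (.leaf (nat_lit 640)) (.node (nat_lit 166893) (.leaf (nat_lit 32)) (.leaf (nat_lit 672)))))))))))) (.node (nat_lit 255814) (.node (nat_lit 211257) (.node (nat_lit 187296) (.node (nat_lit 176085) (.node (nat_lit 169502) (.node (nat_lit 168626) (.node (nat_lit 167777) (.node (nat_lit 167428) (.node (nat_lit 167282) (.leaf (nat_lit 32)) (.leaf (nat_lit 1312))) (.node (nat_lit 167523) (.leaf (nat_lit 32)) (.node (nat_lit 167623) (.leaf (nat_lit 1312)) (.leaf (nat_lit 640))))) (.node (nat_lit 167939) (.node (nat_lit 167785) (.leaf (nat_lit 672)) (.leaf (nat_lit 1312))) (.node (nat_lit 168264) (.leaf (nat_lit 640)) (.node (nat_lit 168330) (.leaf (nat_lit 672)) (.leaf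 (nat_lit 640)))))) (.node (nat_lit 169283) (.node (nat_lit 168974) (.node (nat_lit 168731) (.leaf (nat_lit 32)) (.leaf (nat_lit 640))) (.node (nat_lit 169112) (.leaf (nat_lit 32)) (.node (nat_lit 169165) (.leaf (nat_lit 640)) (.leaf (nat_lit 32))))) (.node (nat_lit 169335) (.node (nat_lit 169325) (.leaf (nat_lit 640)) (.leaf (nat_lit 1312))) (.node (nat_lit 169403) (.leaf (nat_lit 32)) (.node (nat_lit 169418) (.leaf (nat_lit 640)) (.leaf (nat_lit 32))))))) (.node (nat_lit 171756) (.node (nat_lit 170636) (.node (nat_lit 169717) (.node (nat_lit 169709) (.leaf (nat_lit 640)) (.leaf (nat_lit 32))) (.node (nat_lit 170487) (.leaf (nat_lit 640)) (.node (nat_lit 170495) (.leaf (nat_lit 32)) (.leaf (nat_lit 96))))) (.node (nat_lit 171221) (.node (nat_lit 170731) (.leaf (nat_lit 32)) (.leaf (nat_lit 704))) (.node (nat_lit 171579) (.leaf (nat_lit 640)) (.node (nat_lit 171671) (.leaf (nat_lit 1312)) (.leaf (nat_lit 32)))))) (.node (nat_lit 173188) (.node (nat_lit 171876)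 (.node (nat_lit 171766) (.leaf (nat_lit 1312)) (.leaf (nat_lit 32))) (.node (nat_lit 172596) (.leaf (nat_lit 640)) (.node (nat_lit 172899) (.leaf (nat_lit 32)) (.leaf (nat_lit 640))))) (.node (nat_lit 174916) (.node (nat_lit 173334) (.leaf (nat_lit 32)) (.node (nat_lit 174600) (.leaf (nat_lit 640)) (.leaf (nat_lit 1)))) (.node (nat_lit 175635) (.leaf (nat_lit 32)) (.node (nat_lit 175641) (.leaf (nat_lit 704)) (.leaf (nat_lit 736)))))))) (.node (nat_lit 181494) (.node (nat_lit 178700) (.node (nat_lit 177422) (.node (nat_lit 176709) (.node (nat_lit 176337) (.leaf (nat_lit 672)) (.leaf (nat_lit 1312))) (.node (nat_lit 176980) (.leaf (nat_lit 672)) (.node (nat_lit 177263) (.leaf (nat_lit 1312)) (.leaf (nat_lit 640))))) (.node (nat_lit 177914) (.node (nat_lit 177897) (.leaf (nat_lit 1)) (.leaf (nat_lit 640))) (.node (nat_lit 178114) (.leaf (nat_lit 1312)) (.node (nat_lit 178308) (.leaf (nat_lit 640)) (.leaf (nat_lit 32)))))) (.node (nat_lit 179765) (.node (nat_lit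 178818) (.node (nat_lit 178809) (.leaf (nat_lit 640)) (.leaf (nat_lit 32))) (.node (nat_lit 179072) (.leaf (nat_lit 640)) (.node (nat_lit 179702) (.leaf (nat_lit 32)) (.leaf (nat_lit 640))))) (.node (nat_lit 180403) (.node (nat_lit 180329) (.leaf (nat_lit 1312)) (.node (nat_lit 180382) (.leaf (nat_lit 32)) (.leaf (nat_lit 640)))) (.node (nat_lit 180547) (.leaf (nat_lit 32)) (.node (nat_lit 181275) (.leaf (nat_lit 96)) (.leaf (nat_lit 32))))))) (.node (nat_lit 183853) (.node (nat_lit 182893) (.node (nat_lit 182140) (.node (nat_lit 181580) (.leaf (nat_lit 640)) (.leaf (nat_lit 32))) (.node (nat_lit 182186) (.leaf (nat_lit 1312)) (.node (nat_lit 182607) (.leaf (nat_lit 32)) (.leaf (nat_lit 640))))) (.node (nat_lit 183087) (.node (nat_lit 183005) (.leaf (nat_lit 32)) (.leaf (nat_lit 704))) (.node (nat_lit 183399) (.leaf (nat_lit 32)) (.node (nat_lit 183484) (.leaf (nat_lit 640)) (.leaf (nat_lit 672)))))) (.node (nat_lit 186165) (.node (nat_lit 185247) (.node (nat_lit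 184502) (.leaf (nat_lit 32)) (.leaf (nat_lit 640))) (.node (nat_lit 185372) (.leaf (nat_lit 672)) (.node (nat_lit 185856) (.leaf (nat_lit 640)) (.leaf (nat_lit 672))))) (.node (nat_lit 186913) (.node (nat_lit 186436) (.leaf (nat_lit 640)) (.node (nat_lit 186460) (.leaf (nat_lit 32)) (.leaf (nat_lit 640)))) (.node (nat_lit 186921) (.leaf (nat_lit 1312)) (.node (nat_lit 186953) (.leaf (nat_lit 640)) (.leaf (nat_lit 1312))))))))) (.node (nat_lit 197994) (.node (nat_lit 192591) (.node (nat_lit 189045) (.node (nat_lit 188525) (.node (nat_lit 187799) (.node (nat_lit 187572) (.leaf (nat_lit 640)) (.leaf (nat_lit 672))) (.node (nat_lit 188347) (.leaf (nat_lit 640)) (.node (nat_lit 188409) (.leaf (nat_lit 1312)) (.leaf (nat_lit 640))))) (.node (nat_lit 188646) (.node (nat_lit 188627) (.leaf (nat_lit 96)) (.leaf (nat_lit 704))) (.node (nat_lit 188781) (.leaf (nat_lit 640)) (.node (nat_lit 188790) (.leaf (nat_lit 32)) (.leaf (nat_lit 1312)))))) (.node (nat_lit 190666) (.node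 (nat_lit 189560) (.node (nat_lit 189425) (.leaf (nat_lit 640)) (.leaf (nat_lit 32))) (.node (nat_lit 189825) (.leaf (nat_lit 640)) (.node (nat_lit 190053) (.leaf (nat_lit 672)) (.leaf (nat_lit 640))))) (.node (nat_lit 191249) (.node (nat_lit 191033) (.leaf (nat_lit 32)) (.leaf (nat_lit 1312))) (.node (nat_lit 191610) (.leaf (nat_lit 640)) (.node (nat_lit 192040) (.leaf (nat_lit 32)) (.leaf (nat_lit 640))))))) (.node (nat_lit 195767) (.node (nat_lit 193856) (.node (nat_lit 193396) (.node (nat_lit 192900) (.leaf (nat_lit 32)) (.leaf (nat_lit 640))) (.node (nat_lit 193411) (.leaf (nat_lit 32)) (.node (nat_lit 193531) (.leaf (nat_lit 1312)) (.leaf (nat_lit 32))))) (.node (nat_lit 195131) (.node (nat_lit 195039) (.leaf (nat_lit 640)) (.leaf (nat_lit 1312))) (.node (nat_lit 195367) (.leaf (nat_lit 32)) (.node (nat_lit 195456) (.leaf (nat_lit 640)) (.leaf (nat_lit 96)))))) (.node (nat_lit 196951) (.node (nat_lit 196359) (.node (nat_lit 195906) (.leaf (nat_lit 640))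 (.leaf (nat_lit 1))) (.node (nat_lit 196385) (.leaf (nat_lit 1312)) (.node (nat_lit 196846) (.leaf (nat_lit 640)) (.leaf (nat_lit 32))))) (.node (nat_lit 197416) (.node (nat_lit 197000) (.leaf (nat_lit 640)) (.node (nat_lit 197337) (.leaf (nat_lit 32)) (.leaf (nat_lit 96)))) (.node (nat_lit 197886) (.leaf (nat_lit 640)) (.node (nat_lit 197992) (.leaf (nat_lit 32)) (.leaf (nat_lit 640)))))))) (.node (nat_lit 203729) (.node (nat_lit 200520) (.node (nat_lit 198951) (.node (nat_lit 198285) (.node (nat_lit 198037) (.leaf (nat_lit 736)) (.leaf (nat_lit 32))) (.node (nat_lit 198318) (.leaf (nat_lit 640)) (.node (nat_lit 198355) (.leaf (nat_lit 1344)) (.leaf (nat_lit 1312))))) (.node (nat_lit 199283) (.node (nat_lit 199018) (.leaf (nat_lit 672)) (.leaf (nat_lit 640))) (.node (nat_lit 199742) (.leaf (nat_lit 32)) (.node (nat_lit 199929) (.leaf (nat_lit 672)) (.leaf (nat_lit 640)))))) (.node (nat_lit 201664) (.node (nat_lit 200791) (.node (nat_lit 200667) (.leaf (nat_lit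 1344)) (.leaf (nat_lit 672))) (.node (nat_lit 201153) (.leaf (nat_lit 640)) (.node (nat_lit 201555) (.leaf (nat_lit 32)) (.leaf (nat_lit 672))))) (.node (nat_lit 202765) (.node (nat_lit 202133) (.leaf (nat_lit 640)) (.node (nat_lit 202203) (.leaf (nat_lit 1312)) (.leaf (nat_lit 640)))) (.node (nat_lit 203115) (.leaf (nat_lit 32)) (.node (nat_lit 203624) (.leaf (nat_lit 640)) (.leaf (nat_lit 32))))))) (.node (nat_lit 206297) (.node (nat_lit 204539) (.node (nat_lit 203767) (.node (nat_lit 203755) (.leaf (nat_lit 704)) (.leaf (nat_lit 32))) (.node (nat_lit 204051) (.leaf (nat_lit 640)) (.node (nat_lit 204398) (.leaf (nat_lit 1312)) (.leaf (nat_lit 32))))) (.node (nat_lit 205265) (.node (nat_lit 204738) (.leaf (nat_lit 1312)) (.leaf (nat_lit 32))) (.node (nat_lit 206023) (.leaf (nat_lit 1312)) (.node (nat_lit 206247) (.leaf (nat_lit 640)) (.leaf (nat_lit 32)))))) (.node (nat_lit 208654) (.node (nat_lit 207099) (.node (nat_lit 206444) (.leaf (nat_lit 1344)) (.leaf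 (nat_lit 1312))) (.node (nat_lit 207836) (.leaf (nat_lit 640)) (.node (nat_lit 208117) (.leaf (nat_lit 1312)) (.leaf (nat_lit 640))))) (.node (nat_lit 209052) (.node (nat_lit 209027) (.leaf (nat_lit 32)) (.node (nat_lit 209030) (.leaf (nat_lit 672)) (.leaf (nat_lit 1312)))) (.node (nat_lit 209212) (.leaf (nat_lit 640)) (.node (nat_lit 209910) (.leaf (nat_lit 1)) (.leaf (nat_lit 640)))))))))) (.node (nat_lit 233337) (.node (nat_lit 220989) (.node (nat_lit 216339) (.node (nat_lit 213704) (.node (nat_lit 212540) (.node (nat_lit 211805) (.node (nat_lit 211598) (.leaf (nat_lit 32)) (.leaf (nat_lit 1))) (.node (nat_lit 212221) (.leaf (nat_lit 640)) (.node (nat_lit 212342) (.leaf (nat_lit 1312)) (.leaf (nat_lit 640))))) (.node (nat_lit 213183) (.node (nat_lit 212717) (.leaf (nat_lit 32)) (.leaf (nat_lit 1344))) (.node (nat_lit 213385) (.leaf (nat_lit 672)) (.node (nat_lit 213434) (.leaf (nat_lit 32)) (.leaf (nat_lit 1)))))) (.node (nat_lit 214181) (.node (nat_lit 213736)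 (.node (nat_lit 213724) (.leaf (nat_lit 640)) (.leaf (nat_lit 672))) (.node (nat_lit 213979) (.leaf (nat_lit 640)) (.node (nat_lit 214035) (.leaf (nat_lit 672)) (.leaf (nat_lit 32))))) (.node (nat_lit 216071) (.node (nat_lit 214205) (.leaf (nat_lit 1312)) (.leaf (nat_lit 640))) (.node (nat_lit 216078) (.leaf (nat_lit 1344)) (.node (nat_lit 216269) (.leaf (nat_lit 640)) (.leaf (nat_lit 32))))))) (.node (nat_lit 217412) (.node (nat_lit 217025) (.node (nat_lit 216766) (.node (nat_lit 216434) (.leaf (nat_lit 672)) (.leaf (nat_lit 640))) (.node (nat_lit 216844) (.leaf (nat_lit 96)) (.node (nat_lit 216864) (.leaf (nat_lit 640)) (.leaf (nat_lit 32))))) (.node (nat_lit 217241) (.node (nat_lit 217063) (.leaf (nat_lit 640)) (.leaf (nat_lit 128))) (.node (nat_lit 217330) (.leaf (nat_lit 32)) (.node (nat_lit 217361) (.leaf (nat_lit 672)) (.leaf (nat_lit 640)))))) (.node (nat_lit 219677) (.node (nat_lit 218095) (.node (nat_lit 218034) (.leaf (nat_lit 32)) (.leaf (nat_lit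 672))) (.node (nat_lit 218672) (.leaf (nat_lit 32)) (.node (nat_lit 219336) (.leaf (nat_lit 640)) (.leaf (nat_lit 32))))) (.node (nat_lit 219780) (.node (nat_lit 219684) (.leaf (nat_lit 672)) (.node (nat_lit 219762) (.leaf (nat_lit 640)) (.leaf (nat_lit 32)))) (.node (nat_lit 220077) (.leaf (nat_lit 640)) (.node (nat_lit 220190) (.leaf (nat_lit 672)) (.leaf (nat_lit 640)))))))) (.node (nat_lit 226388) (.node (nat_lit 222898) (.node (nat_lit 221920) (.node (nat_lit 221623) (.node (nat_lit 221418) (.leaf (nat_lit 32)) (.leaf (nat_lit 1312))) (.node (nat_lit 221647) (.leaf (nat_lit 32)) (.node (nat_lit 221773) (.leaf (nat_lit 640)) (.leaf (nat_lit 32))))) (.node (nat_lit 222141) (.node (nat_lit 222003) (.leaf (nat_lit 640)) (.leaf (nat_lit 672))) (.node (nat_lit 222281) (.leaf (nat_lit 640)) (.node (nat_lit 222324) (.leaf (nat_lit 32)) (.leaf (nat_lit 640)))))) (.node (nat_lit 224122) (.node (nat_lit 223220) (.node (nat_lit 223178) (.leaf (nat_lit 32)) (.leaf (nat_lit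 640))) (.node (nat_lit 223287) (.leaf (nat_lit 1312)) (.node (nat_lit 224068) (.leaf (nat_lit 640)) (.leaf (nat_lit 672))))) (.node (nat_lit 225056) (.node (nat_lit 224332) (.leaf (nat_lit 640)) (.node (nat_lit 224526) (.leaf (nat_lit 672)) (.leaf (nat_lit 640)))) (.node (nat_lit 225406) (.leaf (nat_lit 672)) (.node (nat_lit 225666) (.leaf (nat_lit 96)) (.leaf (nat_lit 640))))))) (.node (nat_lit 230120) (.node (nat_lit 227259) (.node (nat_lit 227179) (.node (nat_lit 226412) (.leaf (nat_lit 1344)) (.leaf (nat_lit 640))) (.node (nat_lit 227192) (.leaf (nat_lit 1312)) (.node (nat_lit 227250) (.leaf (nat_lit 736)) (.leaf (nat_lit 32))))) (.node (nat_lit 227461) (.node (nat_lit 227441) (.leaf (nat_lit 640)) (.leaf (nat_lit 672))) (.node (nat_lit 228784) (.leaf (nat_lit 640)) (.node (nat_lit 229009) (.leaf (nat_lit 32)) (.leaf (nat_lit 640)))))) (.node (nat_lit 230929) (.node (nat_lit 230339) (.node (nat_lit 230302) (.leaf (nat_lit 1312)) (.leaf (nat_lit 640))) (.node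 (nat_lit 230397) (.leaf (nat_lit 32)) (.node (nat_lit 230684) (.leaf (nat_lit 640)) (.leaf (nat_lit 672))))) (.node (nat_lit 232382) (.node (nat_lit 232347) (.leaf (nat_lit 640)) (.node (nat_lit 232379) (.leaf (nat_lit 96)) (.leaf (nat_lit 1312)))) (.node (nat_lit 232541) (.leaf (nat_lit 640)) (.node (nat_lit 232830) (.leaf (nat_lit 32)) (.leaf (nat_lit 640))))))))) (.node (nat_lit 246969) (.node (nat_lit 239336) (.node (nat_lit 237818) (.node (nat_lit 235307) (.node (nat_lit 234586) (.node (nat_lit 233386) (.leaf (nat_lit 1312)) (.leaf (nat_lit 640))) (.node (nat_lit 235172) (.leaf (nat_lit 32)) (.node (nat_lit 235197) (.leaf (nat_lit 640)) (.leaf (nat_lit 32))))) (.node (nat_lit 237282) (.node (nat_lit 237114) (.leaf (nat_lit 640)) (.leaf (nat_lit 32))) (.node (nat_lit 237431) (.leaf (nat_lit 1312)) (.node (nat_lit 237596) (.leaf (nat_lit 672)) (.leaf (nat_lit 1)))))) (.node (nat_lit 238873) (.node (nat_lit 238021) (.node (nat_lit 237821) (.leaf (nat_lit 32))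 (.leaf (nat_lit 640))) (.node (nat_lit 238444) (.leaf (nat_lit 704)) (.node (nat_lit 238491) (.leaf (nat_lit 1312)) (.leaf (nat_lit 640))))) (.node (nat_lit 239142) (.node (nat_lit 239046) (.leaf (nat_lit 672)) (.leaf (nat_lit 1))) (.node (nat_lit 239172) (.leaf (nat_lit 1344)) (.node (nat_lit 239328) (.leaf (nat_lit 640)) (.leaf (nat_lit 672))))))) (.node (nat_lit 243025) (.node (nat_lit 240239) (.node (nat_lit 239535) (.node (nat_lit 239449) (.leaf (nat_lit 32)) (.leaf (nat_lit 672))) (.node (nat_lit 240142) (.leaf (nat_lit 640)) (.node (nat_lit 240220) (.leaf (nat_lit 1312)) (.leaf (nat_lit 640))))) (.node (nat_lit 241456) (.node (nat_lit 240590) (.leaf (nat_lit 1312)) (.leaf (nat_lit 32))) (.node (nat_lit 242021) (.leaf (nat_lit 640)) (.node (nat_lit 242037) (.leaf (nat_lit 32)) (.leaf (nat_lit 640)))))) (.node (nat_lit 244433) (.node (nat_lit 243632) (.node (nat_lit 243242) (.leaf (nat_lit 32)) (.leaf (nat_lit 640))) (.node (nat_lit 243731) (.leaf (nat_lit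 32)) (.node (nat_lit 244268) (.leaf (nat_lit 640)) (.leaf (nat_lit 32))))) (.node (nat_lit 245987) (.node (nat_lit 244797) (.leaf (nat_lit 640)) (.node (nat_lit 245449) (.leaf (nat_lit 32)) (.leaf (nat_lit 640)))) (.node (nat_lit 246122) (.leaf (nat_lit 128)) (.node (nat_lit 246381) (.leaf (nat_lit 1312)) (.leaf (nat_lit 640)))))))) (.node (nat_lit 251664) (.node (nat_lit 249126) (.node (nat_lit 248422) (.node (nat_lit 247426) (.node (nat_lit 247345) (.leaf (nat_lit 32)) (.leaf (nat_lit 640))) (.node (nat_lit 247994) (.leaf (nat_lit 128)) (.node (nat_lit 248080) (.leaf (nat_lit 32)) (.leaf (nat_lit 640))))) (.node (nat_lit 248658) (.node (nat_lit 248641) (.leaf (nat_lit 32)) (.leaf (nat_lit 640))) (.node (nat_lit 248742) (.leaf (nat_lit 1312)) (.node (nat_lit 248819) (.leaf (nat_lit 640)) (.leaf (nat_lit 32)))))) (.node (nat_lit 250299) (.node (nat_lit 249707) (.node (nat_lit 249574) (.leaf (nat_lit 672)) (.leaf (nat_lit 640))) (.node (nat_lit 249784) (.leaf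 (nat_lit 1312)) (.node (nat_lit 250254) (.leaf (nat_lit 640)) (.leaf (nat_lit 1312))))) (.node (nat_lit 251184) (.node (nat_lit 250404) (.leaf (nat_lit 640)) (.node (nat_lit 250637) (.leaf (nat_lit 1312)) (.leaf (nat_lit 640)))) (.node (nat_lit 251462) (.leaf (nat_lit 1312)) (.node (nat_lit 251544) (.leaf (nat_lit 640)) (.leaf (nat_lit 800))))))) (.node (nat_lit 253741) (.node (nat_lit 253008) (.node (nat_lit 252103) (.node (nat_lit 251724) (.leaf (nat_lit 32)) (.leaf (nat_lit 640))) (.node (nat_lit 252132) (.leaf (nat_lit 672)) (.node (nat_lit 252351) (.leaf (nat_lit 32)) (.leaf (nat_lit 640))))) (.node (nat_lit 253079) (.node (nat_lit 253025) (.leaf (nat_lit 1312)) (.leaf (nat_lit 32))) (.node (nat_lit 253607) (.leaf (nat_lit 640)) (.node (nat_lit 253610) (.leaf (nat_lit 1312)) (.leaf (nat_lit 640)))))) (.node (nat_lit 254343) (.node (nat_lit 253886) (.node (nat_lit 253751) (.leaf (nat_lit 1344)) (.leaf (nat_lit 640))) (.node (nat_lit 253937) (.leaf (nat_lit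 32)) (.node (nat_lit 254233) (.leaf (nat_lit 640)) (.leaf (nat_lit 672))))) (.node (nat_lit 255220) (.node (nat_lit 254371) (.leaf (nat_lit 32)) (.node (nat_lit 254838) (.leaf (nat_lit 640)) (.leaf (nat_lit 1312)))) (.node (nat_lit 255463) (.leaf (nat_lit 32)) (.node (nat_lit 255570) (.leaf (nat_lit 672)) (.leaf (nat_lit 1312))))))))))) (.node (nat_lit 300934) (.node (nat_lit 276859) (.node (nat_lit 265870) (.node (nat_lit 260648) (.node (nat_lit 258122) (.node (nat_lit 256502) (.node (nat_lit 256067) (.node (nat_lit 255904) (.leaf (nat_lit 640)) (.leaf (nat_lit 800))) (.node (nat_lit 256246) (.leaf (nat_lit 640)) (.node (nat_lit 256434) (.leaf (nat_lit 672)) (.leaf (nat_lit 1312))))) (.node (nat_lit 257537) (.node (nat_lit 257233) (.leaf (nat_lit 640)) (.leaf (nat_lit 1312))) (.node (nat_lit 257994) (.leaf (nat_lit 640)) (.node (nat_lit 258026) (.leaf (nat_lit 704)) (.leaf (nat_lit 640)))))) (.node (nat_lit 260017) (.node (nat_lit 258712) (.node (nat_lit 258237)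 (.leaf (nat_lit 32)) (.leaf (nat_lit 640))) (.node (nat_lit 258898) (.leaf (nat_lit 32)) (.node (nat_lit 258965) (.leaf (nat_lit 640)) (.leaf (nat_lit 32))))) (.node (nat_lit 260110) (.node (nat_lit 260101) (.leaf (nat_lit 672)) (.leaf (nat_lit 640))) (.node (nat_lit 260290) (.leaf (nat_lit 672)) (.node (nat_lit 260599) (.leaf (nat_lit 1)) (.leaf (nat_lit 672))))))) (.node (nat_lit 263147) (.node (nat_lit 261746) (.node (nat_lit 261459) (.node (nat_lit 261439) (.leaf (nat_lit 640)) (.leaf (nat_lit 32))) (.node (nat_lit 261464) (.leaf (nat_lit 672)) (.node (nat_lit 261494) (.leaf (nat_lit 1)) (.leaf (nat_lit 800))))) (.node (nat_lit 262884) (.node (nat_lit 262039) (.leaf (nat_lit 1312)) (.leaf (nat_lit 32))) (.node (nat_lit 262922) (.leaf (nat_lit 672)) (.node (nat_lit 262966) (.leaf (nat_lit 1344)) (.leaf (nat_lit 32)))))) (.node (nat_lit 264063) (.node (nat_lit 263711) (.node (nat_lit 263298) (.leaf (nat_lit 640)) (.leaf (nat_lit 32))) (.node (nat_lit 263789)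 (.leaf (nat_lit 640)) (.node (nat_lit 263809) (.leaf (nat_lit 32)) (.leaf (nat_lit 672))))) (.node (nat_lit 265007) (.node (nat_lit 264156) (.leaf (nat_lit 96)) (.node (nat_lit 264654) (.leaf (nat_lit 640)) (.leaf (nat_lit 32)))) (.node (nat_lit 265523) (.leaf (nat_lit 1312)) (.node (nat_lit 265572) (.leaf (nat_lit 704)) (.leaf (nat_lit 640)))))))) (.node (nat_lit 271079) (.node (nat_lit 267174) (.node (nat_lit 266808) (.node (nat_lit 266004) (.node (nat_lit 265956) (.leaf (nat_lit 32)) (.leaf (nat_lit 96))) (.node (nat_lit 266236) (.leaf (nat_lit 1)) (.node (nat_lit 266612) (.leaf (nat_lit 640)) (.leaf (nat_lit 672))))) (.node (nat_lit 266910) (.node (nat_lit 266814) (.leaf (nat_lit 32)) (.leaf (nat_lit 672))) (.node (nat_lit 267105) (.leaf (nat_lit 32)) (.node (nat_lit 267157) (.leaf (nat_lit 640)) (.leaf (nat_lit 1344)))))) (.node (nat_lit 267671) (.node (nat_lit 267370) (.node (nat_lit 267305) (.leaf (nat_lit 672)) (.leaf (nat_lit 32))) (.node (nat_lit 267500)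 (.leaf (nat_lit 1312)) (.node (nat_lit 267586) (.leaf (nat_lit 640)) (.leaf (nat_lit 1))))) (.node (nat_lit 267927) (.node (nat_lit 267721) (.leaf (nat_lit 640)) (.node (nat_lit 267883) (.leaf (nat_lit 32)) (.leaf (nat_lit 640)))) (.node (nat_lit 269768) (.leaf (nat_lit 32)) (.node (nat_lit 270958) (.leaf (nat_lit 640)) (.leaf (nat_lit 32))))))) (.node (nat_lit 273934) (.node (nat_lit 272672) (.node (nat_lit 272009) (.node (nat_lit 271219) (.leaf (nat_lit 672)) (.leaf (nat_lit 32))) (.node (nat_lit 272322) (.leaf (nat_lit 96)) (.node (nat_lit 272330) (.leaf (nat_lit 1312)) (.leaf (nat_lit 640))))) (.node (nat_lit 273425) (.node (nat_lit 272911) (.leaf (nat_lit 672)) (.leaf (nat_lit 32))) (.node (nat_lit 273457) (.leaf (nat_lit 704)) (.node (nat_lit 273719) (.leaf (nat_lit 672)) (.leaf (nat_lit 640)))))) (.node (nat_lit 275417) (.node (nat_lit 274672) (.node (nat_lit 273958) (.leaf (nat_lit 96)) (.leaf (nat_lit 32))) (.node (nat_lit 274728) (.leaf (nat_lit 640))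 (.node (nat_lit 274770) (.leaf (nat_lit 32)) (.leaf (nat_lit 640))))) (.node (nat_lit 276344) (.node (nat_lit 275433) (.leaf (nat_lit 32)) (.node (nat_lit 275898) (.leaf (nat_lit 640)) (.leaf (nat_lit 1)))) (.node (nat_lit 276442) (.leaf (nat_lit 640)) (.node (nat_lit 276700) (.leaf (nat_lit 1312)) (.leaf (nat_lit 640))))))))) (.node (nat_lit 288841) (.node (nat_lit 282428) (.node (nat_lit 279627) (.node (nat_lit 278453) (.node (nat_lit 277247) (.node (nat_lit 277125) (.leaf (nat_lit 32)) (.leaf (nat_lit 640))) (.node (nat_lit 277417) (.leaf (nat_lit 1312)) (.node (nat_lit 277895) (.leaf (nat_lit 96)) (.leaf (nat_lit 640))))) (.node (nat_lit 278916) (.node (nat_lit 278638) (.leaf (nat_lit 32)) (.leaf (nat_lit 640))) (.node (nat_lit 279008) (.leaf (nat_lit 32)) (.node (nat_lit 279500) (.leaf (nat_lit 640)) (.leaf (nat_lit 32)))))) (.node (nat_lit 281287) (.node (nat_lit 280304) (.node (nat_lit 279644) (.leaf (nat_lit 1312)) (.leaf (nat_lit 32))) (.node (nat_lit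 280960) (.leaf (nat_lit 640)) (.node (nat_lit 281023) (.leaf (nat_lit 32)) (.leaf (nat_lit 672))))) (.node (nat_lit 281528) (.node (nat_lit 281360) (.leaf (nat_lit 640)) (.leaf (nat_lit 736))) (.node (nat_lit 281811) (.leaf (nat_lit 640)) (.node (nat_lit 282198) (.leaf (nat_lit 1344)) (.leaf (nat_lit 640))))))) (.node (nat_lit 284184) (.node (nat_lit 283031) (.node (nat_lit 282671) (.node (nat_lit 282548) (.leaf (nat_lit 1312)) (.leaf (nat_lit 32))) (.node (nat_lit 282746) (.leaf (nat_lit 704)) (.node (nat_lit 282964) (.leaf (nat_lit 96)) (.leaf (nat_lit 672))))) (.node (nat_lit 283627) (.node (nat_lit 283540) (.leaf (nat_lit 640)) (.leaf (nat_lit 32))) (.node (nat_lit 283915) (.leaf (nat_lit 672)) (.node (nat_lit 284141) (.leaf (nat_lit 704)) (.leaf (nat_lit 640)))))) (.node (nat_lit 286452) (.node (nat_lit 284617) (.node (nat_lit 284209) (.leaf (nat_lit 32)) (.leaf (nat_lit 640))) (.node (nat_lit 284786) (.leaf (nat_lit 736)) (.node (nat_lit 286131) (.leaf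 (nat_lit 640)) (.leaf (nat_lit 32))))) (.node (nat_lit 287542) (.node (nat_lit 286964) (.leaf (nat_lit 1312)) (.node (nat_lit 287113) (.leaf (nat_lit 32)) (.leaf (nat_lit 640)))) (.node (nat_lit 287583) (.leaf (nat_lit 1312)) (.node (nat_lit 288510) (.leaf (nat_lit 640)) (.leaf (nat_lit 32)))))))) (.node (nat_lit 294587) (.node (nat_lit 291457) (.node (nat_lit 289619) (.node (nat_lit 289226) (.node (nat_lit 289138) (.leaf (nat_lit 640)) (.leaf (nat_lit 1312))) (.node (nat_lit 289448) (.leaf (nat_lit 640)) (.node (nat_lit 289478) (.leaf (nat_lit 672)) (.leaf (nat_lit 32))))) (.node (nat_lit 290117) (.node (nat_lit 290009) (.leaf (nat_lit 640)) (.leaf (nat_lit 32))) (.node (nat_lit 290864) (.leaf (nat_lit 640)) (.node (nat_lit 290966) (.leaf (nat_lit 32)) (.leaf (nat_lit 640)))))) (.node (nat_lit 292927) (.node (nat_lit 292537) (.node (nat_lit 291529) (.leaf (nat_lit 32)) (.leaf (nat_lit 640))) (.node (nat_lit 292735) (.leaf (nat_lit 32)) (.node (nat_lit 292850)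 (.leaf (nat_lit 640)) (.leaf (nat_lit 32))))) (.node (nat_lit 293430) (.node (nat_lit 293267) (.leaf (nat_lit 1312)) (.node (nat_lit 293311) (.leaf (nat_lit 640)) (.leaf (nat_lit 672)))) (.node (nat_lit 293786) (.leaf (nat_lit 640)) (.node (nat_lit 294134) (.leaf (nat_lit 704)) (.leaf (nat_lit 1312))))))) (.node (nat_lit 297222) (.node (nat_lit 296546) (.node (nat_lit 295255) (.node (nat_lit 295200) (.leaf (nat_lit 640)) (.leaf (nat_lit 32))) (.node (nat_lit 296476) (.leaf (nat_lit 640)) (.node (nat_lit 296503) (.leaf (nat_lit 672)) (.leaf (nat_lit 640))))) (.node (nat_lit 296841) (.node (nat_lit 296594) (.leaf (nat_lit 672)) (.leaf (nat_lit 640))) (.node (nat_lit 296990) (.leaf (nat_lit 32)) (.node (nat_lit 297221) (.leaf (nat_lit 640)) (.leaf (nat_lit 96)))))) (.node (nat_lit 298841) (.node (nat_lit 297626) (.node (nat_lit 297258) (.leaf (nat_lit 1312)) (.leaf (nat_lit 32))) (.node (nat_lit 297986) (.leaf (nat_lit 640)) (.node (nat_lit 298021) (.leaf (nat_lit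 32)) (.leaf (nat_lit 640))))) (.node (nat_lit 300213) (.node (nat_lit 299110) (.leaf (nat_lit 672)) (.node (nat_lit 299404) (.leaf (nat_lit 32)) (.leaf (nat_lit 640)))) (.node (nat_lit 300276) (.leaf (nat_lit 672)) (.node (nat_lit 300317) (.leaf (nat_lit 640)) (.leaf (nat_lit 672)))))))))) (.node (nat_lit 319491) (.node (nat_lit 311527) (.node (nat_lit 306227) (.node (nat_lit 303972) (.node (nat_lit 302960) (.node (nat_lit 301307) (.node (nat_lit 301105) (.leaf (nat_lit 32)) (.leaf (nat_lit 640))) (.node (nat_lit 301423) (.leaf (nat_lit 32)) (.node (nat_lit 301665) (.leaf (nat_lit 672)) (.leaf (nat_lit 640))))) (.node (nat_lit 303439) (.node (nat_lit 303095) (.leaf (nat_lit 32)) (.leaf (nat_lit 640))) (.node (nat_lit 303769) (.leaf (nat_lit 672)) (.node (nat_lit 303845) (.leaf (nat_lit 96)) (.leaf (nat_lit 32)))))) (.node (nat_lit 304303) (.node (nat_lit 304070) (.node (nat_lit 304033) (.leaf (nat_lit 640)) (.leaf (nat_lit 1344))) (.node (nat_lit 304160) (.leaf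 (nat_lit 640)) (.node (nat_lit 304194) (.leaf (nat_lit 672)) (.leaf (nat_lit 640))))) (.node (nat_lit 304989) (.node (nat_lit 304517) (.leaf (nat_lit 32)) (.leaf (nat_lit 1312))) (.node (nat_lit 305793) (.leaf (nat_lit 640)) (.node (nat_lit 305998) (.leaf (nat_lit 1312)) (.leaf (nat_lit 672))))))) (.node (nat_lit 308521) (.node (nat_lit 307354) (.node (nat_lit 307032) (.node (nat_lit 306656) (.leaf (nat_lit 32)) (.leaf (nat_lit 640))) (.node (nat_lit 307252) (.leaf (nat_lit 1)) (.node (nat_lit 307316) (.leaf (nat_lit 640)) (.leaf (nat_lit 672))))) (.node (nat_lit 307732) (.node (nat_lit 307671) (.leaf (nat_lit 32)) (.leaf (nat_lit 1312))) (.node (nat_lit 308243) (.leaf (nat_lit 640)) (.node (nat_lit 308308) (.leaf (nat_lit 1344)) (.leaf (nat_lit 672)))))) (.node (nat_lit 309588) (.node (nat_lit 309112) (.node (nat_lit 309091) (.leaf (nat_lit 640)) (.leaf (nat_lit 1312))) (.node (nat_lit 309203) (.leaf (nat_lit 640)) (.node (nat_lit 309299) (.leaf (nat_lit 704))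 (.leaf (nat_lit 32))))) (.node (nat_lit 309968) (.node (nat_lit 309666) (.leaf (nat_lit 1312)) (.node (nat_lit 309729) (.leaf (nat_lit 1)) (.leaf (nat_lit 640)))) (.node (nat_lit 310269) (.leaf (nat_lit 1312)) (.node (nat_lit 311072) (.leaf (nat_lit 640)) (.leaf (nat_lit 96)))))))) (.node (nat_lit 316455) (.node (nat_lit 313893) (.node (nat_lit 312549) (.node (nat_lit 312032) (.node (nat_lit 311677) (.leaf (nat_lit 640)) (.leaf (nat_lit 1312))) (.node (nat_lit 312069) (.leaf (nat_lit 640)) (.node (nat_lit 312347) (.leaf (nat_lit 32)) (.leaf (nat_lit 640))))) (.node (nat_lit 313290) (.node (nat_lit 312818) (.leaf (nat_lit 704)) (.leaf (nat_lit 32))) (.node (nat_lit 313452) (.leaf (nat_lit 640)) (.node (nat_lit 313848) (.leaf (nat_lit 672)) (.leaf (nat_lit 640)))))) (.node (nat_lit 315317) (.node (nat_lit 314527) (.node (nat_lit 314437) (.leaf (nat_lit 32)) (.leaf (nat_lit 640))) (.node (nat_lit 314567) (.leaf (nat_lit 32)) (.node (nat_lit 314989) (.leaf (nat_lit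 1312)) (.leaf (nat_lit 640))))) (.node (nat_lit 315607) (.node (nat_lit 315398) (.leaf (nat_lit 1312)) (.node (nat_lit 315519) (.leaf (nat_lit 640)) (.leaf (nat_lit 704)))) (.node (nat_lit 315723) (.leaf (nat_lit 640)) (.node (nat_lit 315874) (.leaf (nat_lit 32)) (.leaf (nat_lit 640))))))) (.node (nat_lit 317756) (.node (nat_lit 317131) (.node (nat_lit 316779) (.node (nat_lit 316611) (.leaf (nat_lit 672)) (.leaf (nat_lit 640))) (.node (nat_lit 316798) (.leaf (nat_lit 32)) (.node (nat_lit 316848) (.leaf (nat_lit 672)) (.leaf (nat_lit 640))))) (.node (nat_lit 317269) (.node (nat_lit 317252) (.leaf (nat_lit 672)) (.leaf (nat_lit 1312))) (.node (nat_lit 317272) (.leaf (nat_lit 672)) (.node (nat_lit 317439) (.leaf (nat_lit 640)) (.leaf (nat_lit 32)))))) (.node (nat_lit 318663) (.node (nat_lit 318307) (.node (nat_lit 318086) (.leaf (nat_lit 672)) (.leaf (nat_lit 640))) (.node (nat_lit 318340) (.leaf (nat_lit 672)) (.node (nat_lit 318551) (.leaf (nat_lit 32)) (.leaf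 (nat_lit 672))))) (.node (nat_lit 319125) (.node (nat_lit 318797) (.leaf (nat_lit 1312)) (.node (nat_lit 318821) (.leaf (nat_lit 640)) (.leaf (nat_lit 32)))) (.node (nat_lit 319211) (.leaf (nat_lit 640)) (.node (nat_lit 319418) (.leaf (nat_lit 32)) (.leaf (nat_lit 1))))))))) (.node (nat_lit 330246) (.node (nat_lit 324678) (.node (nat_lit 322349) (.node (nat_lit 320751) (.node (nat_lit 319724) (.node (nat_lit 319511) (.leaf (nat_lit 640)) (.leaf (nat_lit 672))) (.node (nat_lit 319838) (.leaf (nat_lit 640)) (.node (nat_lit 320246) (.leaf (nat_lit 32)) (.leaf (nat_lit 640))))) (.node (nat_lit 321841) (.node (nat_lit 321072) (.leaf (nat_lit 32)) (.leaf (nat_lit 640))) (.node (nat_lit 322133) (.leaf (nat_lit 32)) (.node (nat_lit 322192) (.leaf (nat_lit 640)) (.leaf (nat_lit 32)))))) (.node (nat_lit 323499) (.node (nat_lit 322840) (.node (nat_lit 322538) (.leaf (nat_lit 672)) (.leaf (nat_lit 640))) (.node (nat_lit 323166) (.leaf (nat_lit 672)) (.node (nat_lit 323320)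 (.leaf (nat_lit 640)) (.leaf (nat_lit 672))))) (.node (nat_lit 323998) (.node (nat_lit 323527) (.leaf (nat_lit 640)) (.leaf (nat_lit 32))) (.node (nat_lit 324282) (.leaf (nat_lit 640)) (.node (nat_lit 324331) (.leaf (nat_lit 800)) (.leaf (nat_lit 640))))))) (.node (nat_lit 326755) (.node (nat_lit 325700) (.node (nat_lit 325432) (.node (nat_lit 325355) (.leaf (nat_lit 32)) (.leaf (nat_lit 672))) (.node (nat_lit 325533) (.leaf (nat_lit 640)) (.node (nat_lit 325674) (.leaf (nat_lit 672)) (.leaf (nat_lit 640))))) (.node (nat_lit 326100) (.node (nat_lit 326030) (.leaf (nat_lit 32)) (.leaf (nat_lit 704))) (.node (nat_lit 326129) (.leaf (nat_lit 32)) (.node (nat_lit 326716) (.leaf (nat_lit 1312)) (.leaf (nat_lit 640)))))) (.node (nat_lit 328313) (.node (nat_lit 328018) (.node (nat_lit 326908) (.leaf (nat_lit 704)) (.leaf (nat_lit 640))) (.node (nat_lit 328059) (.leaf (nat_lit 1312)) (.node (nat_lit 328283) (.leaf (nat_lit 672)) (.leaf (nat_lit 1344))))) (.node (nat_lit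 329588) (.node (nat_lit 328597) (.leaf (nat_lit 640)) (.node (nat_lit 328622) (.leaf (nat_lit 1312)) (.leaf (nat_lit 640)))) (.node (nat_lit 329635) (.leaf (nat_lit 672)) (.node (nat_lit 330151) (.leaf (nat_lit 640)) (.leaf (nat_lit 32)))))))) (.node (nat_lit 335144) (.node (nat_lit 331948) (.node (nat_lit 331002) (.node (nat_lit 330551) (.node (nat_lit 330448) (.leaf (nat_lit 1312)) (.leaf (nat_lit 640))) (.node (nat_lit 330653) (.leaf (nat_lit 32)) (.node (nat_lit 330757) (.leaf (nat_lit 640)) (.leaf (nat_lit 672))))) (.node (nat_lit 331304) (.node (nat_lit 331236) (.leaf (nat_lit 32)) (.leaf (nat_lit 1312))) (.node (nat_lit 331642) (.leaf (nat_lit 640)) (.node (nat_lit 331769) (.leaf (nat_lit 32)) (.leaf (nat_lit 640)))))) (.node (nat_lit 333647) (.node (nat_lit 332767) (.node (nat_lit 332252) (.leaf (nat_lit 32)) (.leaf (nat_lit 672))) (.node (nat_lit 332917) (.leaf (nat_lit 1312)) (.node (nat_lit 333566) (.leaf (nat_lit 640)) (.leaf (nat_lit 32))))) (.node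 (nat_lit 334141) (.node (nat_lit 333884) (.leaf (nat_lit 640)) (.node (nat_lit 334061) (.leaf (nat_lit 1)) (.leaf (nat_lit 640)))) (.node (nat_lit 334249) (.leaf (nat_lit 32)) (.node (nat_lit 335116) (.leaf (nat_lit 640)) (.leaf (nat_lit 1))))))) (.node (nat_lit 336815) (.node (nat_lit 336301) (.node (nat_lit 335401) (.node (nat_lit 335188) (.leaf (nat_lit 640)) (.leaf (nat_lit 128))) (.node (nat_lit 335557) (.leaf (nat_lit 672)) (.node (nat_lit 336236) (.leaf (nat_lit 640)) (.leaf (nat_lit 32))))) (.node (nat_lit 336369) (.node (nat_lit 336335) (.leaf (nat_lit 640)) (.leaf (nat_lit 96))) (.node (nat_lit 336556) (.leaf (nat_lit 672)) (.node (nat_lit 336783) (.leaf (nat_lit 640)) (.leaf (nat_lit 32)))))) (.node (nat_lit 337984) (.node (nat_lit 337810) (.node (nat_lit 337522) (.leaf (nat_lit 640)) (.leaf (nat_lit 1))) (.node (nat_lit 337813) (.leaf (nat_lit 704)) (.node (nat_lit 337819) (.leaf (nat_lit 1312)) (.leaf (nat_lit 640))))) (.node (nat_lit 338782) (.node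 (nat_lit 338128) (.leaf (nat_lit 32)) (.node (nat_lit 338630) (.leaf (nat_lit 640)) (.leaf (nat_lit 1)))) (.node (nat_lit 338847) (.leaf (nat_lit 1312)) (.node (nat_lit 339200) (.leaf (nat_lit 640)) (.leaf (nat_lit 32)))))))))))))
noncomputable def h8_soc_F : Fm := (.all h8_L (.or (.qf (.eq (.v (nat_lit 0)) .one)) (.or (.qf (.eq (.v (nat_lit 0)) (.v (nat_lit 7)))) (.exF h8_L (fun cs => h8_soc_t1.find (Nat.mod (nth (nat_lit 0) cs (nat_lit 0)) (nat_lit 339442))) (.exF h8_L (fun cs => h8_soc_t0.find (Nat.mod (Nat.add (nth (nat_lit 0) cs (nat_lit 0)) (Nat.mul (nat_lit 7919) (nth (nat_lit 0) cs (nat_lit 1)))) (nat_lit 663518))) (.qf (.or (.eq (.mul (.mul (.mul (.v (nat_lit 2)) (.v (nat_lit 1))) (.inv (.v (nat_lit 2)))) (.inv (.v (nat_lit 1)))) (.v (nat_lit 9))) (.eq (.mul (.mul (.mul (.mul (.mul (.mul (.v (nat_lit 2)) (.v (nat_lit 1))) (.inv (.v (nat_lit 2)))) (.inv (.v (nat_lit 1)))) (.v (nat_lit 0))) (.inv (.mul (.mul (.mul (.v (nat_lit 2)) (.v (nat_lit 1))) (.inv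 (.v (nat_lit 2)))) (.inv (.v (nat_lit 1)))))) (.inv (.v (nat_lit 0)))) (.v (nat_lit 9))))))))))
theorem h8_soc_chk : Fm.chk h8_o h8_soc_F h8_cs = true := by decide +kernel
theorem h8_soc {G : Type*} [Group G] {R : ℕ → G → Prop} {s x X r a t z b : G} {H : Subgroup G}
    (μ : IsMod h8_o R) (reps : Reps R h8_cs [s, x, X, r, a, t, z, b]) (E : Enum h8_o R h8_L H) :
    ∀ y ∈ H, y = 1 ∨ y = z ∨ (∃ q ∈ H, ∃ u ∈ H, ⁅y, q⁆ = z ∨ ⁅⁅y, q⁆, u⁆ = z) :=
  have h : ∀ y, InL h8_o R h8_L y → y = 1 ∨ y = z ∨ (Good h8_o R h8_L → prods h8_o h8_L h8_o.one ≠ [] → ∃ q, InL h8_o R h8_L q ∧ (Good h8_o R h8_L → prods h8_o h8_L h8_o.one ≠ [] → ∃ u, InL h8_o R h8_L u ∧ (⁅y, q⁆ = z ∨ ⁅⁅y, q⁆, u⁆ = z))) :=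
    Fm.sound μ h8_soc_F h8_soc_chk reps
  (fun y h0 => (Or.imp (fun h1 => h1) (fun h1 => (Or.imp (fun h2 => h2) (fun h2 => (Exists.imp (fun q h3 => ⟨E.iff.1 h3.1, (Exists.imp (fun u h4 => ⟨E.iff.1 h4.1, h4.2⟩) (h3.2 E.good E.ne))⟩) (h2 E.good E.ne))) h1)) (h y (E.iff.2 h0))))
theorem card8 {n w m o N : ℕ} {cs : List ℕ} {Rl L : List (List ℕ)}
    (P : PModel n w m o cs Rl L N) (hl : cs.length = 8)
    (soc : ∀ {R : ℕ → Equiv.Perm (Fin n) → Prop} {s x X r a t z b : Equiv.Perm (Fin n)}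
      {H : Subgroup (Equiv.Perm (Fin n))}, IsMod (pops n w m o) R →
      Reps R cs [s, x, X, r, a, t, z, b] → Enum (pops n w m o) R L H →
      ∀ y ∈ H, y = 1 ∨ y = z ∨ (∃ q ∈ H, ∃ u ∈ H, ⁅y, q⁆ = z ∨ ⁅⁅y, q⁆, u⁆ = z))
    (hb : ∀ W ∈ Rl, ltAll 8 W = 0) {G : Type*} [Group G] {g : ℕ → G} (hR : Rels g Rl)
    (hz : g 6 ≠ 1) : Nat.card (gen g 8) = N := by
  have e : ∀ k < 8, nthG [g 0, g 1, g 2, g 3, g 4, g 5, g 6, g 7] k = g k := fun k hk => by
    interval_cases k <;> rfl
  obtain ⟨c, d, e0, t, x, X, f, F, h⟩ : ∃ c d e t x X f F,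
      cs.map (dec n w m) = [c, d, e, t, x, X, f, F] := by
    match cs, hl with
    | [_, _, _, _, _, _, _, _], _ => exact ⟨_, _, _, _, _, _, _, _, rfl⟩
  have h1 := reps_dec P.val
  have h2 := P.self
  rw [h] at h1 h2
  obtain ⟨R, -, -, -, h⟩ := P.isMod_soc (xs := [g 0, g 1, g 2, g 3, g 4, g 5, g 6, g 7]) hl
    (fun W hW => (evA_congr _ fun k hk => e k (ltAll_zero (hb W hW) k hk)).trans (hR W hW))
    (W := [6]) (by rw [hl]; rfl) (by rwa [← one_mul (g 6)] at hz) (z0 := f)
    (by rw [h]; exact one_mul _) (by rw [h]) (soc (IsMod.perm P.pk) h1 h2)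
  rw [← h, hl]
  exact congrArg (fun A : Subgroup G => Nat.card A) (le_antisymm (gen_le.2 fun k hk => e k hk ▸ mem_gen _ hk)
    (gen_le.2 fun k hk => (e k hk).symm ▸ mem_gen _ hk))

theorem h8_RH : h8_Rl = RH := by decide +kernel

theorem card_H {G : Type*} [Group G] {g : ℕ → G} (hR : Rels g RH) (hz : g 6 ≠ 1) :
    Nat.card (gen g 8) = 1920 :=
  card8 h8_P (by decide +kernel) h8_soc
    (fun W hW => allL_sound (L := h8_Rl) (f := ltAll 8) (by decide +kernel) W hW) (h8_RH ▸ hR) hz

theorem bound_H : Bound RH 8 1920 := h8_RH ▸ h8_b8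

end H0.J
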