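import Cfsg.Agent.H16.Slp

/-! Generated by tools/h16 (computation kit). -/

set_option maxRecDepth 100000
set_option maxHeartbeats 0

namespace H0.J.L16
open H16

noncomputable def Rl : List (List ℕ) := [[nat_lit 0, nat_lit 1],
  [nat_lit 1, nat_lit 0],
  [nat_lit 2, nat_lit 2],
  [nat_lit 3, nat_lit 3],
  [nat_lit 0, nat_lit 0, nat_lit 0, nat_lit 0, nat_lit 0, nat_lit 0, nat_lit 0, nat_lit 0, nat_lit 0, nat_lit 0, nat_lit 0, nat_lit 0, nat_lit 0, nat_lit 0, nat_lit 0],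
  [nat_lit 0, nat_lit 0, nat_lit 0, nat_lit 0, nat_lit 2, nat_lit 1, nat_lit 2, nat_lit 1, nat_lit 1, nat_lit 1, nat_lit 2],
  [nat_lit 0, nat_lit 3, nat_lit 0, nat_lit 3],
  [nat_lit 2, nat_lit 3, nat_lit 2, nat_lit 3, nat_lit 2, nat_lit 3]]
noncomputable def Pd : List ℕ := [nat_lit 0x91186822db07954773020,
  nat_lit 0x838d225160c238cb6bc20,
  nat_lit 0x71ad2a731a2804857a0c0,
  nat_lit 0x74156268c8f819c953001]
noncomputable def P (k u : ℕ) : ℕ := Nat.land (Nat.shiftRight (nth (nat_lit 0) Pd k) (Nat.mul u (nat_lit 5))) (nat_lit 31)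
noncomputable def T0d : List ℕ := [nat_lit 0xcbda4f063f678b1ade3a06d938ac2362e1783d0780,
  nat_lit 0x10e5b76972a0b2c366e3f25e31e8d8f87d8b84c8780,
  nat_lit 0x36a5392fd9e4b9b390d9764e3763e2788e1b61e0b80,
  nat_lit 0x8a0a44d1ba88d98b003eacb178bb9f03c9342d8381]
noncomputable def T0 (k u : ℕ) : ℕ := Nat.land (Nat.shiftRight (nth (nat_lit 0) T0d k) (Nat.mul u (nat_lit 10))) (nat_lit 1023)
noncomputable def I0d : List ℕ := [nat_lit 0x402860f040272,
  nat_lit 0x401000a201043,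
  nat_lit 0x60084020920a,
  nat_lit 0x208043088302]
noncomputable def I0 (k u : ℕ) : ℕ := Nat.land (Nat.shiftRight (nth (nat_lit 0) I0d k) (Nat.mul u (nat_lit 3))) (nat_lit 7)
noncomputable def D0d : ℕ := nat_lit 0x2a96479d6d859244e3092060c0
noncomputable def D0 (u : ℕ) : ℕ := Nat.land (Nat.shiftRight D0d (Nat.mul u (nat_lit 6))) (nat_lit 63)
noncomputable def RL0 : List (List Rule) := [[.rel (nat_lit 0) (nat_lit 0) [nat_lit 1], .defn, .sub (nat_lit 0) [] [], .rel (nat_lit 10) (nat_lit 0) [nat_lit 0, nat_lit 0, nat_lit 0, nat_lit 2, nat_lit 1, nat_lit 2, nat_lit 1, nat_lit 1, nat_lit 1, nat_lit 2], .rel (nat_lit 10) (nat_lit 1) [nat_lit 0, nat_lit 0, nat_lit 2, nat_lit 1, nat_lit 2, nat_lit 1, nat_lit 1, nat_lit 1, nat_lit 2, nat_lit 0], .rel (nat_lit 10) (nat_lit 2) [nat_lit 0, nat_lit 2, nat_lit 1, nat_lit 2, nat_lit 1, nat_lit 1, nat_lit 1, nat_lit 2, nat_lit 0, nat_lit 0], .rel (nat_lit 12)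 (nat_lit 0) [nat_lit 3, nat_lit 0, nat_lit 3], .rel (nat_lit 12) (nat_lit 2) [nat_lit 3, nat_lit 0, nat_lit 3]],
  [.rel (nat_lit 2) (nat_lit 0) [nat_lit 0], .defn, .rel (nat_lit 10) (nat_lit 7) [nat_lit 1, nat_lit 1, nat_lit 2, nat_lit 0, nat_lit 0, nat_lit 0, nat_lit 0, nat_lit 2, nat_lit 1, nat_lit 2], .sub (nat_lit 2) [] [], .rel (nat_lit 10) (nat_lit 5) [nat_lit 2, nat_lit 1, nat_lit 1, nat_lit 1, nat_lit 2, nat_lit 0, nat_lit 0, nat_lit 0, nat_lit 0, nat_lit 2]],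
  [.rel (nat_lit 4) (nat_lit 0) [nat_lit 2], .defn, .sub (nat_lit 4) [] [], .rel (nat_lit 10) (nat_lit 6) [nat_lit 1, nat_lit 1, nat_lit 1, nat_lit 2, nat_lit 0, nat_lit 0, nat_lit 0, nat_lit 0, nat_lit 2, nat_lit 1], .rel (nat_lit 14) (nat_lit 0) [nat_lit 3, nat_lit 2, nat_lit 3, nat_lit 2, nat_lit 3]],
  [.rel (nat_lit 6) (nat_lit 0) [nat_lit 3], .rel (nat_lit 12) (nat_lit 3) [nat_lit 0, nat_lit 3, nat_lit 0], .defn, .rel (nat_lit 12) (nat_lit 1) [nat_lit 0, nat_lit 3, nat_lit 0], .rel (nat_lit 14) (nat_lit 5) [nat_lit 2, nat_lit 3, nat_lit 2, nat_lit 3, nat_lit 2]]]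
noncomputable def c0 : TCert := ⟨17, 4, 31, T0, I0, D0, [[nat_lit 0],
  [nat_lit 1],
  [nat_lit 2]], RL0⟩
noncomputable def Pt0d : ℕ := nat_lit 0x10121ed49d8b1914e29820
noncomputable def Pt0 (u : ℕ) : ℕ := Nat.land (Nat.shiftRight Pt0d (Nat.mul u (nat_lit 5))) (nat_lit 31)
noncomputable def Q0d : ℕ := nat_lit 0x10691894156e508663bc20
noncomputable def Q0 (u : ℕ) : ℕ := Nat.land (Nat.shiftRight Q0d (Nat.mul u (nat_lit 5))) (nat_lit 31)
noncomputable def l0 : Lev := ⟨17, 4, D0, Pt0, Q0⟩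
noncomputable def T1d : List ℕ := [nat_lit 0x7d07df02e3ebd9170c5abce12a778c120500,
  nat_lit 0x70f0d6f84cc3deb0d4a4298ef2833c60700,
  nat_lit 0x6d3e4b84d7b3be1cf479c2de50883c15e101]
noncomputable def T1 (k u : ℕ) : ℕ := Nat.land (Nat.shiftRight (nth (nat_lit 0) T1d k) (Nat.mul u (nat_lit 9))) (nat_lit 511)
noncomputable def I1d : List ℕ := [nat_lit 0x10040100a04b,
  nat_lit 0x8084105020b,
  nat_lit 0x100c8041241]
noncomputable def I1 (k u : ℕ) : ℕ := Nat.land (Nat.shiftRight (nth (nat_lit 0) I1d k) (Nat.mul u (nat_lit 3))) (nat_lit 7)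
noncomputable def D1d : ℕ := nat_lit 0xff738a4dee5a90620c40
noncomputable def D1 (u : ℕ) : ℕ := Nat.land (Nat.shiftRight D1d (Nat.mul u (nat_lit 5))) (nat_lit 31)
noncomputable def RL1 : List (List Rule) := [[.rel (nat_lit 0) (nat_lit 0) [nat_lit 1], .defn, .rel (nat_lit 10) (nat_lit 2) [nat_lit 0, nat_lit 2, nat_lit 1, nat_lit 2, nat_lit 1, nat_lit 1, nat_lit 1, nat_lit 2, nat_lit 0, nat_lit 0], .sub (nat_lit 0) [] [], .rel (nat_lit 10) (nat_lit 1) [nat_lit 0, nat_lit 0, nat_lit 2, nat_lit 1, nat_lit 2, nat_lit 1, nat_lit 1, nat_lit 1, nat_lit 2, nat_lit 0]],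
  [.rel (nat_lit 2) (nat_lit 0) [nat_lit 0], .defn, .rel (nat_lit 10) (nat_lit 5) [nat_lit 2, nat_lit 1, nat_lit 1, nat_lit 1, nat_lit 2, nat_lit 0, nat_lit 0, nat_lit 0, nat_lit 0, nat_lit 2], .sub (nat_lit 2) [] [], .rel (nat_lit 10) (nat_lit 7) [nat_lit 1, nat_lit 1, nat_lit 2, nat_lit 0, nat_lit 0, nat_lit 0, nat_lit 0, nat_lit 2, nat_lit 1, nat_lit 2]],
  [.rel (nat_lit 4) (nat_lit 0) [nat_lit 2], .defn, .rel (nat_lit 10) (nat_lit 6) [nat_lit 1, nat_lit 1, nat_lit 1, nat_lit 2, nat_lit 0, nat_lit 0, nat_lit 0, nat_lit 0, nat_lit 2, nat_lit 1], .rel (nat_lit 10) (nat_lit 10) [nat_lit 0, nat_lit 0, nat_lit 0, nat_lit 0, nat_lit 2, nat_lit 1, nat_lit 2, nat_lit 1, nat_lit 1, nat_lit 1]]]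
noncomputable def c1 : TCert := ⟨16, 3, 15, T1, I1, D1, [[nat_lit 0],
  [nat_lit 1]], RL1⟩
noncomputable def Pt1d : ℕ := nat_lit 0x4c0487b4ec58c8a714c1
noncomputable def Pt1 (u : ℕ) : ℕ := Nat.land (Nat.shiftRight Pt1d (Nat.mul u (nat_lit 5))) (nat_lit 31)
noncomputable def Q1d : ℕ := nat_lit 0xeb3a874fc91256d00
noncomputable def Q1 (u : ℕ) : ℕ := Nat.land (Nat.shiftRight Q1d (Nat.mul u (nat_lit 4))) (nat_lit 15)
noncomputable def l1 : Lev := ⟨16, 3, D1, Pt1, Q1⟩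
noncomputable def T2d : List ℕ := [nat_lit 0x2c7aaf68ee6e64de2d60cf1,
  nat_lit 0xdafea7c9fa9788f6874832]
noncomputable def T2 (k u : ℕ) : ℕ := Nat.land (Nat.shiftRight (nth (nat_lit 0) T2d k) (Nat.mul u (nat_lit 6))) (nat_lit 63)
noncomputable def I2d : List ℕ := [nat_lit 0x8444445,
  nat_lit 0x1111111]
noncomputable def I2 (k u : ℕ) : ℕ := Nat.land (Nat.shiftRight (nth (nat_lit 0) I2d k) (Nat.mul u (nat_lit 2))) (nat_lit 3)
noncomputable def D2d : ℕ := nat_lit 0x66d5945cd524c510400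
noncomputable def D2 (u : ℕ) : ℕ := Nat.land (Nat.shiftRight D2d (Nat.mul u (nat_lit 5))) (nat_lit 31)
noncomputable def RL2 : List (List Rule) := [[.rel (nat_lit 0) (nat_lit 0) [nat_lit 1], .defn, .rel (nat_lit 8) (nat_lit 14) [nat_lit 0, nat_lit 0, nat_lit 0, nat_lit 0, nat_lit 0, nat_lit 0, nat_lit 0, nat_lit 0, nat_lit 0, nat_lit 0, nat_lit 0, nat_lit 0, nat_lit 0, nat_lit 0]],
  [.rel (nat_lit 2) (nat_lit 0) [nat_lit 0], .defn]]
noncomputable def c2 : TCert := ⟨15, 2, 15, T2, I2, D2, [], RL2⟩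
noncomputable def Pt2d : ℕ := nat_lit 0x19c51a9ab4920743d82
noncomputable def Pt2 (u : ℕ) : ℕ := Nat.land (Nat.shiftRight Pt2d (Nat.mul u (nat_lit 5))) (nat_lit 31)
noncomputable def Q2d : ℕ := nat_lit 0x52d918a734ec6b000
noncomputable def Q2 (u : ℕ) : ℕ := Nat.land (Nat.shiftRight Q2d (Nat.mul u (nat_lit 4))) (nat_lit 15)
noncomputable def l2 : Lev := ⟨15, 2, D2, Pt2, Q2⟩
noncomputable def B : List ℕ := [nat_lit 0, nat_lit 1, nat_lit 2]
noncomputable def L : List Lev := [l0, l1, l2]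
noncomputable def Rs : List Root := [⟨(nat_lit 1), [[nat_lit 3],
  [nat_lit 3]], [((nat_lit 5), [nat_lit 4]),
  ((nat_lit 3), [nat_lit 4])]⟩]
noncomputable def Fod : ℕ := nat_lit 0x15785a4e15207633ed1648611524d175d940200
noncomputable def Fo (u : ℕ) : ℕ := Nat.land (Nat.shiftRight Fod (Nat.mul u (nat_lit 9))) (nat_lit 511)
noncomputable def nx : List ℕ := [nat_lit 0, nat_lit 3, nat_lit 2]
noncomputable def nL : List (List ℕ × ℕ) := [([nat_lit 0, nat_lit 0, nat_lit 0, nat_lit 2], (nat_lit 15)),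
  ([nat_lit 1, nat_lit 3, nat_lit 0, nat_lit 2], (nat_lit 15)),
  ([nat_lit 1, nat_lit 1, nat_lit 2, nat_lit 3], (nat_lit 2)),
  ([nat_lit 1, nat_lit 1], (nat_lit 2))]

theorem tc0e_a : allZ2 (entryChk T0 (selR RL0 I0) D0 (nat_lit 31) (nat_lit 17) (nat_lit 4)) (nat_lit 4) (nat_lit 17) = true := by decide +kernel
theorem tc0r : rulesChk Rl c0.Sl RL0 (nat_lit 4) = true := by decide +kernel
theorem ivc : ivChk Rl (nat_lit 4) = true := by decide +kernel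
theorem lv0e_0 : allZ (l0.ent P) (nat_lit 0) (nat_lit 16) = true := by decide +kernel
theorem lv0b : Nat.blt (Pt0 (nat_lit 0)) (nat_lit 17) = true ∧ Q0 (Pt0 (nat_lit 0)) = 0 ∧ Pt0 (nat_lit 0) = 0 := by decide +kernel
theorem sb0 : allL (ltAll (nat_lit 3)) c0.Sl = true ∧ fixLetters P (nat_lit 3) (Pt0 (nat_lit 0)) = true := by decide +kernel
theorem tc1e_a : allZ2 (entryChk T1 (selR RL1 I1) D1 (nat_lit 15) (nat_lit 16) (nat_lit 3)) (nat_lit 3) (nat_lit 16) = true := by decide +kernel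
theorem tc1r : rulesChk Rl c1.Sl RL1 (nat_lit 3) = true := by decide +kernel
theorem lv1e_0 : allZ (l1.ent P) (nat_lit 0) (nat_lit 15) = true := by decide +kernel
theorem lv1b : Nat.blt (Pt1 (nat_lit 0)) (nat_lit 17) = true ∧ Q1 (Pt1 (nat_lit 0)) = 0 ∧ Pt1 (nat_lit 0) = 1 := by decide +kernel
theorem sb1 : allL (ltAll (nat_lit 2)) c1.Sl = true ∧ fixLetters P (nat_lit 2) (Pt1 (nat_lit 0)) = true := by decide +kernel
theorem tc2e_a : allZ2 (entryChk T2 (selR RL2 I2) D2 (nat_lit 15) (nat_lit 15) (nat_lit 2)) (nat_lit 2) (nat_lit 15) = true := by decide +kernel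
theorem tc2r : rulesChk Rl c2.Sl RL2 (nat_lit 2) = true := by decide +kernel
theorem lv2e_0 : allZ (l2.ent P) (nat_lit 0) (nat_lit 14) = true := by decide +kernel
theorem lv2b : Nat.blt (Pt2 (nat_lit 0)) (nat_lit 17) = true ∧ Q2 (Pt2 (nat_lit 0)) = 0 ∧ Pt2 (nat_lit 0) = 2 := by decide +kernel
theorem sb2 : allL (ltAll (nat_lit 0)) c2.Sl = true ∧ fixLetters P (nat_lit 0) (Pt2 (nat_lit 0)) = true := by decide +kernel
theorem Blt : ltAll (nat_lit 17) B = 0 := by decide +kernel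
theorem ivk : ivLt Rl (nat_lit 4) = true := by decide +kernel
theorem pe_a : allZ2 (permEnt P (ivOf Rl) (nat_lit 17)) (nat_lit 4) (nat_lit 17) = true := by decide +kernel
theorem rf0 : allL (fixRange P (nat_lit 4) (nat_lit 0) (nat_lit 17)) (Rl.drop (nat_lit 4)) = true := by decide +kernel
theorem Foe_0 : allZ (forEnt P Fo (nat_lit 3) (nat_lit 63) (nat_lit 17) ((nat_lit 0) :: Rs.map Root.r)) (nat_lit 0) (nat_lit 17) = true := by decide +kernel
theorem rtc : allL (Root.chk P (nat_lit 4) B (nat_lit 3) (nat_lit 0)) Rs = true ∧ fixLetters P (nat_lit 3) (nat_lit 0) = true := by decide +kernel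
theorem nc1 : allZ (fun k => force k (nclEnt P Rl (nat_lit 4) B nx nL)) 0 (nat_lit 4) = true := by decide +kernel
theorem nc2 : powL P (nat_lit 4) B nx (nat_lit 17) = 0 := by decide +kernel

theorem tc0e : ∀ k < 4, ∀ i < 17, (entryChk T0 (selR RL0 I0) D0 (nat_lit 31) (nat_lit 17) (nat_lit 4)) k i = 0 := allZ2_sound tc0e_a
theorem tc0 : c0.OK Rl 4 := ⟨by decide, by decide, by decide, ivc, tc0r, tc0e⟩
theorem lv0e : ∀ i < 16, (l0.ent P) i = 0 := allZ_sound0 lv0e_0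
theorem lv0 : l0.OK P 17 := ⟨by decide, by decide, lt_of_blt lv0b.1, lv0b.2.1, lv0e⟩
theorem tc1e : ∀ k < 3, ∀ i < 16, (entryChk T1 (selR RL1 I1) D1 (nat_lit 15) (nat_lit 16) (nat_lit 3)) k i = 0 := allZ2_sound tc1e_a
theorem tc1 : c1.OK Rl 4 := ⟨by decide, by decide, by decide, ivc, tc1r, tc1e⟩
theorem lv1e : ∀ i < 15, (l1.ent P) i = 0 := allZ_sound0 lv1e_0
theorem lv1 : l1.OK P 17 := ⟨by decide, by decide, lt_of_blt lv1b.1, lv1b.2.1, lv1e⟩
theorem tc2e : ∀ k < 2, ∀ i < 15, (entryChk T2 (selR RL2 I2) D2 (nat_lit 15) (nat_lit 15) (nat_lit 2)) k i = 0 := allZ2_sound tc2e_a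
theorem tc2 : c2.OK Rl 4 := ⟨by decide, by decide, by decide, ivc, tc2r, tc2e⟩
theorem lv2e : ∀ i < 14, (l2.ent P) i = 0 := allZ_sound0 lv2e_0
theorem lv2 : l2.OK P 17 := ⟨by decide, by decide, lt_of_blt lv2b.1, lv2b.2.1, lv2e⟩
theorem bound2 : Bound Rl 2 15 := Bound.step' (Bound.zero Rl) tc2 sb2.1 (by decide +kernel)
theorem bound1 : Bound Rl 3 240 := Bound.step' (bound2) tc1 sb1.1 (by decide +kernel)
theorem bound0 : Bound Rl 4 4080 := Bound.step' (bound1) tc0 sb0.1 (by decide +kernel)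
/-- every tuple satisfying `Rl` generates a group of order at most `4080` -/
theorem bound : Bound Rl 4 4080 := bound0
theorem chain_of {G Ω : Type*} [Group G] [MulAction G Ω] {g : ℕ → G} {pt : ℕ → Ω}
    (h : Act g pt P 17 4) (hR : Rels g Rl) : IsChain g pt 17 L :=
  IsChain.cons (L := [l1, l2]) (IsChain.cons (L := [l2]) (IsChain.cons (L := []) (trivial) h hR tc2 lv2 rfl rfl rfl (by decide) sb2.1 sb2.2) h hR tc1 lv1 rfl rfl rfl (by decide) sb1.1 sb1.2) h hR tc0 lv0 rfl rfl rfl (by decide) sb0.1 sb0.2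
theorem base_eq : chainBase L = B := by decide +kernel
theorem pe : ∀ k < 4, ∀ i < 17, (permEnt P (ivOf Rl) (nat_lit 17)) k i = 0 := allZ2_sound pe_a
/-- the letters -/
noncomputable def g : ℕ → Equiv.Perm (Fin 17) := permGen 17 P
theorem act : Act g (ptF 17) P 17 4 := act_permGen pe
theorem rels : Rels g Rl :=
  rels_perm pe ivc ivk (FixUpTo.first rf0)
theorem chain : IsChain g (ptF 17) 17 L := chain_of act rels
theorem card : Nat.card (gen g 4) = 4080 := chain.card' (ptF_inj 17) (by decide +kernel)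
theorem isBase : IsBase (gen g 4) (ptF 17) B := base_eq ▸ chain.isBase (ptF_inj 17)
theorem Foe : ∀ i < 17, (forEnt P Fo (nat_lit 3) (nat_lit 63) (nat_lit 17) ((nat_lit 0) :: Rs.map Root.r)) i = 0 := allZ_sound0 Foe_0
theorem maxCert_of' {G Ω : Type*} [Group G] [MulAction G Ω] {g : ℕ → G} {pt : ℕ → Ω}
    (h : Act g pt P 17 4) (hb : IsBase (gen g 4) pt B) : MaxCert g pt 17 4 3 0 :=
  maxCert_of h Blt hb (by decide) Foe rtc.2 rtc.1
theorem maxCert : MaxCert g (ptF 17) 17 l0.K (topK [l1, l2]) (l0.Pt 0) :=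
  lv0b.2.2 ▸ maxCert_of' act isBase
theorem simple : IsSimpleGroup (gen g 4) :=
  simple_of_cert (l := l0) (L := [l1, l2]) chain (ptF_inj 17) maxCert Blt isBase
    (evA_mem_gen g (powL_eq_one act Blt isBase nc2).1) (powL_eq_one act Blt isBase nc2).2
    (by decide +kernel) (by decide) fun _ hA hx => ncl_sound act Blt isBase rels ivc nc1 le_rfl hA hx

end H0.J.L16
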