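import Cfsg.Agent.H0.J.U33
import Cfsg.Agent.H16.MatR2
import Cfsg.Agent.H16.S

/-! The model of `U₃(3)` is `PSU(3, 3)` (generated). -/

set_option maxRecDepth 100000
set_option maxHeartbeats 0

namespace H0.J.LU33

open Cfsg H16
def q : MP := ⟨6, 5, 31, 3⟩
def om : F9c := ⟨0, 1⟩
abbrev GG : Type := GL (Fin 3) F9c
def C0 : List ℕ := [nat_lit 1, nat_lit 0x20, nat_lit 0x400, nat_lit 0x8000, nat_lit 0x100000, nat_lit 0x2000000]
def C1 : List ℕ := [nat_lit 0x8000, nat_lit 0x2200440, nat_lit 0x2100420, nat_lit 2, nat_lit 0x2200820, nat_lit 0x2100840]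
def C2 : List ℕ := [nat_lit 0x10000, nat_lit 0x4100440, nat_lit 0x4200420, nat_lit 1, nat_lit 0x2200440, nat_lit 0x2100420]
def C3 : List ℕ := [nat_lit 0x2000421, nat_lit 0x4000821, nat_lit 0x110041, nat_lit 0x2108800, nat_lit 0x4108400, nat_lit 0x208041]
def C4 : List ℕ := [nat_lit 0x2200840, nat_lit 0x2008022, nat_lit 0x210402, nat_lit 0x4200820, nat_lit 0x110802, nat_lit 0x2010021]
def C : List (List ℕ) := [C0, C1, C2, C3, C4]
def σ : List ℕ := [nat_lit 1, nat_lit 2, nat_lit 3, nat_lit 4]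
def E : List (List ℕ) := []
def b0 : GG := glR (matR (ixF 3) om 2 5 C0) (matR (ixF 3) om 2 5 [nat_lit 1, nat_lit 0x20, nat_lit 0x400])
  (by decide +kernel)
theorem col0 : Cols q (rhoGL _ _) (eR (ixF 3) om) ⊥ b0 C0 := cols_R (s := 2) (ixF 3) om rfl (by decide +kernel)
theorem m0 : b0 ∈ GU 3 F9c 3 := (H11.mem_GU_iff_matrix card_F9c 3 _).2 (by decide +kernel)
def b1 : GG := glR (matR (ixF 3) om 2 5 C1) (matR (ixF 3) om 2 5 [nat_lit 0x10000, nat_lit 0x4100440, nat_lit 0x4200420])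
  (by decide +kernel)
theorem col1 : Cols q (rhoGL _ _) (eR (ixF 3) om) ⊥ b1 C1 := cols_R (s := 2) (ixF 3) om rfl (by decide +kernel)
theorem m1 : b1 ∈ GU 3 F9c 3 := (H11.mem_GU_iff_matrix card_F9c 3 _).2 (by decide +kernel)
def b2 : GG := glR (matR (ixF 3) om 2 5 C2) (matR (ixF 3) om 2 5 [nat_lit 0x8000, nat_lit 0x2200440, nat_lit 0x2100420])
  (by decide +kernel)
theorem col2 : Cols q (rhoGL _ _) (eR (ixF 3) om) ⊥ b2 C2 := cols_R (s := 2) (ixF 3) om rfl (by decide +kernel)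
theorem m2 : b2 ∈ GU 3 F9c 3 := (H11.mem_GU_iff_matrix card_F9c 3 _).2 (by decide +kernel)
def b3 : GG := glR (matR (ixF 3) om 2 5 C3) (matR (ixF 3) om 2 5 [nat_lit 0x2000421, nat_lit 0x4000821, nat_lit 0x110041])
  (by decide +kernel)
theorem col3 : Cols q (rhoGL _ _) (eR (ixF 3) om) ⊥ b3 C3 := cols_R (s := 2) (ixF 3) om rfl (by decide +kernel)
theorem m3 : b3 ∈ GU 3 F9c 3 := (H11.mem_GU_iff_matrix card_F9c 3 _).2 (by decide +kernel)
def b4 : GG := glR (matR (ixF 3) om 2 5 C4) (matR (ixF 3) om 2 5 [nat_lit 0x2200840, nat_lit 0x2008022, nat_lit 0x210402])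
  (by decide +kernel)
theorem col4 : Cols q (rhoGL _ _) (eR (ixF 3) om) ⊥ b4 C4 := cols_R (s := 2) (ixF 3) om rfl (by decide +kernel)
theorem m4 : b4 ∈ GU 3 F9c 3 := (H11.mem_GU_iff_matrix card_F9c 3 _).2 (by decide +kernel)
theorem rele_a : allZ2 (relEnt (nat_lit 6) (nat_lit 5) (nat_lit 31) (nat_lit 3) C (nat_lit 5) σ H0.J.U33.Rl E) (nat_lit 11) (nat_lit 3) = true := by decide +kernel
theorem misc : q.OK ∧ H0.J.U33.Rl.length = 11 ∧ allL (ltAll 1) E = true := by decide +kernel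
def o : List GG := [b0, b1, b2, b3, b4]
theorem amb : Amb q (rhoGL _ _) (eR (ixF 3) om) ⊥ := amb_GL misc.1 (by decide +kernel)
theorem mact : MAct q (rhoGL _ _) (eR (ixF 3) om) ⊥ (tup o) C 5 := mact_tup (C' := []) (.cons col0 (.cons col1 (.cons col2 (.cons col3 (.cons col4 .nil)))))
/-- the letters of the model as matrices -/
noncomputable def h : ℕ → GG := fun k => tup o (nth 0 σ k)
theorem b0_cen : b0 ∈ Subgroup.center GG := center_of_scalar (c := 1) (by decide +kernel)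
theorem rels : Rels (fun k => QuotientGroup.mk' (Subgroup.center GG) (h k)) H0.J.U33.Rl :=
  mact.rels_z amb (rigid_R _ _) (by decide) misc.2 (allZ2_sound rele_a) _ ((QuotientGroup.eq_one_iff _).2 b0_cen)
theorem ne : h 0 * h 2 ≠ h 2 * h 0 := fun e =>
  absurd (congrArg Units.val e : b1.val * b3.val = b3.val * b1.val) (by decide +kernel)
theorem mem : ∀ k, h k ∈ GU 3 F9c 3 := fun _ => tup_mem (all_cons m0 (all_cons m1 (all_cons m2 (all_cons m3 (all_cons m4 all_nil))))) _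
theorem cardX : Nat.card (PSU 3 F9c 3) = 6048 := by
  have := H11.card_psu (F := F9c) (q := 3) rfl (n := 3) (by norm_num)
  simp [Finset.prod_range_succ, Nat.even_add_one] at this
  omega
theorem equiv : Nonempty (gen H0.J.U33.g 4 ≃* PSU 3 F9c 3) :=
  have := H0.J.U33.simple
  link_psu H0.J.U33.bound H0.J.U33.rels H0.J.U33.card (by norm_num) (by decide) rels ne mem cardX

end H0.J.LU33
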