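import Cfsg.Agent.H0.J.Lift

/-! Generated: the split centralizer. -/

set_option maxRecDepth 100000
set_option maxHeartbeats 4000000
set_option linter.unusedVariables false

open Subgroup
open scoped commutatorElement
namespace H0.J
open H0.PM H16 H19

noncomputable def RC8 : List (List ℕ) := [[0,0],
  [1,1],
  [2,2],
  [3,3],
  [4,5],
  [5,4],
  [6,7],
  [7,6],
  [1,0,1,0,1,0,1,0],
  [0,2,0,2,1,0,1,0],
  [0,3,0,3,1,0,1,0],
  [1,2,1,2,1,0,1,0],
  [1,3,1,3,1,0,1,0],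
  [2,3,2,3,1,0,1,0],
  [1,5,0,4],
  [2,5,1,4],
  [0,5,2,4],
  [3,5,3,4],
  [2,7,0,6],
  [3,7,1,6],
  [0,1,2,3,7,2,6],
  [0,7,3,6],
  [4,4,4],
  [6,6,6,6,6]]
noncomputable abbrev sp_o : Ops := pops (nat_lit 32) (nat_lit 5) (nat_lit 31) (nat_lit 0xffbbcdeb38bdab49ca307b9ac5a928398a418820)
noncomputable def sp_cs : List ℕ := [(nat_lit 0xf7f9dd6f19b5e9594e1173d8d52d0931c8510c01), (nat_lit 0x6f1fe4e17a2d0f60c072eb3eeca36aa92e688262), (nat_lit 0xda938fb9bc98830b98b45eb287fbac1ca203daa4), (nat_lit 0x3daa4988307fbacda938b98b41ca20fb9bc5eb28), (nat_lit 0xfb579f7358b9471b52507f769731483d66131040), (nat_lit 0xfedda6e798bccd22c6907afcaea58838ec2a8480), (nat_lit 0x91b4eea4b119f7fe62901595e6e6a19dd6f62080), (nat_lit 0xa3373af552339313ff10271632b742b7b21bbd00)]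
noncomputable def sp_Rl : List (List ℕ) := [[0,0],
  [1,1],
  [2,2],
  [3,3],
  [4,5],
  [5,4],
  [6,7],
  [7,6],
  [1,0,1,0,1,0,1,0],
  [0,2,0,2,1,0,1,0],
  [0,3,0,3,1,0,1,0],
  [1,2,1,2,1,0,1,0],
  [1,3,1,3,1,0,1,0],
  [2,3,2,3,1,0,1,0],
  [1,5,0,4],
  [2,5,1,4],
  [0,5,2,4],
  [3,5,3,4],
  [2,7,0,6],
  [3,7,1,6],
  [0,1,2,3,7,2,6],
  [0,7,3,6],
  [4,4,4],
  [6,6,6,6,6],
  [6,4,6,4]]
noncomputable def sp_L : List (List ℕ) := [[(nat_lit 0xffbbcdeb38bdab49ca307b9ac5a928398a418820), (nat_lit 0xf7f9dd6f19b5e9594e1173d8d52d0931c8510c01), (nat_lit 0x6f1fe4e17a2d0f60c072eb3eeca36aa92e688262), (nat_lit 0xda938fb9bc98830b98b45eb287fbac1ca203daa4), (nat_lit 0x3daa4988307fbacda938b98b41ca20fb9bc5eb28), (nat_lit 0xe37cfc274ba16c780643675df4655b254d704453), (nat_lit 0x56f0977f8d14e0135e85d2d19f3d9d90c11b1c95), (nat_lit 0xb1c9514e01f3d9d56f0935e8590c1177f8dd2d19), (nat_lit 0x675df4655b254d704453e37cfc274ba16c780643), (nat_lit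 0xce16aef1ee8c062ad0e64a37a6b3fe08272292f6), (nat_lit 0x292f68c0626b3fece16aad0e608272ef1ee4a37a), (nat_lit 0x5cc8cd48bdcc6ce442ffd8e9c50aad484dec00ef), (nat_lit 0xd2d19f3d9d90c11b1c9556f0977f8d14e0135e85), (nat_lit 0x4a37a6b3fe08272292f6ce16aef1ee8c062ad0e6), (nat_lit 0x9ca30398a4deb387b9ac18820bdab45a928ffbbc), (nat_lit 0x35e8590c1177f8dd2d19b1c9514e01f3d9d56f09), (nat_lit 0xad0e608272ef1ee4a37a292f68c0626b3fece16a), (nat_lit 0x18820bdab45a928ffbbc9ca30398a4deb387b9ac), (nat_lit 0xeb3eeca36aa92e6882626f1fe4e17a2d0f60c072), (nat_lit 0xc654be75cf84443a54c74275b637df00653216d7), (nat_lit 0x216d784443637dfc654ba54c700653e75cf4275b), (nat_lit 0x9ad8496ba58e5d6823f71ef94129b50a7c6061e7), (nat_lit 0x5eb287fbac1ca203daa4da938fb9bc98830b98b4), (nat_lit 0x94e1131c85d6f1973d8d10c01b5e9552d09f7f9d), (nat_lit 0xb98b41ca20fb9bc5eb283daa4988307fbacda938), (nat_lit 0xa54c700653e75cf4275b216d784443637dfc654b), (nat_lit 0x10c01b5e9552d09f7f9d94e1131c85d6f1973d8d),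 (nat_lit 0x73d8d52d0931c8510c01f7f9dd6f19b5e9594e11), (nat_lit 0xc072a92e64e17aeb3ee882622d0f6ca36a6f1fe), (nat_lit 0x548addcc9cc42ef4c6ded0abd58e8c400ffc84ce), (nat_lit 0x7b9ac5a928398a418820ffbbcdeb38bdab49ca30), (nat_lit 0xd8e9c50aad484dec00ef5cc8cd48bdcc6ce442ff)],
  [(nat_lit 0xffbbcdeb38bdab49ca307b9ac5a928398a418820), (nat_lit 0xfb579f7358b9471b52507f769731483d66131040), (nat_lit 0xfedda6e798bccd22c6907afcaea58838ec2a8480), (nat_lit 0x91b4eea4b119f7fe62901595e6e6a19dd6f62080), (nat_lit 0xa3373af552339313ff10271632b742b7b21bbd00), (nat_lit 0xa2caa64fb2366f8747f026ebae0da2b24e8f05e0), (nat_lit 0x976c9515d11f2f85d3f0134d9d57c19b0e8d91e0), (nat_lit 0xa579d5aa7231fdfce2302158dde862b5dcf4a020), (nat_lit 0x88f2b732d4a9dbfd62500cd3bf70c42dfaf52040), (nat_lit 0x8ba6c4d974aeaf8ecbf00f87cc9b642a8e8689e0), (nat_lit 0xc68f5caed4638716fe5042ae54ecc4e7a61ebc40), (nat_lit 0x8a67b2b4fff599454b100e46baf6ef71b84d0900), (nat_lit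 0xa30adb78ffdcd524c710272bd33aef58f42c8500), (nat_lit 0xc70e3d38b14f4d2dfe90432f357aa1cb6c25bc80), (nat_lit 0xc64e6e767252eb4f7e30426f663462d6ca473c20), (nat_lit 0x92ade9ecff6953165310168ce1aeefed721e1100), (nat_lit 0xff96a39a72ef338ad2307bb7abd8626b12829020), (nat_lit 0x8967776b98cb77f34a900d467f29884f56fb0880), (nat_lit 0xfb5cc3d6d45e7581c6507f7dcb94c4da54898440), (nat_lit 0xa2f83b25d12abb2be3f026d93367c1ae9a23a1e0)],
  [(nat_lit 0xffbbcdeb38bdab49ca307b9ac5a928398a418820), (nat_lit 0xc654bbdab4637df9ca304275b398a4e75cf18820), (nat_lit 0xa54c7637dfdeb389ca30216d7e75cf5a92818820)]]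
noncomputable def sp_WW : List (List (List ℕ)) := [[[],
  [(nat_lit 0)],
  [(nat_lit 1)],
  [(nat_lit 2)],
  [(nat_lit 3)],
  [(nat_lit 0), (nat_lit 1)],
  [(nat_lit 0), (nat_lit 2)],
  [(nat_lit 0), (nat_lit 3)],
  [(nat_lit 1), (nat_lit 0)],
  [(nat_lit 1), (nat_lit 2)],
  [(nat_lit 1), (nat_lit 3)],
  [(nat_lit 1), (nat_lit 7)],
  [(nat_lit 2), (nat_lit 0)],
  [(nat_lit 2), (nat_lit 1)],
  [(nat_lit 2), (nat_lit 3)],
  [(nat_lit 3), (nat_lit 0)],
  [(nat_lit 3), (nat_lit 1)],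
  [(nat_lit 3), (nat_lit 2)],
  [(nat_lit 0), (nat_lit 1), (nat_lit 0)],
  [(nat_lit 0), (nat_lit 1), (nat_lit 2)],
  [(nat_lit 0), (nat_lit 1), (nat_lit 3)],
  [(nat_lit 0), (nat_lit 1), (nat_lit 7)],
  [(nat_lit 0), (nat_lit 2), (nat_lit 0)],
  [(nat_lit 0), (nat_lit 2), (nat_lit 3)],
  [(nat_lit 0), (nat_lit 3), (nat_lit 0)],
  [(nat_lit 0), (nat_lit 3), (nat_lit 1)],
  [(nat_lit 0), (nat_lit 3), (nat_lit 2)],
  [(nat_lit 1), (nat_lit 0), (nat_lit 1)],
  [(nat_lit 1), (nat_lit 2), (nat_lit 3)],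
  [(nat_lit 1), (nat_lit 2), (nat_lit 7)],
  [(nat_lit 0), (nat_lit 1), (nat_lit 0), (nat_lit 1)],
  [(nat_lit 0), (nat_lit 1), (nat_lit 0), (nat_lit 7)]],
  [[],
  [(nat_lit 4)],
  [(nat_lit 5)],
  [(nat_lit 6)],
  [(nat_lit 7)],
  [(nat_lit 4), (nat_lit 7)],
  [(nat_lit 5), (nat_lit 6)],
  [(nat_lit 5), (nat_lit 7)],
  [(nat_lit 6), (nat_lit 5)],
  [(nat_lit 4), (nat_lit 7), (nat_lit 4)],
  [(nat_lit 5), (nat_lit 6), (nat_lit 6)],
  [(nat_lit 5), (nat_lit 7), (nat_lit 7)],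
  [(nat_lit 6), (nat_lit 5), (nat_lit 6)],
  [(nat_lit 4), (nat_lit 7), (nat_lit 4), (nat_lit 7)],
  [(nat_lit 5), (nat_lit 6), (nat_lit 6), (nat_lit 5)],
  [(nat_lit 5), (nat_lit 7), (nat_lit 7), (nat_lit 4)],
  [(nat_lit 6), (nat_lit 5), (nat_lit 6), (nat_lit 6)],
  [(nat_lit 5), (nat_lit 6), (nat_lit 6), (nat_lit 5), (nat_lit 6)],
  [(nat_lit 5), (nat_lit 7), (nat_lit 7), (nat_lit 4), (nat_lit 7)],
  [(nat_lit 5), (nat_lit 6), (nat_lit 6), (nat_lit 5), (nat_lit 6), (nat_lit 6)]],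
  [[],
  [(nat_lit 4), (nat_lit 6), (nat_lit 6)],
  [(nat_lit 7), (nat_lit 4), (nat_lit 6)]]]
noncomputable def sp_b4_S0 : List ℕ := [nat_lit 0x4b00004800004700001700000700000c00002800800a, nat_lit 0x4f00004800004700001700000700000c00002c00800c, nat_lit 0x5700001b00000700001000003000002f00003401400a, nat_lit 0x2f00003400000900005700001b00001800004c00000e, nat_lit 0x2700000b00001000003400000900005700005401000e, nat_lit 0x2300002800000100000200001200005300005800c00a, nat_lit 0x1100000100000d00002f00000f000014000044012012, nat_lit 0x4700004c00000200000100000d00002f00003400c00a, nat_lit 0x5b00005400005300005800000a00003300003800800c, nat_lit 0x6300001f00000700001400003c00003b00004001400c, nat_lit 0x3b00004000002500006300001f000018000050000010, nat_lit 0x2b00000b000014000040000025000063000060010010, nat_lit 0x3b00004000002500006300001f00001c00005c000012, nat_lit 0x3700000f00001400004000002500006300006001e012, nat_lit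 0x2300002c00000500000600002e00005f00006400c00c, nat_lit 0x4700005000000600000500002900003b00004000c00c, nat_lit 0x6700006000005f00006400002600003f00004400800a, nat_lit 0x6700001f00001c00005400001100000100000d00c012, nat_lit 0x6b00002300000b00000800000700001000003001200a, nat_lit 0x6b00002300000b00000800000700001400003c01200c, nat_lit 0x6f00001200005300005800000a000033000038008010, nat_lit 0x6f00001200005300005800000a00001d00003e016012, nat_lit 0x7300002e00005f00006400002600003f00004400800e, nat_lit 0x7300000500002900003b00004000003d00001e004012, nat_lit 0x7700004700001700000700000c00002400006c004008, nat_lit 0x6200006100007700004700001700001c00005400400a, nat_lit 0x6200006100007700004700001700002000006000400c, nat_lit 0x7b00000200000100000d00002f00003400005d00800c, nat_lit 0x6e00006d00007b00000200007000005200002100600c, nat_lit 0x7b00004b00004800007800006200006b00003a008012, nat_lit 0x7f00000600000500002900003b00004000005500800a,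 nat_lit 0x7f00000600007400006d00006e00005a00004101000a, nat_lit 0x7f00000600002e00005f000064000039000016004012]
noncomputable def sp_b4_S : List (List ℕ) := [sp_b4_S0]
noncomputable def sp_b4_defs : List ℕ := [(nat_lit 0x20001300300012001000110020000a00300009001000080020000700100007000000070030000600100006000000060030000500200005000000050020000400100004000000040030000300100003000000030030000200200002000000020030000100200001001000010030000000200000001000000000000000000000)]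
noncomputable def sp_b4_recs : List ℕ := [(nat_lit 0x3000150001f01000190001f000001b0001f02000180001e01000160001e000001c0001e03000170001d02000140001d000001a0001d030000c0001c01000100001c020000f0001b010000d0001b030000e0001a020000b0001a030000b00019000001000019030000f0001103000180000802000170000d02000160000e01000170000a01000130000e000000f00018000000d00016020000c0001103000100001402000150000801000140000901000120000b000000c00015000000a00013000000900012)]
noncomputable def sp_b4_L0 : List ℕ := [nat_lit 0x700000100000b00000200000f000003000013000004, nat_lit 0x800000000001700000500001b00000600001f000007, nat_lit 0x2300000800000c00000000002700000900002b00000a, nat_lit 0x2f00000b00003300000c00001000000000003700000d, nat_lit 0x3b00000e00003f00000f000043000010000014000000, nat_lit 0x4700001100001800000100004b00001200004f000013, nat_lit 0x5300001400005700001500001c00000100005b000016, nat_lit 0x5f000017000063000018000067000019000020000001,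 nat_lit 0x2400000200006b00001a000015000015000039000018, nat_lit 0x200001200001100001400002800000200006f00001b, nat_lit 0x600001300002d00001700007300001c00002c000002, nat_lit 0x3000000300000d00001200004a00001a000046000019, nat_lit 0xa00001500003400000300001e00001100005e00001c, nat_lit 0x2200001600005200001b000035000017000038000003, nat_lit 0x3c00000400002900001300003100001600004e00001a, nat_lit 0x2600001800004000000400005600001b00003e000011, nat_lit 0x4200001900005a00001c00004400000400001a000014, nat_lit 0x4800000500007700001d00001d00000c00003d00000f, nat_lit 0x100000900000e00000b00004c00000500007b00001e, nat_lit 0x500000a00002a00000e00007f00001f000050000005, nat_lit 0x5400000600001200000900006600001d000019000010, nat_lit 0x900000c00005800000600001600000800008200001f, nat_lit 0x2100000d00007200001e00003200000e00005c000006, nat_lit 0x6000000700002e00000a00003600000d00006a00001d, nat_lit 0x2500000f00006400000700007600001e00003a000008,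 nat_lit 0x4100001000007e00001f00006800000700004500000b, nat_lit 0x6200001d00006c00000800004900000b00004d00000e, nat_lit 0x7a00001f00005100000d00005500000f000070000009, nat_lit 0x6e00001e00005900001000007400000a00005d00000c, nat_lit 0x6100001a000078000011000065000014000069000017, nat_lit 0x6d00001c00007100001600007500001800007c000012, nat_lit 0x7900001b00007d000019000080000013000081000015]
noncomputable def sp_b4_L : List (List ℕ) := [sp_b4_L0]
noncomputable def sp_b4_V : List ℕ := [(nat_lit 0x1f0000001e0000001d0000001c0000001b0000001a000000190000001800000017000000160000001500000014000000130000001200000011000000100000000f0000000e0000000d0000000c0000000b0000000a00000009000000080000000700000006000000050000000400000003000000020000000100000000)]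
noncomputable def sp_b4_D : H26.Dag := ⟨[], [[0,0],
  [1,1],
  [2,2],
  [3,3],
  [1,0,1,0,1,0,1,0],
  [0,2,0,2,1,0,1,0],
  [0,3,0,3,1,0,1,0],
  [1,2,1,2,1,0,1,0],
  [1,3,1,3,1,0,1,0],
  [2,3,2,3,1,0,1,0]], [], sp_b4_defs, sp_b4_recs⟩
theorem sp_b4_c : sp_b4_D.checkTab sp_b4_S 32 4 sp_b4_V sp_b4_L = true := by decide +kernel
theorem sp_b4 : Bound sp_Rl 4 32 :=
  bound_dag (Bound.zero sp_Rl) (K := 4) (J := [0,1,2,3,8,9,10,11,12,13]) (by decide +kernel) sp_b4_c (by decide +kernel)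
noncomputable def sp_b6_S0 : List ℕ := [nat_lit 0x1, nat_lit 0x1, nat_lit 0x1, nat_lit 0x1, nat_lit 0x700000100000800000c, nat_lit 0x700000500000800000e, nat_lit 0x7000009000008000010, nat_lit 0x700000d000008000012, nat_lit 0xb000008006014, nat_lit 0xb00000500000c00800c, nat_lit 0xb00000900000c00800e, nat_lit 0xb00000100000c008010, nat_lit 0xb00000d00000c008012]
noncomputable def sp_b6_S : List (List ℕ) := [sp_b6_S0]
noncomputable def sp_b6_defs : List ℕ := [(nat_lit 0x5000000040000000000000)]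
noncomputable def sp_b6_recs : List ℕ := [(nat_lit 0x30000200002020000200002010000200002000000200002050000100002030000100001000000100001020000100001010000100001030000000000020000000000010000000000000000000000)]
noncomputable def sp_b6_L0 : List ℕ := [nat_lit 0x100000000000500000000000900000000000d00000000000700000100000b000002, nat_lit 0x1900000100001100000100001500000100001d000001000022000002000008000000, nat_lit 0x2500000200002900000200002d00000200003100000200000c000000000021000001]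
noncomputable def sp_b6_L : List (List ℕ) := [sp_b6_L0]
noncomputable def sp_b6_V : List ℕ := [(nat_lit 0x20000000100000000)]
noncomputable def sp_b6_D : H26.Dag := ⟨[0,1,2,3,5,4], [[0,0],
  [1,1],
  [2,2],
  [3,3],
  [4,5],
  [5,4],
  [1,5,0,4],
  [2,5,1,4],
  [0,5,2,4],
  [3,5,3,4],
  [4,4,4]], [0,1,2,3], sp_b6_defs, sp_b6_recs⟩
theorem sp_b6_c : sp_b6_D.checkTab sp_b6_S 3 6 sp_b6_V sp_b6_L = true := by decide +kernel
theorem sp_b6 : Bound sp_Rl 6 96 :=
  bound_dag sp_b4 (K := 6) (J := [0,1,2,3,4,5,14,15,16,17,22]) (by decide +kernel) sp_b6_c (by decide +kernel)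
noncomputable def sp_b8_S0 : List ℕ := [nat_lit 0x1, nat_lit 0x1, nat_lit 0x1, nat_lit 0x1, nat_lit 0x1, nat_lit 0x7000001000008000018, nat_lit 0x700000500000800001a, nat_lit 0x700000d00000800001e, nat_lit 0x1d00000700000900000800001900001500401c, nat_lit 0xb00000900000c008018, nat_lit 0xb00000d00000c00801a, nat_lit 0xb00000100000c00801e, nat_lit 0xb00001200000800a024, nat_lit 0xb00000d00000900000500000100000c01401c, nat_lit 0xf000031006020, nat_lit 0xf000021000010008010, nat_lit 0xf000015000010008012, nat_lit 0xf00001d000010008014, nat_lit 0xf000019000010008016, nat_lit 0x1300001d000014000018, nat_lit 0x1300002100001400001a, nat_lit 0x1300001900001400001e, nat_lit 0x5500001300001500001400005100004d00401c, nat_lit 0x17000035000018008018, nat_lit 0x1700002d00001800801a, nat_lit 0x1700002500001800801e, nat_lit 0x1700000b000008000014006022, nat_lit 0x1700002d00003500002900002500001801401c, nat_lit 0x1b00003d00001c000018,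 nat_lit 0x1b00004100001c00001a, nat_lit 0x1b00004900001c00001e, nat_lit 0x1b00003a000018004024, nat_lit 0x7900001b00004500001c00007500007100401c, nat_lit 0x1f000045000020008018, nat_lit 0x1f00004900002000801a, nat_lit 0x1f00003d00002000801e, nat_lit 0x1f00000f00001400a024, nat_lit 0x1f00004900004500004100003d00002001401c, nat_lit 0x23000091006020, nat_lit 0x23000059000024008010, nat_lit 0x2300004d000024008012, nat_lit 0x23000055000024008014, nat_lit 0x23000051000024008016, nat_lit 0x2700007d004020, nat_lit 0x2700005d000028000010, nat_lit 0x27000061000028000012, nat_lit 0x2700006d000028000014, nat_lit 0x27000065000028000016, nat_lit 0x2700006a000024008024, nat_lit 0x2b00007900002c000018, nat_lit 0x2b00008100002c00001a, nat_lit 0x2b00007500002c00001e, nat_lit 0xcd00002b00007100002c0000c90000c500401c, nat_lit 0x2f000095000030008018, nat_lit 0x2f00008d00003000801a, nat_lit 0x2f00008500003000801e, nat_lit 0x2f00001f00001c00002c006022,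 nat_lit 0x2f00008d00009500008900008500003001401c, nat_lit 0x3300009d000034000018, nat_lit 0x330000a100003400001a, nat_lit 0x330000a900003400001e, nat_lit 0x3300009a000030004024, nat_lit 0xf10000330000a50000340000ed0000e900401c, nat_lit 0x370000b5000038008018]
noncomputable def sp_b8_S1 : List ℕ := [nat_lit 0x370000bd00003800801a, nat_lit 0x370000b900003800801e, nat_lit 0x370000ae00002c00a024, nat_lit 0x370000bd0000b50000b10000b900003801401c, nat_lit 0x3b000109006020, nat_lit 0x3b0000d100003c008010, nat_lit 0x3b0000c500003c008012, nat_lit 0x3b0000cd00003c008014, nat_lit 0x3b0000c900003c008016, nat_lit 0x3f0000f5004020, nat_lit 0x3f0000d5000040000010, nat_lit 0x3f0000d9000040000012, nat_lit 0x3f0000e5000040000014, nat_lit 0x3f0000dd000040000016, nat_lit 0x3f0000e200003c008024, nat_lit 0x430000f1000044000018, nat_lit 0x430000f900004400001a, nat_lit 0x430000ed00004400001e, nat_lit 0x430000330000c1000038004022, nat_lit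 0x1450000430000e900004400014100013d00401c, nat_lit 0x47000115000048000018, nat_lit 0x4700011900004800001a, nat_lit 0x4700012100004800001e, nat_lit 0x47000112000149004024, nat_lit 0x15900004700011d00004800015500015100401c, nat_lit 0x4b00012d00004c008018, nat_lit 0x4b00013500004c00801a, nat_lit 0x4b00013100004c00801e, nat_lit 0x4b00012600004400a024, nat_lit 0x4b00013500012d00012900013100004c01401c, nat_lit 0x15e00017100a020, nat_lit 0x4f000159000050000018, nat_lit 0x4f00016100005000001a, nat_lit 0x4f00015500005000001e, nat_lit 0x4f00004700013900004c004022, nat_lit 0x18500004f00015100005000018100017d00401c, nat_lit 0x18a000179000050002024]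
noncomputable def sp_b8_S : List (List ℕ) := [sp_b8_S0, sp_b8_S1]
noncomputable def sp_b8_defs : List ℕ := [(nat_lit 0x6000110070000f0060000e0060000c0040000b0050000a0070000900600008007000070060000600400005005000040070000300600003007000020060000100500001007000000060000000000000)]
noncomputable def sp_b8_recs : List ℕ := [(nat_lit 0xd0000d010000c0000c040000b0000c000000c0000c030000c0000c020000c0000c020000b0000b070000a0000b030000b0000b010000b0000b000000b0000b010000a0000a000000a0000a030000a0000a020000a0000a060000800009030000900009000000900009020000900009010000900009040000600009030000800008020000800008010000800008000000800008050000700008020000700007050000400007030000700007010000700007000000700007010000600006040000500006000000600006030000600006020000600006020000500005070000400005030000500005010000500005000000500005010000400004000000400004030000400004020000400004030000300003020000300003010000300003000000300003050000200003020000200002050000100002030000200002010000200002000000200002010000100001000000100001030000100001020000100001040000000000030000000000020000000000010000000000000000000000),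
  (nat_lit 0x50001300013010001300013060001200013000001300013030001300013020001300013050001200011020001200012050001000012030001200012010001200012000001200012010001100011040001000011000001100011030001100011020001100011010001000010060000d00010000001000010030001000010020001000010060000e0000f030000f0000f000000f0000f020000f0000f010000f0000f040000c0000f030000e0000e020000e0000e010000e0000e000000e0000e050000d0000e020000d0000d050000a0000d030000d0000d010000d0000d)]
noncomputable def sp_b8_L0 : List ℕ := [nat_lit 0x100000000000500000000000900000000000d00000000001100000000001200000000000700000100000b000002, nat_lit 0x1d00000100002100000100001500000100001900000100003200000200000f000003000013000004000008000000, nat_lit 0x2500000200002900000200003500000200002d00000200003a00000300003100000100000c000000000017000005, nat_lit 0x3d00000300004100000300004500000300004900000300001000000100003900000200001b00000600001f000007, nat_lit 0x5500000400005900000400004d00000400005100000400009200000700002300000800006a000005000014000001,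 nat_lit 0x5d00000500006100000500006d00000500006500000500002700000900007e000006000018000002000069000004, nat_lit 0x7900000600008100000600007100000600007500000600007d0000050000ae00000900002b00000a00001c000003, nat_lit 0x8500000700008900000700009500000700008d00000700009a00000800009100000400002000000300002f00000b, nat_lit 0x9d0000080000a10000080000a50000080000a900000800002400000400009900000700003300000c0000c2000009, nat_lit 0xb90000090000b10000090000b50000090000bd0000090000ad0000060000280000050000c100000800003700000d, nat_lit 0xcd00000a0000d100000a0000c500000a0000c900000a00010a00000d00003b00000e0000e200000b00002c000006, nat_lit 0xd500000b0000d900000b0000e500000b0000dd00000b00003f00000f0000f600000c0000300000070000e100000a, nat_lit 0xf100000c0000f900000c0000e900000c0000ed00000c0000f500000b00012600000f000043000010000034000008, nat_lit 0xfd00000d00010100000d00010d00000d00010500000d00011200000e00010900000a00003800000900014a000010,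 nat_lit 0x11500000e00011900000e00011d00000e00012100000e00003c00000a00011100000d00004700001100013a00000f, nat_lit 0x13100000f00012900000f00012d00000f00013500000f00012500000c00004000000b00013900000e00004b000012, nat_lit 0x14500001000014d00001000013d00001000014100001000017200001200015e00001100014900000d00004400000c, nat_lit 0x15900001100016100001100015100001100015500001100015d00001000017900001200004f00001300004800000e, nat_lit 0x16500001200016900001200017500001200016d00001200017a00001100017100001000004c00000f00018a000013, nat_lit 0x18500001300018d00001300017d000013000181000013000192000013000191000013000189000012000050000011]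
noncomputable def sp_b8_L : List (List ℕ) := [sp_b8_L0]
noncomputable def sp_b8_V : List ℕ := [(nat_lit 0x130000001200000011000000100000000f0000000e0000000d0000000c0000000b0000000a00000009000000080000000700000006000000050000000400000003000000020000000100000000)]
noncomputable def sp_b8_D : H26.Dag := ⟨[0,1,2,3,5,4,7,6], [[0,0],
  [1,1],
  [2,2],
  [3,3],
  [4,5],
  [5,4],
  [6,7],
  [7,6],
  [1,5,0,4],
  [2,5,1,4],
  [0,5,2,4],
  [3,5,3,4],
  [2,7,0,6],
  [3,7,1,6],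
  [0,1,2,3,7,2,6],
  [0,7,3,6],
  [4,4,4],
  [6,6,6,6,6],
  [6,4,6,4]], [0,1,2,3,4,5], sp_b8_defs, sp_b8_recs⟩
theorem sp_b8_c : sp_b8_D.checkTab sp_b8_S 20 8 sp_b8_V sp_b8_L = true := by decide +kernel
theorem sp_b8 : Bound sp_Rl 8 1920 :=
  bound_dag sp_b6 (K := 8) (J := [0,1,2,3,4,5,6,7,14,15,16,17,18,19,20,21,22,23,24]) (by decide +kernel) sp_b8_c (by decide +kernel)
theorem sp_P : PModel (nat_lit 32) (nat_lit 5) (nat_lit 31) (nat_lit 0xffbbcdeb38bdab49ca307b9ac5a928398a418820) sp_cs sp_Rl sp_L 1920 :=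
  ⟨PkOK.of (by decide +kernel), by decide +kernel, by decide +kernel, sp_b8, ⟨sp_WW, by decide +kernel⟩,
    ⟨fun c => Nat.mod c (nat_lit 429956), by decide +kernel⟩⟩
noncomputable def sp_lQ : List ℕ := [(nat_lit 0xffbbcdeb38bdab49ca307b9ac5a928398a418820), (nat_lit 0xf7f9dd6f19b5e9594e1173d8d52d0931c8510c01), (nat_lit 0x6f1fe4e17a2d0f60c072eb3eeca36aa92e688262), (nat_lit 0xda938fb9bc98830b98b45eb287fbac1ca203daa4), (nat_lit 0x3daa4988307fbacda938b98b41ca20fb9bc5eb28), (nat_lit 0xe37cfc274ba16c780643675df4655b254d704453), (nat_lit 0x56f0977f8d14e0135e85d2d19f3d9d90c11b1c95), (nat_lit 0xb1c9514e01f3d9d56f0935e8590c1177f8dd2d19), (nat_lit 0x675df4655b254d704453e37cfc274ba16c780643), (nat_lit 0xce16aef1ee8c062ad0e64a37a6b3fe08272292f6), (nat_lit 0x292f68c0626b3fece16aad0e608272ef1ee4a37a), (nat_lit 0xd2d19f3d9d90c11b1c9556f0977f8d14e0135e85), (nat_lit 0x4a37a6b3fe08272292f6ce16aef1ee8c062ad0e6), (nat_lit 0x9ca30398a4deb387b9ac18820bdab45a928ffbbc),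 (nat_lit 0x35e8590c1177f8dd2d19b1c9514e01f3d9d56f09), (nat_lit 0xad0e608272ef1ee4a37a292f68c0626b3fece16a), (nat_lit 0x18820bdab45a928ffbbc9ca30398a4deb387b9ac), (nat_lit 0xeb3eeca36aa92e6882626f1fe4e17a2d0f60c072), (nat_lit 0xc654be75cf84443a54c74275b637df00653216d7), (nat_lit 0x216d784443637dfc654ba54c700653e75cf4275b), (nat_lit 0x5eb287fbac1ca203daa4da938fb9bc98830b98b4), (nat_lit 0x4275b637df00653216d7c654be75cf84443a54c7), (nat_lit 0x94e1131c85d6f1973d8d10c01b5e9552d09f7f9d), (nat_lit 0xb98b41ca20fb9bc5eb283daa4988307fbacda938), (nat_lit 0xa54c700653e75cf4275b216d784443637dfc654b), (nat_lit 0x10c01b5e9552d09f7f9d94e1131c85d6f1973d8d), (nat_lit 0x73d8d52d0931c8510c01f7f9dd6f19b5e9594e11), (nat_lit 0xc072a92e64e17aeb3ee882622d0f6ca36a6f1fe), (nat_lit 0x882622d0f6ca36a6f1fe0c072a92e64e17aeb3ee), (nat_lit 0x7b9ac5a928398a418820ffbbcdeb38bdab49ca30), (nat_lit 0x80643254d7c274b675df04453a16c74655be37cf), (nat_lit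 0x4453a16c74655be37cf80643254d7c274b675df)]
noncomputable def sp_lQ_W : List (List ℕ) := [[],
  [(nat_lit 0)],
  [(nat_lit 1)],
  [(nat_lit 2)],
  [(nat_lit 3)],
  [(nat_lit 0), (nat_lit 1)],
  [(nat_lit 0), (nat_lit 2)],
  [(nat_lit 0), (nat_lit 3)],
  [(nat_lit 1), (nat_lit 0)],
  [(nat_lit 1), (nat_lit 2)],
  [(nat_lit 1), (nat_lit 3)],
  [(nat_lit 2), (nat_lit 0)],
  [(nat_lit 2), (nat_lit 1)],
  [(nat_lit 2), (nat_lit 3)],
  [(nat_lit 3), (nat_lit 0)],
  [(nat_lit 3), (nat_lit 1)],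
  [(nat_lit 3), (nat_lit 2)],
  [(nat_lit 0), (nat_lit 1), (nat_lit 0)],
  [(nat_lit 0), (nat_lit 1), (nat_lit 2)],
  [(nat_lit 0), (nat_lit 1), (nat_lit 3)],
  [(nat_lit 0), (nat_lit 2), (nat_lit 0)],
  [(nat_lit 0), (nat_lit 2), (nat_lit 1)],
  [(nat_lit 0), (nat_lit 2), (nat_lit 3)],
  [(nat_lit 0), (nat_lit 3), (nat_lit 0)],
  [(nat_lit 0), (nat_lit 3), (nat_lit 1)],
  [(nat_lit 0), (nat_lit 3), (nat_lit 2)],
  [(nat_lit 1), (nat_lit 0), (nat_lit 1)],
  [(nat_lit 1), (nat_lit 2), (nat_lit 3)],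
  [(nat_lit 1), (nat_lit 3), (nat_lit 2)],
  [(nat_lit 0), (nat_lit 1), (nat_lit 0), (nat_lit 1)],
  [(nat_lit 0), (nat_lit 1), (nat_lit 2), (nat_lit 3)],
  [(nat_lit 0), (nat_lit 1), (nat_lit 3), (nat_lit 2)]]
noncomputable def sp_lQ_h (c : ℕ) : ℕ := Nat.mod c (nat_lit 32)
theorem sp_Qw : wordsChk sp_o sp_cs 4 sp_lQ sp_lQ_W = 0 := by decide +kernel
theorem sp_Qd : distS sp_lQ_h sp_lQ 32 = true := by decide +kernel
noncomputable def sp_soc_t0 : ST := (.node (nat_lit 105048) (.node (nat_lit 52914) (.node (nat_lit 28533) (.node (nat_lit 16523) (.node (nat_lit 6136) (.node (nat_lit 2811) (.node (nat_lit 1987) (.node (nat_lit 568) (.node (nat_lit 465) (.leaf (nat_lit 1)) (.leaf (nat_lit 0))) (.node (nat_lit 591) (.leaf (nat_lit 1)) (.node (nat_lit 658) (.leaf (nat_lit 0)) (.leaf (nat_lit 1))))) (.node (nat_lit 2437) (.node (nat_lit 2057) (.leaf (nat_lit 2)) (.leaf (nat_lit 1))) (.node (nat_lit 2537) (.leaf (nat_lit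 3)) (.node (nat_lit 2620) (.leaf (nat_lit 1)) (.leaf (nat_lit 2)))))) (.node (nat_lit 4831) (.node (nat_lit 4152) (.node (nat_lit 4142) (.leaf (nat_lit 1)) (.leaf (nat_lit 0))) (.node (nat_lit 4154) (.leaf (nat_lit 1)) (.node (nat_lit 4400) (.leaf (nat_lit 2)) (.leaf (nat_lit 1))))) (.node (nat_lit 5482) (.node (nat_lit 4928) (.leaf (nat_lit 0)) (.leaf (nat_lit 1))) (.node (nat_lit 5500) (.leaf (nat_lit 0)) (.node (nat_lit 5865) (.leaf (nat_lit 1)) (.leaf (nat_lit 0))))))) (.node (nat_lit 10962) (.node (nat_lit 8791) (.node (nat_lit 7306) (.node (nat_lit 7075) (.leaf (nat_lit 1)) (.leaf (nat_lit 0))) (.node (nat_lit 8381) (.leaf (nat_lit 1)) (.node (nat_lit 8492) (.leaf (nat_lit 0)) (.leaf (nat_lit 1))))) (.node (nat_lit 8997) (.node (nat_lit 8971) (.leaf (nat_lit 0)) (.leaf (nat_lit 2))) (.node (nat_lit 9442) (.leaf (nat_lit 1)) (.node (nat_lit 9508) (.leaf (nat_lit 0)) (.leaf (nat_lit 1)))))) (.node (nat_lit 12358)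 (.node (nat_lit 12225) (.node (nat_lit 10995) (.leaf (nat_lit 0)) (.leaf (nat_lit 1))) (.node (nat_lit 12228) (.leaf (nat_lit 0)) (.node (nat_lit 12307) (.leaf (nat_lit 1)) (.leaf (nat_lit 2))))) (.node (nat_lit 13018) (.node (nat_lit 12762) (.leaf (nat_lit 1)) (.leaf (nat_lit 2))) (.node (nat_lit 13884) (.leaf (nat_lit 1)) (.node (nat_lit 14043) (.leaf (nat_lit 2)) (.leaf (nat_lit 1)))))))) (.node (nat_lit 21198) (.node (nat_lit 18040) (.node (nat_lit 17455) (.node (nat_lit 16973) (.node (nat_lit 16884) (.leaf (nat_lit 0)) (.leaf (nat_lit 1))) (.node (nat_lit 16976) (.leaf (nat_lit 2)) (.node (nat_lit 17452) (.leaf (nat_lit 1)) (.leaf (nat_lit 0))))) (.node (nat_lit 17574) (.node (nat_lit 17552) (.leaf (nat_lit 1)) (.leaf (nat_lit 2))) (.node (nat_lit 17624) (.leaf (nat_lit 1)) (.node (nat_lit 17961) (.leaf (nat_lit 2)) (.leaf (nat_lit 0)))))) (.node (nat_lit 20390) (.node (nat_lit 18601) (.node (nat_lit 18203)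 (.leaf (nat_lit 1)) (.leaf (nat_lit 2))) (.node (nat_lit 19861) (.leaf (nat_lit 1)) (.node (nat_lit 19955) (.leaf (nat_lit 0)) (.leaf (nat_lit 1))))) (.node (nat_lit 20945) (.node (nat_lit 20444) (.leaf (nat_lit 2)) (.leaf (nat_lit 1))) (.node (nat_lit 20995) (.leaf (nat_lit 0)) (.node (nat_lit 21041) (.leaf (nat_lit 1)) (.leaf (nat_lit 2))))))) (.node (nat_lit 27171) (.node (nat_lit 26175) (.node (nat_lit 21641) (.node (nat_lit 21561) (.leaf (nat_lit 1)) (.leaf (nat_lit 0))) (.node (nat_lit 22500) (.leaf (nat_lit 1)) (.node (nat_lit 22641) (.leaf (nat_lit 0)) (.leaf (nat_lit 1))))) (.node (nat_lit 26899) (.node (nat_lit 26193) (.leaf (nat_lit 0)) (.leaf (nat_lit 1))) (.node (nat_lit 26914) (.leaf (nat_lit 2)) (.node (nat_lit 27119) (.leaf (nat_lit 1)) (.leaf (nat_lit 2)))))) (.node (nat_lit 27801) (.node (nat_lit 27396) (.node (nat_lit 27300) (.leaf (nat_lit 1)) (.leaf (nat_lit 2))) (.node (nat_lit 27524) (.leaf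 (nat_lit 1)) (.node (nat_lit 27607) (.leaf (nat_lit 2)) (.leaf (nat_lit 0))))) (.node (nat_lit 28258) (.node (nat_lit 27834) (.leaf (nat_lit 1)) (.node (nat_lit 27955) (.leaf (nat_lit 2)) (.leaf (nat_lit 1)))) (.node (nat_lit 28275) (.leaf (nat_lit 0)) (.node (nat_lit 28472) (.leaf (nat_lit 1)) (.leaf (nat_lit 3))))))))) (.node (nat_lit 41768) (.node (nat_lit 36398) (.node (nat_lit 33095) (.node (nat_lit 30356) (.node (nat_lit 29587) (.node (nat_lit 29521) (.leaf (nat_lit 1)) (.leaf (nat_lit 0))) (.node (nat_lit 29705) (.leaf (nat_lit 2)) (.node (nat_lit 30256) (.leaf (nat_lit 0)) (.leaf (nat_lit 1))))) (.node (nat_lit 31551) (.node (nat_lit 30543) (.leaf (nat_lit 0)) (.leaf (nat_lit 1))) (.node (nat_lit 31755) (.leaf (nat_lit 2)) (.node (nat_lit 32824) (.leaf (nat_lit 1)) (.leaf (nat_lit 0)))))) (.node (nat_lit 34559) (.node (nat_lit 33908) (.node (nat_lit 33811) (.leaf (nat_lit 1)) (.leaf (nat_lit 0))) (.node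 (nat_lit 34057) (.leaf (nat_lit 1)) (.node (nat_lit 34271) (.leaf (nat_lit 2)) (.leaf (nat_lit 1))))) (.node (nat_lit 36130) (.node (nat_lit 35069) (.leaf (nat_lit 2)) (.leaf (nat_lit 1))) (.node (nat_lit 36143) (.leaf (nat_lit 3)) (.node (nat_lit 36307) (.leaf (nat_lit 1)) (.leaf (nat_lit 2))))))) (.node (nat_lit 40474) (.node (nat_lit 39115) (.node (nat_lit 38141) (.node (nat_lit 37995) (.leaf (nat_lit 1)) (.leaf (nat_lit 0))) (.node (nat_lit 38481) (.leaf (nat_lit 1)) (.node (nat_lit 38509) (.leaf (nat_lit 2)) (.leaf (nat_lit 1))))) (.node (nat_lit 39505) (.node (nat_lit 39202) (.leaf (nat_lit 2)) (.leaf (nat_lit 1))) (.node (nat_lit 40273) (.leaf (nat_lit 3)) (.node (nat_lit 40316) (.leaf (nat_lit 1)) (.leaf (nat_lit 0)))))) (.node (nat_lit 41106) (.node (nat_lit 40682) (.node (nat_lit 40516) (.leaf (nat_lit 1)) (.leaf (nat_lit 2))) (.node (nat_lit 40849) (.leaf (nat_lit 1)) (.node (nat_lit 40978) (.leaf (nat_lit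 2)) (.leaf (nat_lit 1))))) (.node (nat_lit 41446) (.node (nat_lit 41247) (.leaf (nat_lit 0)) (.node (nat_lit 41307) (.leaf (nat_lit 1)) (.leaf (nat_lit 2)))) (.node (nat_lit 41474) (.leaf (nat_lit 1)) (.node (nat_lit 41506) (.leaf (nat_lit 2)) (.leaf (nat_lit 1)))))))) (.node (nat_lit 46805) (.node (nat_lit 43717) (.node (nat_lit 43178) (.node (nat_lit 42989) (.node (nat_lit 42098) (.leaf (nat_lit 2)) (.leaf (nat_lit 1))) (.node (nat_lit 43011) (.leaf (nat_lit 0)) (.node (nat_lit 43169) (.leaf (nat_lit 1)) (.leaf (nat_lit 2))))) (.node (nat_lit 43503) (.node (nat_lit 43448) (.leaf (nat_lit 1)) (.leaf (nat_lit 0))) (.node (nat_lit 43566) (.leaf (nat_lit 1)) (.node (nat_lit 43703) (.leaf (nat_lit 0)) (.leaf (nat_lit 1)))))) (.node (nat_lit 45621) (.node (nat_lit 43908) (.node (nat_lit 43820) (.leaf (nat_lit 0)) (.leaf (nat_lit 2))) (.node (nat_lit 45448) (.leaf (nat_lit 1)) (.node (nat_lit 45521) (.leaf (nat_lit 2))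 (.leaf (nat_lit 0))))) (.node (nat_lit 46367) (.node (nat_lit 46365) (.leaf (nat_lit 1)) (.leaf (nat_lit 0))) (.node (nat_lit 46670) (.leaf (nat_lit 1)) (.node (nat_lit 46693) (.leaf (nat_lit 0)) (.leaf (nat_lit 1))))))) (.node (nat_lit 50719) (.node (nat_lit 48050) (.node (nat_lit 47506) (.node (nat_lit 47142) (.leaf (nat_lit 2)) (.leaf (nat_lit 1))) (.node (nat_lit 47539) (.leaf (nat_lit 2)) (.node (nat_lit 48007) (.leaf (nat_lit 1)) (.leaf (nat_lit 2))))) (.node (nat_lit 49748) (.node (nat_lit 49699) (.leaf (nat_lit 1)) (.leaf (nat_lit 2))) (.node (nat_lit 50222) (.leaf (nat_lit 1)) (.node (nat_lit 50257) (.leaf (nat_lit 2)) (.leaf (nat_lit 1)))))) (.node (nat_lit 51850) (.node (nat_lit 51121) (.node (nat_lit 50882) (.leaf (nat_lit 2)) (.leaf (nat_lit 1))) (.node (nat_lit 51196) (.leaf (nat_lit 0)) (.node (nat_lit 51808) (.leaf (nat_lit 1)) (.leaf (nat_lit 0))))) (.node (nat_lit 52227) (.node (nat_lit 51945)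 (.leaf (nat_lit 1)) (.node (nat_lit 52035) (.leaf (nat_lit 0)) (.leaf (nat_lit 1)))) (.node (nat_lit 52233) (.leaf (nat_lit 0)) (.node (nat_lit 52516) (.leaf (nat_lit 1)) (.leaf (nat_lit 2)))))))))) (.node (nat_lit 82693) (.node (nat_lit 65582) (.node (nat_lit 60547) (.node (nat_lit 56305) (.node (nat_lit 55089) (.node (nat_lit 53092) (.node (nat_lit 53065) (.leaf (nat_lit 1)) (.leaf (nat_lit 2))) (.node (nat_lit 53160) (.leaf (nat_lit 0)) (.node (nat_lit 55056) (.leaf (nat_lit 1)) (.leaf (nat_lit 0))))) (.node (nat_lit 55696) (.node (nat_lit 55654) (.leaf (nat_lit 1)) (.leaf (nat_lit 0))) (.node (nat_lit 55718) (.leaf (nat_lit 1)) (.node (nat_lit 55773) (.leaf (nat_lit 2)) (.leaf (nat_lit 1)))))) (.node (nat_lit 59455) (.node (nat_lit 58664) (.node (nat_lit 56337) (.leaf (nat_lit 0)) (.leaf (nat_lit 1))) (.node (nat_lit 58726) (.leaf (nat_lit 2)) (.node (nat_lit 59373) (.leaf (nat_lit 1)) (.leaf (nat_lit 0)))))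 (.node (nat_lit 59808) (.node (nat_lit 59508) (.leaf (nat_lit 2)) (.leaf (nat_lit 1))) (.node (nat_lit 59907) (.leaf (nat_lit 0)) (.node (nat_lit 60459) (.leaf (nat_lit 1)) (.leaf (nat_lit 0))))))) (.node (nat_lit 64448) (.node (nat_lit 62470) (.node (nat_lit 60634) (.node (nat_lit 60620) (.leaf (nat_lit 1)) (.leaf (nat_lit 0))) (.node (nat_lit 61714) (.leaf (nat_lit 1)) (.node (nat_lit 62291) (.leaf (nat_lit 0)) (.leaf (nat_lit 1))))) (.node (nat_lit 63797) (.node (nat_lit 62486) (.leaf (nat_lit 0)) (.leaf (nat_lit 1))) (.node (nat_lit 63942) (.leaf (nat_lit 0)) (.node (nat_lit 64008) (.leaf (nat_lit 2)) (.leaf (nat_lit 1)))))) (.node (nat_lit 64914) (.node (nat_lit 64669) (.node (nat_lit 64572) (.leaf (nat_lit 0)) (.leaf (nat_lit 1))) (.node (nat_lit 64753) (.leaf (nat_lit 2)) (.node (nat_lit 64786) (.leaf (nat_lit 1)) (.leaf (nat_lit 0))))) (.node (nat_lit 65447) (.node (nat_lit 64953) (.leaf (nat_lit 1)) (.node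 (nat_lit 64954) (.leaf (nat_lit 2)) (.leaf (nat_lit 1)))) (.node (nat_lit 65486) (.leaf (nat_lit 0)) (.node (nat_lit 65512) (.leaf (nat_lit 1)) (.leaf (nat_lit 0)))))))) (.node (nat_lit 76214) (.node (nat_lit 68711) (.node (nat_lit 66376) (.node (nat_lit 65778) (.node (nat_lit 65703) (.leaf (nat_lit 1)) (.leaf (nat_lit 0))) (.node (nat_lit 66274) (.leaf (nat_lit 1)) (.node (nat_lit 66351) (.leaf (nat_lit 0)) (.leaf (nat_lit 2))))) (.node (nat_lit 66492) (.node (nat_lit 66466) (.leaf (nat_lit 1)) (.leaf (nat_lit 2))) (.node (nat_lit 66671) (.leaf (nat_lit 1)) (.node (nat_lit 66861) (.leaf (nat_lit 0)) (.leaf (nat_lit 1)))))) (.node (nat_lit 69583) (.node (nat_lit 69006) (.node (nat_lit 68744) (.leaf (nat_lit 0)) (.leaf (nat_lit 1))) (.node (nat_lit 69135) (.leaf (nat_lit 2)) (.node (nat_lit 69435) (.leaf (nat_lit 1)) (.leaf (nat_lit 0))))) (.node (nat_lit 71774) (.node (nat_lit 71693) (.leaf (nat_lit 1)) (.leaf (nat_lit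 0))) (.node (nat_lit 73191) (.leaf (nat_lit 1)) (.node (nat_lit 73196) (.leaf (nat_lit 2)) (.leaf (nat_lit 1))))))) (.node (nat_lit 80193) (.node (nat_lit 76887) (.node (nat_lit 76756) (.node (nat_lit 76271) (.leaf (nat_lit 0)) (.leaf (nat_lit 1))) (.node (nat_lit 76808) (.leaf (nat_lit 2)) (.node (nat_lit 76845) (.leaf (nat_lit 1)) (.leaf (nat_lit 0))))) (.node (nat_lit 79582) (.node (nat_lit 79397) (.leaf (nat_lit 1)) (.leaf (nat_lit 0))) (.node (nat_lit 79672) (.leaf (nat_lit 1)) (.node (nat_lit 79680) (.leaf (nat_lit 0)) (.leaf (nat_lit 1)))))) (.node (nat_lit 80628) (.node (nat_lit 80368) (.node (nat_lit 80254) (.leaf (nat_lit 2)) (.leaf (nat_lit 1))) (.node (nat_lit 80444) (.leaf (nat_lit 0)) (.node (nat_lit 80602) (.leaf (nat_lit 1)) (.leaf (nat_lit 0))))) (.node (nat_lit 82116) (.node (nat_lit 80844) (.leaf (nat_lit 1)) (.node (nat_lit 81099) (.leaf (nat_lit 2)) (.leaf (nat_lit 1)))) (.node (nat_lit 82156)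 (.leaf (nat_lit 2)) (.node (nat_lit 82671) (.leaf (nat_lit 1)) (.leaf (nat_lit 2))))))))) (.node (nat_lit 95294) (.node (nat_lit 87215) (.node (nat_lit 84232) (.node (nat_lit 83322) (.node (nat_lit 82929) (.node (nat_lit 82823) (.leaf (nat_lit 1)) (.leaf (nat_lit 3))) (.node (nat_lit 83142) (.leaf (nat_lit 1)) (.node (nat_lit 83239) (.leaf (nat_lit 2)) (.leaf (nat_lit 1))))) (.node (nat_lit 83793) (.node (nat_lit 83560) (.leaf (nat_lit 2)) (.leaf (nat_lit 1))) (.node (nat_lit 83930) (.leaf (nat_lit 2)) (.node (nat_lit 83997) (.leaf (nat_lit 1)) (.leaf (nat_lit 0)))))) (.node (nat_lit 86859) (.node (nat_lit 84735) (.node (nat_lit 84634) (.leaf (nat_lit 1)) (.leaf (nat_lit 2))) (.node (nat_lit 86315) (.leaf (nat_lit 1)) (.node (nat_lit 86612) (.leaf (nat_lit 0)) (.leaf (nat_lit 1))))) (.node (nat_lit 86966) (.node (nat_lit 86866) (.leaf (nat_lit 0)) (.leaf (nat_lit 1))) (.node (nat_lit 87035) (.leaf (nat_lit 0)) (.node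 (nat_lit 87141) (.leaf (nat_lit 1)) (.leaf (nat_lit 2))))))) (.node (nat_lit 89951) (.node (nat_lit 89272) (.node (nat_lit 87384) (.node (nat_lit 87370) (.leaf (nat_lit 1)) (.leaf (nat_lit 0))) (.node (nat_lit 87583) (.leaf (nat_lit 1)) (.node (nat_lit 87664) (.leaf (nat_lit 0)) (.leaf (nat_lit 1))))) (.node (nat_lit 89454) (.node (nat_lit 89328) (.leaf (nat_lit 0)) (.leaf (nat_lit 1))) (.node (nat_lit 89743) (.leaf (nat_lit 0)) (.node (nat_lit 89923) (.leaf (nat_lit 1)) (.leaf (nat_lit 0)))))) (.node (nat_lit 93244) (.node (nat_lit 90359) (.node (nat_lit 90329) (.leaf (nat_lit 1)) (.leaf (nat_lit 0))) (.node (nat_lit 92324) (.leaf (nat_lit 1)) (.node (nat_lit 92349) (.leaf (nat_lit 2)) (.leaf (nat_lit 1))))) (.node (nat_lit 93643) (.node (nat_lit 93389) (.leaf (nat_lit 2)) (.node (nat_lit 93622) (.leaf (nat_lit 1)) (.leaf (nat_lit 0)))) (.node (nat_lit 94993) (.leaf (nat_lit 1)) (.node (nat_lit 95017) (.leaf (nat_lit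 0)) (.leaf (nat_lit 1)))))))) (.node (nat_lit 100420) (.node (nat_lit 98584) (.node (nat_lit 96225) (.node (nat_lit 95945) (.node (nat_lit 95314) (.leaf (nat_lit 2)) (.leaf (nat_lit 1))) (.node (nat_lit 96073) (.leaf (nat_lit 2)) (.node (nat_lit 96093) (.leaf (nat_lit 1)) (.leaf (nat_lit 3))))) (.node (nat_lit 96834) (.node (nat_lit 96752) (.leaf (nat_lit 1)) (.leaf (nat_lit 3))) (.node (nat_lit 97299) (.leaf (nat_lit 1)) (.node (nat_lit 97301) (.leaf (nat_lit 0)) (.leaf (nat_lit 1)))))) (.node (nat_lit 99580) (.node (nat_lit 99474) (.node (nat_lit 98650) (.leaf (nat_lit 2)) (.leaf (nat_lit 1))) (.node (nat_lit 99492) (.leaf (nat_lit 0)) (.node (nat_lit 99496) (.leaf (nat_lit 1)) (.leaf (nat_lit 2))))) (.node (nat_lit 100214) (.node (nat_lit 100147) (.leaf (nat_lit 1)) (.leaf (nat_lit 2))) (.node (nat_lit 100295) (.leaf (nat_lit 1)) (.node (nat_lit 100322) (.leaf (nat_lit 0)) (.leaf (nat_lit 1))))))) (.node (nat_lit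 103606) (.node (nat_lit 101369) (.node (nat_lit 100614) (.node (nat_lit 100452) (.leaf (nat_lit 0)) (.leaf (nat_lit 1))) (.node (nat_lit 100968) (.leaf (nat_lit 0)) (.node (nat_lit 101112) (.leaf (nat_lit 1)) (.leaf (nat_lit 2))))) (.node (nat_lit 101523) (.node (nat_lit 101517) (.leaf (nat_lit 1)) (.leaf (nat_lit 2))) (.node (nat_lit 103404) (.leaf (nat_lit 1)) (.node (nat_lit 103436) (.leaf (nat_lit 0)) (.leaf (nat_lit 1)))))) (.node (nat_lit 103948) (.node (nat_lit 103747) (.node (nat_lit 103724) (.leaf (nat_lit 2)) (.leaf (nat_lit 0))) (.node (nat_lit 103767) (.leaf (nat_lit 2)) (.node (nat_lit 103906) (.leaf (nat_lit 1)) (.leaf (nat_lit 2))))) (.node (nat_lit 104375) (.node (nat_lit 104279) (.leaf (nat_lit 1)) (.node (nat_lit 104329) (.leaf (nat_lit 0)) (.leaf (nat_lit 1)))) (.node (nat_lit 104398) (.leaf (nat_lit 0)) (.node (nat_lit 104622) (.leaf (nat_lit 2)) (.leaf (nat_lit 1))))))))))) (.node (nat_lit 164532)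 (.node (nat_lit 139900) (.node (nat_lit 121878) (.node (nat_lit 113265) (.node (nat_lit 109186) (.node (nat_lit 106231) (.node (nat_lit 106048) (.node (nat_lit 105429) (.leaf (nat_lit 0)) (.leaf (nat_lit 1))) (.node (nat_lit 106095) (.leaf (nat_lit 0)) (.node (nat_lit 106222) (.leaf (nat_lit 1)) (.leaf (nat_lit 0))))) (.node (nat_lit 106723) (.node (nat_lit 106699) (.leaf (nat_lit 1)) (.leaf (nat_lit 0))) (.node (nat_lit 108549) (.leaf (nat_lit 1)) (.node (nat_lit 108559) (.leaf (nat_lit 0)) (.leaf (nat_lit 1)))))) (.node (nat_lit 109908) (.node (nat_lit 109376) (.node (nat_lit 109270) (.leaf (nat_lit 2)) (.leaf (nat_lit 1))) (.node (nat_lit 109565) (.leaf (nat_lit 2)) (.node (nat_lit 109869) (.leaf (nat_lit 1)) (.leaf (nat_lit 3))))) (.node (nat_lit 110143) (.node (nat_lit 110027) (.leaf (nat_lit 1)) (.leaf (nat_lit 2))) (.node (nat_lit 110472) (.leaf (nat_lit 1)) (.node (nat_lit 110479) (.leaf (nat_lit 2)) (.leaf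 (nat_lit 1))))))) (.node (nat_lit 118014) (.node (nat_lit 115683) (.node (nat_lit 114723) (.node (nat_lit 113418) (.leaf (nat_lit 0)) (.leaf (nat_lit 1))) (.node (nat_lit 114918) (.leaf (nat_lit 0)) (.node (nat_lit 115374) (.leaf (nat_lit 1)) (.leaf (nat_lit 0))))) (.node (nat_lit 115917) (.node (nat_lit 115846) (.leaf (nat_lit 1)) (.leaf (nat_lit 0))) (.node (nat_lit 117363) (.leaf (nat_lit 1)) (.node (nat_lit 117433) (.leaf (nat_lit 0)) (.leaf (nat_lit 1)))))) (.node (nat_lit 119445) (.node (nat_lit 118998) (.node (nat_lit 118054) (.leaf (nat_lit 0)) (.leaf (nat_lit 1))) (.node (nat_lit 119012) (.leaf (nat_lit 0)) (.node (nat_lit 119371) (.leaf (nat_lit 1)) (.leaf (nat_lit 0))))) (.node (nat_lit 120714) (.node (nat_lit 119665) (.leaf (nat_lit 1)) (.node (nat_lit 119707) (.leaf (nat_lit 2)) (.leaf (nat_lit 1)))) (.node (nat_lit 120981) (.leaf (nat_lit 0)) (.node (nat_lit 121754) (.leaf (nat_lit 1)) (.leaf (nat_lit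 2)))))))) (.node (nat_lit 131419) (.node (nat_lit 127334) (.node (nat_lit 125873) (.node (nat_lit 123487) (.node (nat_lit 123480) (.leaf (nat_lit 1)) (.leaf (nat_lit 0))) (.node (nat_lit 124370) (.leaf (nat_lit 1)) (.node (nat_lit 124743) (.leaf (nat_lit 0)) (.leaf (nat_lit 1))))) (.node (nat_lit 126069) (.node (nat_lit 126034) (.leaf (nat_lit 2)) (.leaf (nat_lit 3))) (.node (nat_lit 126614) (.leaf (nat_lit 1)) (.node (nat_lit 126707) (.leaf (nat_lit 0)) (.leaf (nat_lit 1)))))) (.node (nat_lit 129008) (.node (nat_lit 127740) (.node (nat_lit 127384) (.leaf (nat_lit 2)) (.leaf (nat_lit 0))) (.node (nat_lit 128061) (.leaf (nat_lit 1)) (.node (nat_lit 128194) (.leaf (nat_lit 0)) (.leaf (nat_lit 1))))) (.node (nat_lit 129961) (.node (nat_lit 129060) (.leaf (nat_lit 0)) (.leaf (nat_lit 1))) (.node (nat_lit 129991) (.leaf (nat_lit 0)) (.node (nat_lit 131198) (.leaf (nat_lit 1)) (.leaf (nat_lit 0))))))) (.node (nat_lit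 136827) (.node (nat_lit 135979) (.node (nat_lit 131560) (.node (nat_lit 131506) (.leaf (nat_lit 1)) (.leaf (nat_lit 2))) (.node (nat_lit 134932) (.leaf (nat_lit 1)) (.node (nat_lit 134957) (.leaf (nat_lit 2)) (.leaf (nat_lit 1))))) (.node (nat_lit 136478) (.node (nat_lit 136254) (.leaf (nat_lit 2)) (.leaf (nat_lit 1))) (.node (nat_lit 136511) (.leaf (nat_lit 2)) (.node (nat_lit 136774) (.leaf (nat_lit 1)) (.leaf (nat_lit 2)))))) (.node (nat_lit 137732) (.node (nat_lit 137300) (.node (nat_lit 137076) (.leaf (nat_lit 1)) (.leaf (nat_lit 2))) (.node (nat_lit 137708) (.leaf (nat_lit 1)) (.node (nat_lit 137727) (.leaf (nat_lit 0)) (.leaf (nat_lit 2))))) (.node (nat_lit 139113) (.node (nat_lit 137878) (.leaf (nat_lit 0)) (.node (nat_lit 139006) (.leaf (nat_lit 1)) (.leaf (nat_lit 0)))) (.node (nat_lit 139643) (.leaf (nat_lit 1)) (.node (nat_lit 139649) (.leaf (nat_lit 2)) (.leaf (nat_lit 1))))))))) (.node (nat_lit 148104)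 (.node (nat_lit 143000) (.node (nat_lit 141204) (.node (nat_lit 140518) (.node (nat_lit 139999) (.node (nat_lit 139956) (.leaf (nat_lit 0)) (.leaf (nat_lit 1))) (.node (nat_lit 140025) (.leaf (nat_lit 0)) (.node (nat_lit 140400) (.leaf (nat_lit 1)) (.leaf (nat_lit 2))))) (.node (nat_lit 140919) (.node (nat_lit 140868) (.leaf (nat_lit 1)) (.leaf (nat_lit 0))) (.node (nat_lit 141168) (.leaf (nat_lit 1)) (.node (nat_lit 141191) (.leaf (nat_lit 0)) (.leaf (nat_lit 2)))))) (.node (nat_lit 142235) (.node (nat_lit 141712) (.node (nat_lit 141677) (.leaf (nat_lit 1)) (.leaf (nat_lit 0))) (.node (nat_lit 142011) (.leaf (nat_lit 1)) (.node (nat_lit 142021) (.leaf (nat_lit 0)) (.leaf (nat_lit 1))))) (.node (nat_lit 142447) (.node (nat_lit 142315) (.leaf (nat_lit 0)) (.leaf (nat_lit 1))) (.node (nat_lit 142512) (.leaf (nat_lit 0)) (.node (nat_lit 142958) (.leaf (nat_lit 1)) (.leaf (nat_lit 0))))))) (.node (nat_lit 143908) (.node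 (nat_lit 143226) (.node (nat_lit 143105) (.node (nat_lit 143098) (.leaf (nat_lit 1)) (.leaf (nat_lit 0))) (.node (nat_lit 143113) (.leaf (nat_lit 2)) (.node (nat_lit 143136) (.leaf (nat_lit 1)) (.leaf (nat_lit 0))))) (.node (nat_lit 143433) (.node (nat_lit 143386) (.leaf (nat_lit 1)) (.leaf (nat_lit 2))) (.node (nat_lit 143513) (.leaf (nat_lit 1)) (.node (nat_lit 143828) (.leaf (nat_lit 0)) (.leaf (nat_lit 1)))))) (.node (nat_lit 145367) (.node (nat_lit 144126) (.node (nat_lit 144021) (.leaf (nat_lit 3)) (.leaf (nat_lit 2))) (.node (nat_lit 144762) (.leaf (nat_lit 1)) (.node (nat_lit 145107) (.leaf (nat_lit 0)) (.leaf (nat_lit 1))))) (.node (nat_lit 145767) (.node (nat_lit 145423) (.leaf (nat_lit 0)) (.node (nat_lit 145641) (.leaf (nat_lit 1)) (.leaf (nat_lit 0)))) (.node (nat_lit 147440) (.leaf (nat_lit 1)) (.node (nat_lit 147474) (.leaf (nat_lit 0)) (.leaf (nat_lit 1)))))))) (.node (nat_lit 154160) (.node (nat_lit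 149929) (.node (nat_lit 148882) (.node (nat_lit 148414) (.node (nat_lit 148109) (.leaf (nat_lit 2)) (.leaf (nat_lit 0))) (.node (nat_lit 148755) (.leaf (nat_lit 1)) (.node (nat_lit 148824) (.leaf (nat_lit 2)) (.leaf (nat_lit 1))))) (.node (nat_lit 149346) (.node (nat_lit 148965) (.leaf (nat_lit 2)) (.leaf (nat_lit 1))) (.node (nat_lit 149425) (.leaf (nat_lit 0)) (.node (nat_lit 149446) (.leaf (nat_lit 2)) (.leaf (nat_lit 1)))))) (.node (nat_lit 152628) (.node (nat_lit 151246) (.node (nat_lit 149950) (.leaf (nat_lit 2)) (.leaf (nat_lit 1))) (.node (nat_lit 151361) (.leaf (nat_lit 0)) (.node (nat_lit 152431) (.leaf (nat_lit 1)) (.leaf (nat_lit 0))))) (.node (nat_lit 153255) (.node (nat_lit 152909) (.leaf (nat_lit 1)) (.leaf (nat_lit 0))) (.node (nat_lit 153949) (.leaf (nat_lit 1)) (.node (nat_lit 153986) (.leaf (nat_lit 0)) (.leaf (nat_lit 1))))))) (.node (nat_lit 159042) (.node (nat_lit 157363) (.node (nat_lit 157055)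 (.node (nat_lit 154249) (.leaf (nat_lit 2)) (.leaf (nat_lit 1))) (.node (nat_lit 157086) (.leaf (nat_lit 2)) (.node (nat_lit 157132) (.leaf (nat_lit 0)) (.leaf (nat_lit 1))))) (.node (nat_lit 158048) (.node (nat_lit 157712) (.leaf (nat_lit 0)) (.leaf (nat_lit 1))) (.node (nat_lit 158121) (.leaf (nat_lit 0)) (.node (nat_lit 159016) (.leaf (nat_lit 1)) (.leaf (nat_lit 0)))))) (.node (nat_lit 161090) (.node (nat_lit 159574) (.node (nat_lit 159316) (.leaf (nat_lit 1)) (.leaf (nat_lit 0))) (.node (nat_lit 159591) (.leaf (nat_lit 1)) (.node (nat_lit 159596) (.leaf (nat_lit 0)) (.leaf (nat_lit 1))))) (.node (nat_lit 161821) (.node (nat_lit 161174) (.leaf (nat_lit 0)) (.node (nat_lit 161661) (.leaf (nat_lit 1)) (.leaf (nat_lit 0)))) (.node (nat_lit 164257) (.leaf (nat_lit 1)) (.node (nat_lit 164412) (.leaf (nat_lit 0)) (.leaf (nat_lit 1)))))))))) (.node (nat_lit 184414) (.node (nat_lit 172934) (.node (nat_lit 169670) (.node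 (nat_lit 167416) (.node (nat_lit 166765) (.node (nat_lit 165196) (.node (nat_lit 164697) (.leaf (nat_lit 0)) (.leaf (nat_lit 1))) (.node (nat_lit 166059) (.leaf (nat_lit 0)) (.node (nat_lit 166714) (.leaf (nat_lit 1)) (.leaf (nat_lit 0))))) (.node (nat_lit 166963) (.node (nat_lit 166859) (.leaf (nat_lit 2)) (.leaf (nat_lit 0))) (.node (nat_lit 167354) (.leaf (nat_lit 1)) (.node (nat_lit 167386) (.leaf (nat_lit 0)) (.leaf (nat_lit 1)))))) (.node (nat_lit 168136) (.node (nat_lit 167622) (.node (nat_lit 167483) (.leaf (nat_lit 2)) (.leaf (nat_lit 1))) (.node (nat_lit 167731) (.leaf (nat_lit 0)) (.node (nat_lit 168110) (.leaf (nat_lit 1)) (.leaf (nat_lit 2))))) (.node (nat_lit 168822) (.node (nat_lit 168590) (.leaf (nat_lit 1)) (.leaf (nat_lit 0))) (.node (nat_lit 168826) (.leaf (nat_lit 1)) (.node (nat_lit 168829) (.leaf (nat_lit 2)) (.leaf (nat_lit 1))))))) (.node (nat_lit 170925) (.node (nat_lit 170425) (.node (nat_lit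 170107) (.node (nat_lit 169798) (.leaf (nat_lit 0)) (.leaf (nat_lit 1))) (.node (nat_lit 170308) (.leaf (nat_lit 2)) (.node (nat_lit 170396) (.leaf (nat_lit 1)) (.leaf (nat_lit 0))))) (.node (nat_lit 170625) (.node (nat_lit 170579) (.leaf (nat_lit 1)) (.leaf (nat_lit 0))) (.node (nat_lit 170697) (.leaf (nat_lit 1)) (.node (nat_lit 170865) (.leaf (nat_lit 0)) (.leaf (nat_lit 1)))))) (.node (nat_lit 171302) (.node (nat_lit 171158) (.node (nat_lit 171013) (.leaf (nat_lit 2)) (.leaf (nat_lit 1))) (.node (nat_lit 171183) (.leaf (nat_lit 0)) (.node (nat_lit 171235) (.leaf (nat_lit 1)) (.leaf (nat_lit 2))))) (.node (nat_lit 171838) (.node (nat_lit 171313) (.leaf (nat_lit 1)) (.node (nat_lit 171376) (.leaf (nat_lit 0)) (.leaf (nat_lit 1)))) (.node (nat_lit 172048) (.leaf (nat_lit 2)) (.node (nat_lit 172351) (.leaf (nat_lit 1)) (.leaf (nat_lit 0)))))))) (.node (nat_lit 178536) (.node (nat_lit 176129) (.node (nat_lit 174540)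 (.node (nat_lit 173224) (.node (nat_lit 173107) (.leaf (nat_lit 1)) (.leaf (nat_lit 0))) (.node (nat_lit 173612) (.leaf (nat_lit 1)) (.node (nat_lit 174005) (.leaf (nat_lit 0)) (.leaf (nat_lit 1))))) (.node (nat_lit 175185) (.node (nat_lit 174794) (.leaf (nat_lit 0)) (.leaf (nat_lit 1))) (.node (nat_lit 175407) (.leaf (nat_lit 0)) (.node (nat_lit 175738) (.leaf (nat_lit 1)) (.leaf (nat_lit 0)))))) (.node (nat_lit 177392) (.node (nat_lit 176480) (.node (nat_lit 176391) (.leaf (nat_lit 1)) (.leaf (nat_lit 0))) (.node (nat_lit 176955) (.leaf (nat_lit 1)) (.node (nat_lit 176959) (.leaf (nat_lit 2)) (.leaf (nat_lit 1))))) (.node (nat_lit 178043) (.node (nat_lit 177692) (.leaf (nat_lit 2)) (.leaf (nat_lit 1))) (.node (nat_lit 178051) (.leaf (nat_lit 2)) (.node (nat_lit 178535) (.leaf (nat_lit 1)) (.leaf (nat_lit 3))))))) (.node (nat_lit 181205) (.node (nat_lit 180058) (.node (nat_lit 178744) (.node (nat_lit 178675) (.leaf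 (nat_lit 1)) (.leaf (nat_lit 2))) (.node (nat_lit 179716) (.leaf (nat_lit 1)) (.node (nat_lit 180037) (.leaf (nat_lit 3)) (.leaf (nat_lit 2))))) (.node (nat_lit 180620) (.node (nat_lit 180554) (.leaf (nat_lit 1)) (.leaf (nat_lit 2))) (.node (nat_lit 180688) (.leaf (nat_lit 1)) (.node (nat_lit 180781) (.leaf (nat_lit 2)) (.leaf (nat_lit 1)))))) (.node (nat_lit 182203) (.node (nat_lit 181411) (.node (nat_lit 181268) (.leaf (nat_lit 2)) (.leaf (nat_lit 1))) (.node (nat_lit 181590) (.leaf (nat_lit 2)) (.node (nat_lit 182145) (.leaf (nat_lit 1)) (.leaf (nat_lit 2))))) (.node (nat_lit 183527) (.node (nat_lit 182287) (.leaf (nat_lit 1)) (.node (nat_lit 182694) (.leaf (nat_lit 0)) (.leaf (nat_lit 1)))) (.node (nat_lit 183650) (.leaf (nat_lit 0)) (.node (nat_lit 184336) (.leaf (nat_lit 1)) (.leaf (nat_lit 0))))))))) (.node (nat_lit 197053) (.node (nat_lit 191204) (.node (nat_lit 188470) (.node (nat_lit 186301) (.node (nat_lit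 185276) (.node (nat_lit 184862) (.leaf (nat_lit 1)) (.leaf (nat_lit 0))) (.node (nat_lit 185506) (.leaf (nat_lit 1)) (.node (nat_lit 185642) (.leaf (nat_lit 0)) (.leaf (nat_lit 1))))) (.node (nat_lit 186576) (.node (nat_lit 186366) (.leaf (nat_lit 0)) (.leaf (nat_lit 1))) (.node (nat_lit 186883) (.leaf (nat_lit 2)) (.node (nat_lit 188255) (.leaf (nat_lit 1)) (.leaf (nat_lit 2)))))) (.node (nat_lit 189148) (.node (nat_lit 188489) (.node (nat_lit 188481) (.leaf (nat_lit 1)) (.leaf (nat_lit 0))) (.node (nat_lit 188497) (.leaf (nat_lit 1)) (.node (nat_lit 188961) (.leaf (nat_lit 0)) (.leaf (nat_lit 1))))) (.node (nat_lit 189986) (.node (nat_lit 189205) (.leaf (nat_lit 0)) (.leaf (nat_lit 1))) (.node (nat_lit 190141) (.leaf (nat_lit 2)) (.node (nat_lit 191189) (.leaf (nat_lit 1)) (.leaf (nat_lit 3))))))) (.node (nat_lit 194186) (.node (nat_lit 193425) (.node (nat_lit 192870) (.node (nat_lit 192809) (.leaf (nat_lit 1))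 (.leaf (nat_lit 2))) (.node (nat_lit 193043) (.leaf (nat_lit 1)) (.node (nat_lit 193318) (.leaf (nat_lit 2)) (.leaf (nat_lit 0))))) (.node (nat_lit 193705) (.node (nat_lit 193694) (.leaf (nat_lit 1)) (.leaf (nat_lit 2))) (.node (nat_lit 193886) (.leaf (nat_lit 1)) (.node (nat_lit 193901) (.leaf (nat_lit 0)) (.leaf (nat_lit 1)))))) (.node (nat_lit 194992) (.node (nat_lit 194539) (.node (nat_lit 194197) (.leaf (nat_lit 3)) (.leaf (nat_lit 1))) (.node (nat_lit 194594) (.leaf (nat_lit 0)) (.node (nat_lit 194797) (.leaf (nat_lit 1)) (.leaf (nat_lit 2))))) (.node (nat_lit 195448) (.node (nat_lit 195103) (.leaf (nat_lit 1)) (.node (nat_lit 195415) (.leaf (nat_lit 2)) (.leaf (nat_lit 0)))) (.node (nat_lit 196091) (.leaf (nat_lit 2)) (.node (nat_lit 196995) (.leaf (nat_lit 1)) (.leaf (nat_lit 0)))))))) (.node (nat_lit 202545) (.node (nat_lit 201278) (.node (nat_lit 199093) (.node (nat_lit 198128) (.node (nat_lit 197573)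 (.leaf (nat_lit 1)) (.leaf (nat_lit 0))) (.node (nat_lit 198527) (.leaf (nat_lit 2)) (.node (nat_lit 198718) (.leaf (nat_lit 1)) (.leaf (nat_lit 0))))) (.node (nat_lit 199363) (.node (nat_lit 199218) (.leaf (nat_lit 1)) (.leaf (nat_lit 0))) (.node (nat_lit 199503) (.leaf (nat_lit 1)) (.node (nat_lit 199773) (.leaf (nat_lit 0)) (.leaf (nat_lit 1)))))) (.node (nat_lit 201757) (.node (nat_lit 201417) (.node (nat_lit 201354) (.leaf (nat_lit 2)) (.leaf (nat_lit 1))) (.node (nat_lit 201547) (.leaf (nat_lit 2)) (.node (nat_lit 201675) (.leaf (nat_lit 1)) (.leaf (nat_lit 0))))) (.node (nat_lit 201951) (.node (nat_lit 201929) (.leaf (nat_lit 1)) (.leaf (nat_lit 2))) (.node (nat_lit 202484) (.leaf (nat_lit 1)) (.node (nat_lit 202537) (.leaf (nat_lit 0)) (.leaf (nat_lit 1))))))) (.node (nat_lit 204659) (.node (nat_lit 203110) (.node (nat_lit 202648) (.node (nat_lit 202602) (.leaf (nat_lit 0)) (.leaf (nat_lit 1))) (.node (nat_lit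 202681) (.leaf (nat_lit 0)) (.node (nat_lit 203031) (.leaf (nat_lit 1)) (.leaf (nat_lit 2))))) (.node (nat_lit 203654) (.node (nat_lit 203337) (.leaf (nat_lit 0)) (.leaf (nat_lit 1))) (.node (nat_lit 203746) (.leaf (nat_lit 0)) (.node (nat_lit 203761) (.leaf (nat_lit 1)) (.leaf (nat_lit 0)))))) (.node (nat_lit 205515) (.node (nat_lit 205178) (.node (nat_lit 204989) (.leaf (nat_lit 1)) (.leaf (nat_lit 3))) (.node (nat_lit 205261) (.leaf (nat_lit 0)) (.node (nat_lit 205498) (.leaf (nat_lit 1)) (.leaf (nat_lit 0))))) (.node (nat_lit 206179) (.node (nat_lit 206012) (.leaf (nat_lit 1)) (.node (nat_lit 206092) (.leaf (nat_lit 0)) (.leaf (nat_lit 3)))) (.node (nat_lit 206616) (.leaf (nat_lit 1)) (.node (nat_lit 206678) (.leaf (nat_lit 0)) (.leaf (nat_lit 1))))))))))))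
noncomputable def sp_soc_t1 : ST := (.node (nat_lit 29128) (.node (nat_lit 12882) (.node (nat_lit 5645) (.node (nat_lit 2583) (.node (nat_lit 1008) (.node (nat_lit 519) (.node (nat_lit 233) (.node (nat_lit 192) (.leaf (nat_lit 1)) (.leaf (nat_lit 2))) (.node (nat_lit 357) (.leaf (nat_lit 1)) (.node (nat_lit 387) (.leaf (nat_lit 2)) (.leaf (nat_lit 1))))) (.node (nat_lit 628) (.node (nat_lit 528) (.leaf (nat_lit 2)) (.node (nat_lit 535) (.leaf (nat_lit 3)) (.leaf (nat_lit 1)))) (.node (nat_lit 646) (.leaf (nat_lit 2)) (.node (nat_lit 992) (.leaf (nat_lit 1)) (.leaf (nat_lit 2)))))) (.node (nat_lit 2161) (.node (nat_lit 1647) (.node (nat_lit 1636) (.leaf (nat_lit 1)) (.leaf (nat_lit 2))) (.node (nat_lit 1943) (.leaf (nat_lit 1)) (.node (nat_lit 2020) (.leaf (nat_lit 2)) (.leaf (nat_lit 1))))) (.node (nat_lit 2270) (.node (nat_lit 2220) (.leaf (nat_lit 2)) (.node (nat_lit 2268) (.leaf (nat_lit 1)) (.leaf (nat_lit 2))))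 (.node (nat_lit 2272) (.leaf (nat_lit 1)) (.node (nat_lit 2311) (.leaf (nat_lit 2)) (.leaf (nat_lit 1))))))) (.node (nat_lit 4478) (.node (nat_lit 3749) (.node (nat_lit 2807) (.node (nat_lit 2645) (.leaf (nat_lit 2)) (.leaf (nat_lit 1))) (.node (nat_lit 2832) (.leaf (nat_lit 2)) (.node (nat_lit 3692) (.leaf (nat_lit 1)) (.leaf (nat_lit 2))))) (.node (nat_lit 4040) (.node (nat_lit 3935) (.leaf (nat_lit 1)) (.node (nat_lit 3937) (.leaf (nat_lit 2)) (.leaf (nat_lit 1)))) (.node (nat_lit 4046) (.leaf (nat_lit 2)) (.node (nat_lit 4473) (.leaf (nat_lit 1)) (.leaf (nat_lit 2)))))) (.node (nat_lit 5272) (.node (nat_lit 4518) (.node (nat_lit 4499) (.leaf (nat_lit 1)) (.leaf (nat_lit 2))) (.node (nat_lit 5159) (.leaf (nat_lit 1)) (.node (nat_lit 5252) (.leaf (nat_lit 2)) (.leaf (nat_lit 1))))) (.node (nat_lit 5569) (.node (nat_lit 5290) (.leaf (nat_lit 2)) (.node (nat_lit 5553) (.leaf (nat_lit 1)) (.leaf (nat_lit 2)))) (.node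 (nat_lit 5581) (.leaf (nat_lit 1)) (.node (nat_lit 5609) (.leaf (nat_lit 2)) (.leaf (nat_lit 1)))))))) (.node (nat_lit 10102) (.node (nat_lit 7230) (.node (nat_lit 6235) (.node (nat_lit 5755) (.node (nat_lit 5667) (.leaf (nat_lit 2)) (.leaf (nat_lit 1))) (.node (nat_lit 5770) (.leaf (nat_lit 2)) (.node (nat_lit 6222) (.leaf (nat_lit 1)) (.leaf (nat_lit 3))))) (.node (nat_lit 6321) (.node (nat_lit 6248) (.leaf (nat_lit 1)) (.node (nat_lit 6263) (.leaf (nat_lit 2)) (.leaf (nat_lit 1)))) (.node (nat_lit 6352) (.leaf (nat_lit 3)) (.node (nat_lit 7165) (.leaf (nat_lit 1)) (.leaf (nat_lit 2)))))) (.node (nat_lit 9470) (.node (nat_lit 8847) (.node (nat_lit 8845) (.leaf (nat_lit 1)) (.leaf (nat_lit 2))) (.node (nat_lit 9252) (.leaf (nat_lit 1)) (.node (nat_lit 9270) (.leaf (nat_lit 2)) (.leaf (nat_lit 1))))) (.node (nat_lit 9919) (.node (nat_lit 9516) (.leaf (nat_lit 2)) (.node (nat_lit 9872) (.leaf (nat_lit 1)) (.leaf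 (nat_lit 2)))) (.node (nat_lit 10060) (.leaf (nat_lit 1)) (.node (nat_lit 10090) (.leaf (nat_lit 2)) (.leaf (nat_lit 1))))))) (.node (nat_lit 11124) (.node (nat_lit 10625) (.node (nat_lit 10594) (.node (nat_lit 10116) (.leaf (nat_lit 2)) (.leaf (nat_lit 1))) (.node (nat_lit 10595) (.leaf (nat_lit 3)) (.node (nat_lit 10607) (.leaf (nat_lit 1)) (.leaf (nat_lit 2))))) (.node (nat_lit 10943) (.node (nat_lit 10644) (.leaf (nat_lit 1)) (.node (nat_lit 10647) (.leaf (nat_lit 2)) (.leaf (nat_lit 1)))) (.node (nat_lit 10953) (.leaf (nat_lit 2)) (.node (nat_lit 11043) (.leaf (nat_lit 1)) (.leaf (nat_lit 2)))))) (.node (nat_lit 12051) (.node (nat_lit 11550) (.node (nat_lit 11549) (.leaf (nat_lit 1)) (.leaf (nat_lit 2))) (.node (nat_lit 11645) (.leaf (nat_lit 1)) (.node (nat_lit 11661) (.leaf (nat_lit 2)) (.leaf (nat_lit 1))))) (.node (nat_lit 12184) (.node (nat_lit 12074) (.leaf (nat_lit 2)) (.node (nat_lit 12171) (.leaf (nat_lit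 1)) (.leaf (nat_lit 2)))) (.node (nat_lit 12687) (.leaf (nat_lit 1)) (.node (nat_lit 12740) (.leaf (nat_lit 2)) (.leaf (nat_lit 1))))))))) (.node (nat_lit 20517) (.node (nat_lit 18054) (.node (nat_lit 16445) (.node (nat_lit 13410) (.node (nat_lit 13281) (.node (nat_lit 12898) (.leaf (nat_lit 2)) (.leaf (nat_lit 1))) (.node (nat_lit 13315) (.leaf (nat_lit 2)) (.node (nat_lit 13394) (.leaf (nat_lit 1)) (.leaf (nat_lit 2))))) (.node (nat_lit 14428) (.node (nat_lit 14160) (.leaf (nat_lit 1)) (.node (nat_lit 14175) (.leaf (nat_lit 2)) (.leaf (nat_lit 1)))) (.node (nat_lit 14467) (.leaf (nat_lit 2)) (.node (nat_lit 16437) (.leaf (nat_lit 1)) (.leaf (nat_lit 2)))))) (.node (nat_lit 17039) (.node (nat_lit 16480) (.node (nat_lit 16452) (.leaf (nat_lit 1)) (.leaf (nat_lit 2))) (.node (nat_lit 16571) (.leaf (nat_lit 1)) (.node (nat_lit 16630) (.leaf (nat_lit 2)) (.leaf (nat_lit 1))))) (.node (nat_lit 17392) (.node (nat_lit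 17072) (.leaf (nat_lit 2)) (.node (nat_lit 17342) (.leaf (nat_lit 1)) (.leaf (nat_lit 2)))) (.node (nat_lit 17917) (.leaf (nat_lit 1)) (.node (nat_lit 17944) (.leaf (nat_lit 2)) (.leaf (nat_lit 1))))))) (.node (nat_lit 19105) (.node (nat_lit 18714) (.node (nat_lit 18518) (.node (nat_lit 18055) (.leaf (nat_lit 2)) (.leaf (nat_lit 1))) (.node (nat_lit 18521) (.leaf (nat_lit 2)) (.node (nat_lit 18655) (.leaf (nat_lit 1)) (.leaf (nat_lit 2))))) (.node (nat_lit 18830) (.node (nat_lit 18775) (.leaf (nat_lit 1)) (.node (nat_lit 18803) (.leaf (nat_lit 2)) (.leaf (nat_lit 1)))) (.node (nat_lit 18873) (.leaf (nat_lit 2)) (.node (nat_lit 19104) (.leaf (nat_lit 1)) (.leaf (nat_lit 2)))))) (.node (nat_lit 20092) (.node (nat_lit 19877) (.node (nat_lit 19720) (.leaf (nat_lit 1)) (.leaf (nat_lit 2))) (.node (nat_lit 19881) (.leaf (nat_lit 1)) (.node (nat_lit 19896) (.leaf (nat_lit 2)) (.leaf (nat_lit 1))))) (.node (nat_lit 20363)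 (.node (nat_lit 20182) (.leaf (nat_lit 2)) (.node (nat_lit 20287) (.leaf (nat_lit 1)) (.leaf (nat_lit 2)))) (.node (nat_lit 20413) (.leaf (nat_lit 1)) (.node (nat_lit 20472) (.leaf (nat_lit 2)) (.leaf (nat_lit 1)))))))) (.node (nat_lit 24978) (.node (nat_lit 23297) (.node (nat_lit 20899) (.node (nat_lit 20601) (.node (nat_lit 20524) (.leaf (nat_lit 3)) (.leaf (nat_lit 2))) (.node (nat_lit 20784) (.leaf (nat_lit 1)) (.node (nat_lit 20821) (.leaf (nat_lit 2)) (.leaf (nat_lit 1))))) (.node (nat_lit 21645) (.node (nat_lit 20913) (.leaf (nat_lit 2)) (.node (nat_lit 21630) (.leaf (nat_lit 1)) (.leaf (nat_lit 2)))) (.node (nat_lit 22902) (.leaf (nat_lit 1)) (.node (nat_lit 22906) (.leaf (nat_lit 2)) (.leaf (nat_lit 1)))))) (.node (nat_lit 24174) (.node (nat_lit 23847) (.node (nat_lit 23301) (.leaf (nat_lit 2)) (.leaf (nat_lit 1))) (.node (nat_lit 23868) (.leaf (nat_lit 2)) (.node (nat_lit 24085) (.leaf (nat_lit 1)) (.leaf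 (nat_lit 2))))) (.node (nat_lit 24843) (.node (nat_lit 24634) (.leaf (nat_lit 1)) (.node (nat_lit 24651) (.leaf (nat_lit 2)) (.leaf (nat_lit 1)))) (.node (nat_lit 24881) (.leaf (nat_lit 2)) (.node (nat_lit 24961) (.leaf (nat_lit 1)) (.leaf (nat_lit 2))))))) (.node (nat_lit 27924) (.node (nat_lit 26867) (.node (nat_lit 25678) (.node (nat_lit 25596) (.leaf (nat_lit 1)) (.leaf (nat_lit 2))) (.node (nat_lit 26302) (.leaf (nat_lit 1)) (.node (nat_lit 26317) (.leaf (nat_lit 2)) (.leaf (nat_lit 1))))) (.node (nat_lit 27075) (.node (nat_lit 26913) (.leaf (nat_lit 2)) (.node (nat_lit 27002) (.leaf (nat_lit 1)) (.leaf (nat_lit 3)))) (.node (nat_lit 27790) (.leaf (nat_lit 1)) (.node (nat_lit 27811) (.leaf (nat_lit 2)) (.leaf (nat_lit 1)))))) (.node (nat_lit 28284) (.node (nat_lit 28106) (.node (nat_lit 27952) (.leaf (nat_lit 2)) (.leaf (nat_lit 1))) (.node (nat_lit 28162) (.leaf (nat_lit 2)) (.node (nat_lit 28249) (.leaf (nat_lit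 1)) (.leaf (nat_lit 2))))) (.node (nat_lit 28528) (.node (nat_lit 28392) (.leaf (nat_lit 1)) (.node (nat_lit 28397) (.leaf (nat_lit 2)) (.leaf (nat_lit 1)))) (.node (nat_lit 28590) (.leaf (nat_lit 2)) (.node (nat_lit 29032) (.leaf (nat_lit 1)) (.leaf (nat_lit 2)))))))))) (.node (nat_lit 42742) (.node (nat_lit 34113) (.node (nat_lit 31155) (.node (nat_lit 30008) (.node (nat_lit 29270) (.node (nat_lit 29179) (.node (nat_lit 29175) (.leaf (nat_lit 1)) (.leaf (nat_lit 2))) (.node (nat_lit 29245) (.leaf (nat_lit 1)) (.node (nat_lit 29248) (.leaf (nat_lit 2)) (.leaf (nat_lit 1))))) (.node (nat_lit 29530) (.node (nat_lit 29342) (.leaf (nat_lit 2)) (.node (nat_lit 29519) (.leaf (nat_lit 1)) (.leaf (nat_lit 2)))) (.node (nat_lit 29880) (.leaf (nat_lit 1)) (.node (nat_lit 29882) (.leaf (nat_lit 2)) (.leaf (nat_lit 1)))))) (.node (nat_lit 30636) (.node (nat_lit 30515) (.node (nat_lit 30170) (.leaf (nat_lit 2)) (.leaf (nat_lit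 1))) (.node (nat_lit 30602) (.leaf (nat_lit 2)) (.node (nat_lit 30627) (.leaf (nat_lit 1)) (.leaf (nat_lit 2))))) (.node (nat_lit 30982) (.node (nat_lit 30924) (.leaf (nat_lit 1)) (.node (nat_lit 30925) (.leaf (nat_lit 2)) (.leaf (nat_lit 1)))) (.node (nat_lit 30986) (.leaf (nat_lit 3)) (.node (nat_lit 31104) (.leaf (nat_lit 1)) (.leaf (nat_lit 2))))))) (.node (nat_lit 31940) (.node (nat_lit 31590) (.node (nat_lit 31401) (.node (nat_lit 31389) (.leaf (nat_lit 1)) (.leaf (nat_lit 2))) (.node (nat_lit 31526) (.leaf (nat_lit 1)) (.node (nat_lit 31585) (.leaf (nat_lit 3)) (.leaf (nat_lit 1))))) (.node (nat_lit 31782) (.node (nat_lit 31602) (.leaf (nat_lit 2)) (.node (nat_lit 31766) (.leaf (nat_lit 1)) (.leaf (nat_lit 2)))) (.node (nat_lit 31845) (.leaf (nat_lit 1)) (.node (nat_lit 31895) (.leaf (nat_lit 3)) (.leaf (nat_lit 2)))))) (.node (nat_lit 32346) (.node (nat_lit 32260) (.node (nat_lit 32252) (.leaf (nat_lit 1))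 (.leaf (nat_lit 2))) (.node (nat_lit 32287) (.leaf (nat_lit 1)) (.node (nat_lit 32297) (.leaf (nat_lit 2)) (.leaf (nat_lit 1))))) (.node (nat_lit 33120) (.node (nat_lit 32401) (.leaf (nat_lit 2)) (.node (nat_lit 33116) (.leaf (nat_lit 1)) (.leaf (nat_lit 2)))) (.node (nat_lit 33234) (.leaf (nat_lit 1)) (.node (nat_lit 33238) (.leaf (nat_lit 3)) (.leaf (nat_lit 1)))))))) (.node (nat_lit 38859) (.node (nat_lit 36898) (.node (nat_lit 34835) (.node (nat_lit 34701) (.node (nat_lit 34141) (.leaf (nat_lit 2)) (.leaf (nat_lit 1))) (.node (nat_lit 34757) (.leaf (nat_lit 2)) (.node (nat_lit 34831) (.leaf (nat_lit 1)) (.leaf (nat_lit 2))))) (.node (nat_lit 36580) (.node (nat_lit 35085) (.leaf (nat_lit 1)) (.node (nat_lit 35105) (.leaf (nat_lit 2)) (.leaf (nat_lit 1)))) (.node (nat_lit 36584) (.leaf (nat_lit 2)) (.node (nat_lit 36834) (.leaf (nat_lit 1)) (.leaf (nat_lit 3)))))) (.node (nat_lit 37417) (.node (nat_lit 37017)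 (.node (nat_lit 37016) (.leaf (nat_lit 1)) (.leaf (nat_lit 3))) (.node (nat_lit 37193) (.leaf (nat_lit 1)) (.node (nat_lit 37215) (.leaf (nat_lit 3)) (.leaf (nat_lit 1))))) (.node (nat_lit 37670) (.node (nat_lit 37461) (.leaf (nat_lit 2)) (.node (nat_lit 37658) (.leaf (nat_lit 1)) (.leaf (nat_lit 2)))) (.node (nat_lit 38116) (.leaf (nat_lit 1)) (.node (nat_lit 38167) (.leaf (nat_lit 2)) (.leaf (nat_lit 1))))))) (.node (nat_lit 40615) (.node (nat_lit 39289) (.node (nat_lit 39085) (.node (nat_lit 38944) (.leaf (nat_lit 2)) (.leaf (nat_lit 1))) (.node (nat_lit 39096) (.leaf (nat_lit 2)) (.node (nat_lit 39281) (.leaf (nat_lit 1)) (.leaf (nat_lit 2))))) (.node (nat_lit 39602) (.node (nat_lit 39447) (.leaf (nat_lit 1)) (.node (nat_lit 39449) (.leaf (nat_lit 2)) (.leaf (nat_lit 1)))) (.node (nat_lit 39758) (.leaf (nat_lit 2)) (.node (nat_lit 40608) (.leaf (nat_lit 1)) (.leaf (nat_lit 2)))))) (.node (nat_lit 41980) (.node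 (nat_lit 41462) (.node (nat_lit 41397) (.leaf (nat_lit 1)) (.leaf (nat_lit 2))) (.node (nat_lit 41542) (.leaf (nat_lit 1)) (.node (nat_lit 41597) (.leaf (nat_lit 2)) (.leaf (nat_lit 1))))) (.node (nat_lit 42356) (.node (nat_lit 42039) (.leaf (nat_lit 2)) (.node (nat_lit 42320) (.leaf (nat_lit 1)) (.leaf (nat_lit 2)))) (.node (nat_lit 42415) (.leaf (nat_lit 1)) (.node (nat_lit 42482) (.leaf (nat_lit 2)) (.leaf (nat_lit 1))))))))) (.node (nat_lit 50438) (.node (nat_lit 47095) (.node (nat_lit 44193) (.node (nat_lit 43205) (.node (nat_lit 42811) (.node (nat_lit 42769) (.leaf (nat_lit 2)) (.leaf (nat_lit 1))) (.node (nat_lit 42817) (.leaf (nat_lit 2)) (.node (nat_lit 43179) (.leaf (nat_lit 1)) (.leaf (nat_lit 2))))) (.node (nat_lit 43640) (.node (nat_lit 43248) (.leaf (nat_lit 1)) (.node (nat_lit 43310) (.leaf (nat_lit 2)) (.leaf (nat_lit 1)))) (.node (nat_lit 43683) (.leaf (nat_lit 2)) (.node (nat_lit 44164) (.leaf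 (nat_lit 1)) (.leaf (nat_lit 2)))))) (.node (nat_lit 45466) (.node (nat_lit 44440) (.node (nat_lit 44351) (.leaf (nat_lit 1)) (.leaf (nat_lit 2))) (.node (nat_lit 44512) (.leaf (nat_lit 1)) (.node (nat_lit 44543) (.leaf (nat_lit 3)) (.leaf (nat_lit 1))))) (.node (nat_lit 46110) (.node (nat_lit 45484) (.leaf (nat_lit 2)) (.node (nat_lit 46100) (.leaf (nat_lit 1)) (.leaf (nat_lit 2)))) (.node (nat_lit 46462) (.leaf (nat_lit 1)) (.node (nat_lit 46527) (.leaf (nat_lit 2)) (.leaf (nat_lit 1))))))) (.node (nat_lit 48732) (.node (nat_lit 47784) (.node (nat_lit 47667) (.node (nat_lit 47139) (.leaf (nat_lit 2)) (.leaf (nat_lit 1))) (.node (nat_lit 47681) (.leaf (nat_lit 3)) (.node (nat_lit 47769) (.leaf (nat_lit 1)) (.leaf (nat_lit 3))))) (.node (nat_lit 48255) (.node (nat_lit 48073) (.leaf (nat_lit 1)) (.node (nat_lit 48082) (.leaf (nat_lit 3)) (.leaf (nat_lit 1)))) (.node (nat_lit 48299) (.leaf (nat_lit 3)) (.node (nat_lit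 48721) (.leaf (nat_lit 1)) (.leaf (nat_lit 2)))))) (.node (nat_lit 49518) (.node (nat_lit 48862) (.node (nat_lit 48844) (.leaf (nat_lit 1)) (.leaf (nat_lit 2))) (.node (nat_lit 49416) (.leaf (nat_lit 1)) (.node (nat_lit 49429) (.leaf (nat_lit 2)) (.leaf (nat_lit 1))))) (.node (nat_lit 50053) (.node (nat_lit 49597) (.leaf (nat_lit 2)) (.node (nat_lit 50004) (.leaf (nat_lit 1)) (.leaf (nat_lit 2)))) (.node (nat_lit 50325) (.leaf (nat_lit 1)) (.node (nat_lit 50339) (.leaf (nat_lit 2)) (.leaf (nat_lit 1)))))))) (.node (nat_lit 54480) (.node (nat_lit 52006) (.node (nat_lit 50950) (.node (nat_lit 50634) (.node (nat_lit 50505) (.leaf (nat_lit 2)) (.leaf (nat_lit 1))) (.node (nat_lit 50657) (.leaf (nat_lit 2)) (.node (nat_lit 50906) (.leaf (nat_lit 1)) (.leaf (nat_lit 2))))) (.node (nat_lit 51763) (.node (nat_lit 51051) (.leaf (nat_lit 1)) (.node (nat_lit 51081) (.leaf (nat_lit 4)) (.leaf (nat_lit 1)))) (.node (nat_lit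 51802) (.leaf (nat_lit 2)) (.node (nat_lit 51957) (.leaf (nat_lit 1)) (.leaf (nat_lit 2)))))) (.node (nat_lit 53573) (.node (nat_lit 52763) (.node (nat_lit 52735) (.leaf (nat_lit 1)) (.leaf (nat_lit 3))) (.node (nat_lit 53429) (.leaf (nat_lit 1)) (.node (nat_lit 53432) (.leaf (nat_lit 4)) (.leaf (nat_lit 1))))) (.node (nat_lit 53807) (.node (nat_lit 53659) (.leaf (nat_lit 2)) (.node (nat_lit 53801) (.leaf (nat_lit 1)) (.leaf (nat_lit 2)))) (.node (nat_lit 54164) (.leaf (nat_lit 1)) (.node (nat_lit 54207) (.leaf (nat_lit 2)) (.leaf (nat_lit 1))))))) (.node (nat_lit 56589) (.node (nat_lit 54994) (.node (nat_lit 54530) (.node (nat_lit 54493) (.leaf (nat_lit 2)) (.leaf (nat_lit 3))) (.node (nat_lit 54792) (.leaf (nat_lit 1)) (.node (nat_lit 54795) (.leaf (nat_lit 2)) (.leaf (nat_lit 1))))) (.node (nat_lit 55563) (.node (nat_lit 55028) (.leaf (nat_lit 2)) (.node (nat_lit 55560) (.leaf (nat_lit 1)) (.leaf (nat_lit 2))))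 (.node (nat_lit 55945) (.leaf (nat_lit 1)) (.node (nat_lit 55956) (.leaf (nat_lit 2)) (.leaf (nat_lit 1)))))) (.node (nat_lit 57694) (.node (nat_lit 56914) (.node (nat_lit 56638) (.leaf (nat_lit 2)) (.node (nat_lit 56877) (.leaf (nat_lit 1)) (.leaf (nat_lit 2)))) (.node (nat_lit 57553) (.leaf (nat_lit 1)) (.node (nat_lit 57654) (.leaf (nat_lit 2)) (.leaf (nat_lit 1))))) (.node (nat_lit 58392) (.node (nat_lit 57834) (.leaf (nat_lit 2)) (.node (nat_lit 58361) (.leaf (nat_lit 1)) (.leaf (nat_lit 2)))) (.node (nat_lit 58945) (.leaf (nat_lit 1)) (.node (nat_lit 58980) (.leaf (nat_lit 2)) (.leaf (nat_lit 1)))))))))))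
noncomputable def sp_soc_F : Fm := (.lt (.pw (.mul (.v (nat_lit 0)) (.v (nat_lit 1))) (nat_lit 2)) (.all sp_L (.or (.qf (.eq (.v (nat_lit 0)) .one)) (.or (.qf (.eq (.v (nat_lit 0)) (.v (nat_lit 1)))) (.exG sp_lQ (fun cs => sp_soc_t1.find (Nat.mod (Nat.add (nth (nat_lit 0) cs (nat_lit 0)) (Nat.mul (nat_lit 7919) (nth (nat_lit 0) cs (nat_lit 1)))) (nat_lit 59654))) (.exG sp_lQ (fun cs => sp_soc_t0.find (Nat.mod (Nat.add (Nat.add (nth (nat_lit 0) cs (nat_lit 0)) (Nat.mul (nat_lit 7919) (nth (nat_lit 0) cs (nat_lit 1)))) (Nat.mul (nat_lit 104729) (nth (nat_lit 0) cs (nat_lit 2)))) (nat_lit 206803))) (.qf (.or (.eq (.mul (.mul (.mul (.v (nat_lit 2)) (.v (nat_lit 1))) (.inv (.v (nat_lit 2)))) (.inv (.v (nat_lit 1)))) (.v (nat_lit 3))) (.eq (.mul (.mul (.mul (.mul (.mul (.mul (.v (nat_lit 2)) (.v (nat_lit 1))) (.inv (.v (nat_lit 2)))) (.inv (.v (nat_lit 1)))) (.v (nat_lit 0))) (.inv (.mul (.mul (.mul (.v (nat_lit 2)) (.v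 (nat_lit 1))) (.inv (.v (nat_lit 2)))) (.inv (.v (nat_lit 1)))))) (.inv (.v (nat_lit 0)))) (.v (nat_lit 3)))))))))))
theorem sp_soc_chk : Fm.chk sp_o sp_soc_F sp_cs = true := by decide +kernel
theorem sp_soc {G : Type*} [Group G] {R : ℕ → G → Prop} {c d e t x X f F : G} {H Q : Subgroup G}
    (M : C8 sp_o sp_cs sp_L sp_lQ R c d e t x X f F H Q) :
    ∀ y ∈ H, y = 1 ∨ y = (c * d) ^ 2 ∨ (∃ q ∈ Q, ∃ u ∈ Q, ⁅y, q⁆ = (c * d) ^ 2 ∨ ⁅⁅y, q⁆, u⁆ = (c * d) ^ 2) :=
  have h : ∀ y, InL sp_o R sp_L y → y = 1 ∨ y = (c * d) ^ 2 ∨ (GoodS R sp_lQ → sp_lQ ≠ [] → ∃ q, InS R sp_lQ q ∧ (GoodS R sp_lQ → sp_lQ ≠ [] → ∃ u, InS R sp_lQ u ∧ (⁅y, q⁆ = (c * d) ^ 2 ∨ ⁅⁅y, q⁆, u⁆ = (c * d) ^ 2))) :=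
    Fm.sound M.μ sp_soc_F sp_soc_chk M.reps
  (fun y h0 => (Or.imp (fun h1 => h1) (fun h1 => (Or.imp (fun h2 => h2) (fun h2 => (Exists.imp (fun q h3 => ⟨M.Q.iff.1 h3.1, (Exists.imp (fun u h4 => ⟨M.Q.iff.1 h4.1, h4.2⟩) (h3.2 M.Q.good M.Q.ne))⟩) (h2 M.Q.good M.Q.ne))) h1)) (h y (M.H.iff.2 h0))))
noncomputable def sp_es1_F : Fm := (.lt (.pw (.mul (.v (nat_lit 0)) (.v (nat_lit 1))) (nat_lit 2)) (.qf (.and (.mem (.v (nat_lit 0)) sp_lQ) (.and (.not (.eq (.v (nat_lit 0)) .one)) (.and (.eq (.mul (.v (nat_lit 0)) (.v (nat_lit 0))) .one) (.and (.not (.eq (.mul (.v (nat_lit 1)) (.v (nat_lit 2))) (.mul (.v (nat_lit 2)) (.v (nat_lit 1))))) (.and (.eq (.pw (.v (nat_lit 5)) (nat_lit 3)) .one) (.and (.eq (.pw (.v (nat_lit 7)) (nat_lit 5)) .one) (.and (.eq (.pw (.mul (.v (nat_lit 5)) (.v (nat_lit 7))) (nat_lit 2)) .one) (.and (.eq (.v (nat_lit 6)) (.inv (.v (nat_lit 5)))) (.eq (.v (nat_lit 8)) (.inv (.v (nat_lit 7))))))))))))))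
theorem sp_es1_chk : Fm.chk sp_o sp_es1_F sp_cs = true := by decide +kernel
theorem sp_es1 {G : Type*} [Group G] {R : ℕ → G → Prop} {c d e t x X f F : G} {H Q : Subgroup G}
    (M : C8 sp_o sp_cs sp_L sp_lQ R c d e t x X f F H Q) :
    (c * d) ^ 2 ∈ Q ∧ (c * d) ^ 2 ≠ 1 ∧ (c * d) ^ 2 * (c * d) ^ 2 = 1 ∧ c * d ≠ d * c ∧ x ^ 3 = 1 ∧ f ^ 5 = 1 ∧ (x * f) ^ 2 = 1 ∧ X = x⁻¹ ∧ F = f⁻¹ :=
  have h : InS R sp_lQ ((c * d) ^ 2) ∧ (c * d) ^ 2 ≠ 1 ∧ (c * d) ^ 2 * (c * d) ^ 2 = 1 ∧ c * d ≠ d * c ∧ x ^ 3 = 1 ∧ f ^ 5 = 1 ∧ (x * f) ^ 2 = 1 ∧ X = x⁻¹ ∧ F = f⁻¹ :=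
    Fm.sound M.μ sp_es1_F sp_es1_chk M.reps
  ((and_congr M.Q.iff Iff.rfl).1 h)
noncomputable def sp_es2_F : Fm := (.lt (.pw (.mul (.v (nat_lit 0)) (.v (nat_lit 1))) (nat_lit 2)) (.allS sp_lQ (.allS sp_lQ (.qf (.or (.eq (.mul (.mul (.mul (.v (nat_lit 1)) (.v (nat_lit 0))) (.inv (.v (nat_lit 1)))) (.inv (.v (nat_lit 0)))) .one) (.eq (.mul (.mul (.mul (.v (nat_lit 1)) (.v (nat_lit 0))) (.inv (.v (nat_lit 1)))) (.inv (.v (nat_lit 0)))) (.v (nat_lit 2))))))))
theorem sp_es2_chk : Fm.chk sp_o sp_es2_F sp_cs = true := by decide +kernel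
theorem sp_es2 {G : Type*} [Group G] {R : ℕ → G → Prop} {c d e t x X f F : G} {H Q : Subgroup G}
    (M : C8 sp_o sp_cs sp_L sp_lQ R c d e t x X f F H Q) :
    ∀ y ∈ Q, ∀ u ∈ Q, ⁅y, u⁆ = 1 ∨ ⁅y, u⁆ = (c * d) ^ 2 :=
  have h : ∀ y, InS R sp_lQ y → ∀ u, InS R sp_lQ u → ⁅y, u⁆ = 1 ∨ ⁅y, u⁆ = (c * d) ^ 2 :=
    Fm.sound M.μ sp_es2_F sp_es2_chk M.reps
  (fun y h0 => (fun u h1 => ((h y (M.Q.iff.2 h0)) u (M.Q.iff.2 h1))))
noncomputable def sp_es3_F : Fm := (.lt (.pw (.mul (.v (nat_lit 0)) (.v (nat_lit 1))) (nat_lit 2)) (.allS sp_lQ (.and (.qf (.or (.eq (.mul (.v (nat_lit 0)) (.v (nat_lit 0))) .one) (.eq (.mul (.v (nat_lit 0)) (.v (nat_lit 0))) (.v (nat_lit 1))))) (.and (.qf (.eq (.mul (.v (nat_lit 0)) (.v (nat_lit 1))) (.mul (.v (nat_lit 1)) (.v (nat_lit 0))))) (.and (.qf (.mem (.mul (.mul (.v (nat_lit 6)) (.v (nat_lit 0))) (.inv (.v (nat_lit 6)))) sp_lQ)) (.and (.qf (.mem (.mul (.mul (.v (nat_lit 8)) (.v (nat_lit 0)))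 (.inv (.v (nat_lit 8)))) sp_lQ)) (.imp (.eq (.mul (.v (nat_lit 0)) (.v (nat_lit 2))) (.mul (.v (nat_lit 2)) (.v (nat_lit 0)))) (.imp (.eq (.mul (.v (nat_lit 0)) (.v (nat_lit 3))) (.mul (.v (nat_lit 3)) (.v (nat_lit 0)))) (.imp (.eq (.mul (.v (nat_lit 0)) (.v (nat_lit 4))) (.mul (.v (nat_lit 4)) (.v (nat_lit 0)))) (.imp (.eq (.mul (.v (nat_lit 0)) (.v (nat_lit 5))) (.mul (.v (nat_lit 5)) (.v (nat_lit 0)))) (.qf (.or (.eq (.v (nat_lit 0)) .one) (.eq (.v (nat_lit 0)) (.v (nat_lit 1)))))))))))))))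
theorem sp_es3_chk : Fm.chk sp_o sp_es3_F sp_cs = true := by decide +kernel
theorem sp_es3 {G : Type*} [Group G] {R : ℕ → G → Prop} {c d e t x X f F : G} {H Q : Subgroup G}
    (M : C8 sp_o sp_cs sp_L sp_lQ R c d e t x X f F H Q) :
    ∀ y ∈ Q, (y * y = 1 ∨ y * y = (c * d) ^ 2) ∧ y * (c * d) ^ 2 = (c * d) ^ 2 * y ∧ x * y * x⁻¹ ∈ Q ∧ f * y * f⁻¹ ∈ Q ∧ (y * c = c * y → y * d = d * y → y * e = e * y → y * t = t * y → y = 1 ∨ y = (c * d) ^ 2) :=
  have h : ∀ y, InS R sp_lQ y → (y * y = 1 ∨ y * y = (c * d) ^ 2) ∧ y * (c * d) ^ 2 = (c * d) ^ 2 * y ∧ InS R sp_lQ (x * y * x⁻¹) ∧ InS R sp_lQ (f * y * f⁻¹) ∧ (y * c = c * y → y * d = d * y → y * e = e * y → y * t = t * y → y = 1 ∨ y = (c * d) ^ 2) :=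
    Fm.sound M.μ sp_es3_F sp_es3_chk M.reps
  (fun y h0 => (And.imp (fun h1 => h1) (fun h1 => (And.imp (fun h2 => h2) (fun h2 => (And.imp (fun h3 => (M.Q.iff.1 h3)) (fun h3 => (And.imp (fun h4 => (M.Q.iff.1 h4)) (fun h4 => h4) h3)) h2)) h1)) (h y (M.Q.iff.2 h0))))
noncomputable def sp_es4_F : Fm := (.lt (.pw (.mul (.v (nat_lit 0)) (.v (nat_lit 1))) (nat_lit 2)) (.allS sp_lQ (.imp (.eq (.mul (.v (nat_lit 0)) (.v (nat_lit 0))) .one) (.allS sp_lQ (.imp (.eq (.mul (.v (nat_lit 0)) (.v (nat_lit 0))) .one) (.imp (.eq (.mul (.v (nat_lit 1)) (.v (nat_lit 0))) (.mul (.v (nat_lit 0)) (.v (nat_lit 1)))) (.qf (.or (.eq (.v (nat_lit 1)) .one) (.or (.eq (.v (nat_lit 1)) (.v (nat_lit 2))) (.or (.eq (.v (nat_lit 0)) .one) (.or (.eq (.v (nat_lit 0)) (.v (nat_lit 2))) (.or (.eq (.v (nat_lit 0)) (.v (nat_lit 1))) (.eq (.v (nat_lit 0)) (.mul (.v (nat_lit 2)) (.v (nat_lit 1))))))))))))))))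
theorem sp_es4_chk : Fm.chk sp_o sp_es4_F sp_cs = true := by decide +kernel
theorem sp_es4 {G : Type*} [Group G] {R : ℕ → G → Prop} {c d e t x X f F : G} {H Q : Subgroup G}
    (M : C8 sp_o sp_cs sp_L sp_lQ R c d e t x X f F H Q) :
    ∀ a ∈ Q, a * a = 1 → (∀ b ∈ Q, b * b = 1 → a * b = b * a → a = 1 ∨ a = (c * d) ^ 2 ∨ b = 1 ∨ b = (c * d) ^ 2 ∨ b = a ∨ b = (c * d) ^ 2 * a) :=
  have h : ∀ a, InS R sp_lQ a → a * a = 1 → (∀ b, InS R sp_lQ b → b * b = 1 → a * b = b * a → a = 1 ∨ a = (c * d) ^ 2 ∨ b = 1 ∨ b = (c * d) ^ 2 ∨ b = a ∨ b = (c * d) ^ 2 * a) :=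
    Fm.sound M.μ sp_es4_F sp_es4_chk M.reps
  (fun a h0 => (fun h1 => (fun b h2 => (((h a (M.Q.iff.2 h0)) h1) b (M.Q.iff.2 h2)))))
noncomputable def sp_cs2 : List ℕ := [(nat_lit 0x80643254d7c274b675df04453a16c74655be37cf), (nat_lit 0xfb579f7358b9471b52507f769731483d66131040), (nat_lit 0xfedda6e798bccd22c6907afcaea58838ec2a8480), (nat_lit 0xc693be79bf3d6d41c65042b2b63bafb94c498440), (nat_lit 0xfb5cc3d6d45e7581c6507f7dcb94c4da54898440), (nat_lit 0x3daa4988307fbacda938b98b41ca20fb9bc5eb28), (nat_lit 0x7b9ac5a928398a418820ffbbcdeb38bdab49ca30), (nat_lit 0x984405e758b94c4fb5cc1c650da5483d6d47f7dc)]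
noncomputable def sp_lB : List ℕ := [(nat_lit 0xffbbcdeb38bdab49ca307b9ac5a928398a418820), (nat_lit 0xfb579f7358b9471b52507f769731483d66131040), (nat_lit 0xfedda6e798bccd22c6907afcaea58838ec2a8480), (nat_lit 0xe37cfc274ba16c780643675df4655b254d704453), (nat_lit 0x56f0977f8d14e0135e85d2d19f3d9d90c11b1c95), (nat_lit 0xb1c9514e01f3d9d56f0935e8590c1177f8dd2d19), (nat_lit 0x675df4655b254d704453e37cfc274ba16c780643), (nat_lit 0xce16aef1ee8c062ad0e64a37a6b3fe08272292f6), (nat_lit 0x292f68c0626b3fece16aad0e608272ef1ee4a37a), (nat_lit 0xd2d19f3d9d90c11b1c9556f0977f8d14e0135e85), (nat_lit 0x4a37a6b3fe08272292f6ce16aef1ee8c062ad0e6), (nat_lit 0x9ca30398a4deb387b9ac18820bdab45a928ffbbc), (nat_lit 0x35e8590c1177f8dd2d19b1c9514e01f3d9d56f09), (nat_lit 0xad0e608272ef1ee4a37a292f68c0626b3fece16a), (nat_lit 0x18820bdab45a928ffbbc9ca30398a4deb387b9ac), (nat_lit 0xcedafc2b8e8cca780a864afbf4699e08eb704896), (nat_lit 0xd7b6fc333d95a67812355397f4712d1187705025),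 (nat_lit 0x67b0aeff3b25a02ade33e391a6bd2ba181229c23), (nat_lit 0x4b70c5ff5e096041de56cf51cdbd4e8d41499c46), (nat_lit 0x29c2325a026bd2b67b0aade33a1812eff3be391a), (nat_lit 0x99c4609604dbd4e4b70c1de568d4145ff5ecf51c), (nat_lit 0x4afbf4699e08eb704896cedafc2b8e8cca780a86), (nat_lit 0x5397f4712d1187705025d7b6fc333d95a6781235), (nat_lit 0xd61cc5e5fd940c41c4f5523dcda7ed102d4986e5), (nat_lit 0xe63a9769eba42a1348e3621b9f2bfb200b1b0af3), (nat_lit 0x986e5940c4da7edd61cc1c4f5102d45e5fd523dc), (nat_lit 0xb0af3a42a1f2bfbe63a9348e3200b1769eb621b9), (nat_lit 0xe391a6bd2ba181229c2367b0aeff3b25a02ade33), (nat_lit 0xcf51cdbd4e8d41499c464b70c5ff5e096041de56), (nat_lit 0x523dcda7ed102d4986e5d61cc5e5fd940c41c4f5), (nat_lit 0x621b9f2bfb200b1b0af3e63a9769eba42a1348e3), (nat_lit 0xb52503d661f73587f76931040b947173148fb579), (nat_lit 0x2c69038ec26e7987afcaa8480bccd2ea588fedda), (nat_lit 0xade33a1812eff3be391a29c2325a026bd2b67b0a), (nat_lit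 0x1de568d4145ff5ecf51c99c4609604dbd4e4b70c), (nat_lit 0x1c4f5102d45e5fd523dc986e5940c4da7edd61cc), (nat_lit 0x348e3200b1769eb621b9b0af3a42a1f2bfbe63a9), (nat_lit 0x31040b947173148fb579b52503d661f73587f769), (nat_lit 0xa8480bccd2ea588fedda2c69038ec26e7987afca), (nat_lit 0x80643254d7c274b675df04453a16c74655be37cf), (nat_lit 0x7b9ac5a928398a418820ffbbcdeb38bdab49ca30), (nat_lit 0x4453a16c74655be37cf80643254d7c274b675df), (nat_lit 0x80a8608eb7c2b8e4afbf048968cca74699ecedaf), (nat_lit 0x8123511877c333d5397f0502595a674712dd7b6f), (nat_lit 0xff96a39a72ef338ad2307bb7abd8626b12829020), (nat_lit 0xfeef3f28d2ea4b1e62907ace376ac26e6a162080), (nat_lit 0xffaf66b2b45aa72ce2307b8e6ef0a4de8624a020), (nat_lit 0x7f769731483d66131040fb579f7358b9471b5250), (nat_lit 0x7afcaea58838ec2a8480fedda6e798bccd22c690), (nat_lit 0x48968cca74699ecedaf80a8608eb7c2b8e4afbf), (nat_lit 0x502595a674712dd7b6f8123511877c333d5397f), (nat_lit 0xf9dc6dcd52ed5944c7107dfd658f4269784c8500),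 (nat_lit 0xf9fb5f599458d3154b107dda571b84dcf21d0900), (nat_lit 0xfb5cc3d6d45e7581c6507f7dcb94c4da54898440), (nat_lit 0x806854659d90cd7d2ddf04495c278d14ec756fcf), (nat_lit 0xfefa938cb176b9834a907adb9bcea1f2988b0880), (nat_lit 0x8130c0973d9594e1dd7f0511c8d52d11b5e99f6f), (nat_lit 0x8070914f4ba159d35ddf0451990d5b2578db1fcf), (nat_lit 0xfb6e5da471732d4d62507f4f55e661f70c452040), (nat_lit 0x56fcf90cd7c278d80685d2ddf14ec74659d04495), (nat_lit 0x99f6f9594e8d52d8130c1dd7f11b5e0973d0511c), (nat_lit 0xb1fcfa159d90d5b8070935ddf2578d14f4b04519), (nat_lit 0xb1e4377d5b256016770935c53f3f4ba1411e3519), (nat_lit 0xd7a565fe6747204cf63553846dbc77c30144b425), (nat_lit 0xe368577ec746601d2e4367495f3cd7c241156c53), (nat_lit 0xe351925601f3f4bb1e4367709a141177d5b35c53), (nat_lit 0x4b42547204dbc77d7a56cf635c30145fe6753846), (nat_lit 0x56c5346601f3cd7e3685d2e43c241177ec767495), (nat_lit 0xd2ddf14ec74659d0449556fcf90cd7c278d80685), (nat_lit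 0x1dd7f11b5e0973d0511c99f6f9594e8d52d8130c), (nat_lit 0x35ddf2578d14f4b04519b1fcfa159d90d5b80709), (nat_lit 0x9caf65a9ee8c0a4ce1ac188e6debfe082b44a3bc), (nat_lit 0x349dabcdeba41882c5b9b0bca38ffb20398a87a9), (nat_lit 0xad3bcbd9ee8c1289cb7a291ac39bfe083381896a), (nat_lit 0x4a3bc8c0a4debfe9caf6ce1ac082b45a9ee188e6), (nat_lit 0xa87a9a418838ffb349da2c5b920398bcdebb0bca), (nat_lit 0x1896a8c12839bfead3bc9cb7a08338bd9ee291ac), (nat_lit 0x35c53f3f4ba1411e3519b1e4377d5b2560167709), (nat_lit 0x53846dbc77c30144b425d7a565fe6747204cf635), (nat_lit 0x67495f3cd7c241156c53e368577ec746601d2e43), (nat_lit 0x188e6debfe082b44a3bc9caf65a9ee8c0a4ce1ac), (nat_lit 0xb0bca38ffb20398a87a9349dabcdeba41882c5b9), (nat_lit 0x291ac39bfe083381896aad3bcbd9ee8c1289cb7a), (nat_lit 0xad2306b12839a727bb7a29020ef338bd862ff96a), (nat_lit 0xe62906e6a1f28d27ace362080ea4b176ac2feef3), (nat_lit 0xce230de8626b2b47b8e64a0205aa72ef0a4ffaf6), (nat_lit 0x67709a141177d5b35c53e351925601f3f4bb1e43),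 (nat_lit 0xcf635c30145fe67538464b42547204dbc77d7a56), (nat_lit 0xd2e43c241177ec76749556c5346601f3cd7e3685), (nat_lit 0xce1ac082b45a9ee188e64a3bc8c0a4debfe9caf6), (nat_lit 0x2c5b920398bcdebb0bcaa87a9a418838ffb349da), (nat_lit 0x9cb7a08338bd9ee291ac1896a8c12839bfead3bc), (nat_lit 0x29020ef338bd862ff96aad2306b12839a727bb7a), (nat_lit 0x62080ea4b176ac2feef3e62906e6a1f28d27ace3), (nat_lit 0x4a0205aa72ef0a4ffaf6ce230de8626b2b47b8e6), (nat_lit 0x82239230bd96a6bb3aff06029a72ad1287b378ef), (nat_lit 0x8225a0a66ba72ce2f6ff0604a8e47b230deab4ef), (nat_lit 0xf9d636953171952653107df73ed721f5b42e1100), (nat_lit 0x80a334692ba1ab7e3bbf04823c2b3b258a7679af), (nat_lit 0x812564714e8d477cf57f05046c335e096674b76f), (nat_lit 0x80b0a25b8e8cd2badfbf0491aa199e08f3b29daf), (nat_lit 0x378ef96a6ba72ad82239b3aff1287b230bd06029), (nat_lit 0xab4efa72ce8e47b8225a2f6ff230de0a66b0604a), (nat_lit 0x679afa1ab7c2b3b80a33e3bbf258a74692b04823), (nat_lit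 0x4b76f8d477c335e81256cf57f096674714e05046), (nat_lit 0x29daf8cd2ba199e80b0aadfbf08f3b25b8e0491a), (nat_lit 0x1ee5abfcde0a6082f69c9ac4a3bece8e418ab48c), (nat_lit 0x37a9cbfead12a089ae39b388c3bcbd968181ec29), (nat_lit 0x29e86efd9e08e024af0aadc966bf8e8cc12ced1a), (nat_lit 0x99e355fd2d11a0453b0c1dc25dbf3d95814d791c), (nat_lit 0xcee33efca746a02e3a864ac236beb7c281267896), (nat_lit 0xab48c0a6083bece1ee5a2f69c8e418bfcde9ac4a), (nat_lit 0x1ec2912a083bcbd37a9c9ae3996818bfeadb388c), (nat_lit 0xced1a08e026bf8e29e864af0a8cc12efd9eadc96), (nat_lit 0xd791c11a04dbf3d99e3553b0c958145fd2d1dc25), (nat_lit 0x6789646a026beb7cee33e3a86c2812efca74ac23), (nat_lit 0x4495c278d14ec756fcf806854659d90cd7d2ddf), (nat_lit 0x511c8d52d11b5e99f6f8130c0973d9594e1dd7f), (nat_lit 0x451990d5b2578db1fcf8070914f4ba159d35ddf), (nat_lit 0xb3aff1287b230bd06029378ef96a6ba72ad82239), (nat_lit 0x2f6ff230de0a66b0604aab4efa72ce8e47b8225a), (nat_lit 0xe3bbf258a74692b04823679afa1ab7c2b3b80a33),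 (nat_lit 0xcf57f096674714e050464b76f8d477c335e81256), (nat_lit 0xadfbf08f3b25b8e0491a29daf8cd2ba199e80b0a), (nat_lit 0x54963719f7c4321651a5d0b73f5be740131e13b5), (nat_lit 0x651c6ed5f7c43424c773e13d6697e740152c8563), (nat_lit 0xb52e5731fd94261d6369310f5f73ed1007152179), (nat_lit 0x2c6f3ea5eba42c2e63caa84e36e7fb200d2621da), (nat_lit 0x1c579b95fd94148b53dc987693d7ed10358311cc), (nat_lit 0xe13b5c4321f5be754963651a540131719f7d0b73), (nat_lit 0xc8563c4342697e7651c64c77340152ed5f7e13d6), (nat_lit 0x5217994261f73edb52e5d636910071731fd310f5), (nat_lit 0x621daa42c26e7fb2c6f3e63ca200d2ea5eba84e3), (nat_lit 0x311cc941483d7ed1c579b53dc10358b95fd98769), (nat_lit 0x9ac4a3bece8e418ab48c1ee5abfcde0a6082f69c), (nat_lit 0xb388c3bcbd968181ec2937a9cbfead12a089ae39), (nat_lit 0xadc966bf8e8cc12ced1a29e86efd9e08e024af0a), (nat_lit 0x1dc25dbf3d95814d791c99e355fd2d11a0453b0c), (nat_lit 0x4ac236beb7c281267896cee33efca746a02e3a86), (nat_lit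 0xd0b73f5be740131e13b554963719f7c4321651a5), (nat_lit 0xe13d6697e740152c8563651c6ed5f7c43424c773), (nat_lit 0x310f5f73ed1007152179b52e5731fd94261d6369), (nat_lit 0xa84e36e7fb200d2621da2c6f3ea5eba42c2e63ca), (nat_lit 0x987693d7ed10358311cc1c579b95fd94148b53dc), (nat_lit 0x4c71069784dcd527dfd6c8500ed59458f42f9dc6), (nat_lit 0x54b10dcf21f59947dda5d090058d3171b84f9fb5), (nat_lit 0x1c650da5483d6d47f7dc984405e758b94c4fb5cc), (nat_lit 0x34a90f298838cb17adb9b088076b98bcea1fefa9), (nat_lit 0xd6250f70c4da4717f4f552040732d45e661fb6e5), (nat_lit 0x2f69c8e418bfcde9ac4aab48c0a6083bece1ee5a), (nat_lit 0x9ae3996818bfeadb388c1ec2912a083bcbd37a9c), (nat_lit 0x4af0a8cc12efd9eadc96ced1a08e026bf8e29e86), (nat_lit 0x53b0c958145fd2d1dc25d791c11a04dbf3d99e35), (nat_lit 0xe3a86c2812efca74ac236789646a026beb7cee33), (nat_lit 0x651a540131719f7d0b73e13b5c4321f5be754963), (nat_lit 0x4c77340152ed5f7e13d6c8563c4342697e7651c6), (nat_lit 0xd636910071731fd310f55217994261f73edb52e5),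 (nat_lit 0xe63ca200d2ea5eba84e3621daa42c26e7fb2c6f3), (nat_lit 0xb53dc10358b95fd98769311cc941483d7ed1c579), (nat_lit 0xc8500ed59458f42f9dc64c71069784dcd527dfd6), (nat_lit 0xd090058d3171b84f9fb554b10dcf21f59947dda5), (nat_lit 0x984405e758b94c4fb5cc1c650da5483d6d47f7dc), (nat_lit 0xb088076b98bcea1fefa934a90f298838cb17adb9), (nat_lit 0x52040732d45e661fb6e5d6250f70c4da4717f4f5), (nat_lit 0x8229c12ace8e4bd9aeff0608c968de0a6ad1ecef), (nat_lit 0x7bb7abd8626b12829020ff96a39a72ef338ad230), (nat_lit 0x7ace376ac26e6a162080feef3f28d2ea4b1e6290), (nat_lit 0x7b8e6ef0a4de8624a020ffaf66b2b45aa72ce230), (nat_lit 0x1ecef8e4bd968de8229c9aeff0a6ad12ace0608c), (nat_lit 0xab639bfc7b23208b3a5a2f4293be6ba70183784a), (nat_lit 0x3784a232083be6bab639b3a5aa7018bfc7b2f429), (nat_lit 0x6029a72ad1287b378ef82239230bd96a6bb3aff), (nat_lit 0x604a8e47b230deab4ef8225a0a66ba72ce2f6ff), (nat_lit 0x4823c2b3b258a7679af80a334692ba1ab7e3bbf), (nat_lit 0x5046c335e096674b76f812564714e8d477cf57f),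 (nat_lit 0x491aa199e08f3b29daf80b0a25b8e8cd2badfbf), (nat_lit 0x9aeff0a6ad12ace0608c1ecef8e4bd968de8229c), (nat_lit 0x4c7b558df7c438454bd6c85a5dcfe740194d09c6), (nat_lit 0xd09c6c4384dcfe74c7b554bd64019458df7c85a5), (nat_lit 0x2f4293be6ba70183784aab639bfc7b23208b3a5a), (nat_lit 0xc85a5dcfe740194d09c64c7b558df7c438454bd6), (nat_lit 0x65310f5b42695317df73e110071952ed721f9d63), (nat_lit 0xb3a5aa7018bfc7b2f4293784a232083be6bab639), (nat_lit 0x54bd64019458df7c85a5d09c6c4384dcfe74c7b5), (nat_lit 0xe110071952ed721f9d6365310f5b42695317df73), (nat_lit 0x7dfd658f4269784c8500f9dc6dcd52ed5944c710), (nat_lit 0x7dda571b84dcf21d0900f9fb5f599458d3154b10), (nat_lit 0x7f7dcb94c4da54898440fb5cc3d6d45e7581c650), (nat_lit 0x7adb9bcea1f2988b0880fefa938cb176b9834a90), (nat_lit 0x7f4f55e661f70c452040fb6e5da471732d4d6250), (nat_lit 0x608c968de0a6ad1ecef8229c12ace8e4bd9aeff), (nat_lit 0x7df73ed721f5b42e1100f9d63695317195265310)]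
noncomputable def sp_lB_W : List (List ℕ) := [[],
  [(nat_lit 4)],
  [(nat_lit 5)],
  [(nat_lit 0), (nat_lit 1)],
  [(nat_lit 0), (nat_lit 2)],
  [(nat_lit 0), (nat_lit 3)],
  [(nat_lit 1), (nat_lit 0)],
  [(nat_lit 1), (nat_lit 2)],
  [(nat_lit 1), (nat_lit 3)],
  [(nat_lit 2), (nat_lit 0)],
  [(nat_lit 2), (nat_lit 1)],
  [(nat_lit 2), (nat_lit 3)],
  [(nat_lit 3), (nat_lit 0)],
  [(nat_lit 3), (nat_lit 1)],
  [(nat_lit 3), (nat_lit 2)],
  [(nat_lit 0), (nat_lit 1), (nat_lit 4)],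
  [(nat_lit 0), (nat_lit 1), (nat_lit 5)],
  [(nat_lit 0), (nat_lit 2), (nat_lit 4)],
  [(nat_lit 0), (nat_lit 2), (nat_lit 5)],
  [(nat_lit 0), (nat_lit 3), (nat_lit 4)],
  [(nat_lit 0), (nat_lit 3), (nat_lit 5)],
  [(nat_lit 1), (nat_lit 0), (nat_lit 4)],
  [(nat_lit 1), (nat_lit 0), (nat_lit 5)],
  [(nat_lit 1), (nat_lit 2), (nat_lit 4)],
  [(nat_lit 1), (nat_lit 2), (nat_lit 5)],
  [(nat_lit 1), (nat_lit 3), (nat_lit 4)],
  [(nat_lit 1), (nat_lit 3), (nat_lit 5)],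
  [(nat_lit 2), (nat_lit 0), (nat_lit 4)],
  [(nat_lit 2), (nat_lit 0), (nat_lit 5)],
  [(nat_lit 2), (nat_lit 1), (nat_lit 4)],
  [(nat_lit 2), (nat_lit 1), (nat_lit 5)],
  [(nat_lit 2), (nat_lit 3), (nat_lit 4)],
  [(nat_lit 2), (nat_lit 3), (nat_lit 5)],
  [(nat_lit 3), (nat_lit 0), (nat_lit 4)],
  [(nat_lit 3), (nat_lit 0), (nat_lit 5)],
  [(nat_lit 3), (nat_lit 1), (nat_lit 4)],
  [(nat_lit 3), (nat_lit 1), (nat_lit 5)],
  [(nat_lit 3), (nat_lit 2), (nat_lit 4)],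
  [(nat_lit 3), (nat_lit 2), (nat_lit 5)],
  [(nat_lit 6), (nat_lit 1), (nat_lit 7)],
  [(nat_lit 0), (nat_lit 1), (nat_lit 0), (nat_lit 1)],
  [(nat_lit 0), (nat_lit 1), (nat_lit 3), (nat_lit 2)],
  [(nat_lit 4), (nat_lit 6), (nat_lit 1), (nat_lit 7)],
  [(nat_lit 5), (nat_lit 6), (nat_lit 1), (nat_lit 7)],
  [(nat_lit 6), (nat_lit 5), (nat_lit 6), (nat_lit 6)],
  [(nat_lit 7), (nat_lit 4), (nat_lit 6), (nat_lit 6)],
  [(nat_lit 7), (nat_lit 7), (nat_lit 4), (nat_lit 7)],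
  [(nat_lit 0), (nat_lit 1), (nat_lit 0), (nat_lit 1), (nat_lit 4)],
  [(nat_lit 0), (nat_lit 1), (nat_lit 0), (nat_lit 1), (nat_lit 5)],
  [(nat_lit 0), (nat_lit 1), (nat_lit 3), (nat_lit 2), (nat_lit 4)],
  [(nat_lit 0), (nat_lit 1), (nat_lit 3), (nat_lit 2), (nat_lit 5)],
  [(nat_lit 4), (nat_lit 7), (nat_lit 4), (nat_lit 6), (nat_lit 6)],
  [(nat_lit 4), (nat_lit 7), (nat_lit 7), (nat_lit 4), (nat_lit 7)],
  [(nat_lit 5), (nat_lit 7), (nat_lit 7), (nat_lit 4), (nat_lit 7)],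
  [(nat_lit 6), (nat_lit 1), (nat_lit 5), (nat_lit 6), (nat_lit 6)],
  [(nat_lit 6), (nat_lit 5), (nat_lit 6), (nat_lit 6), (nat_lit 5)],
  [(nat_lit 7), (nat_lit 2), (nat_lit 4), (nat_lit 6), (nat_lit 6)],
  [(nat_lit 7), (nat_lit 2), (nat_lit 7), (nat_lit 4), (nat_lit 7)],
  [(nat_lit 7), (nat_lit 4), (nat_lit 6), (nat_lit 6), (nat_lit 5)],
  [(nat_lit 0), (nat_lit 1), (nat_lit 6), (nat_lit 5), (nat_lit 6), (nat_lit 6)],
  [(nat_lit 0), (nat_lit 1), (nat_lit 7), (nat_lit 4), (nat_lit 6), (nat_lit 6)],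
  [(nat_lit 0), (nat_lit 1), (nat_lit 7), (nat_lit 7), (nat_lit 4), (nat_lit 7)],
  [(nat_lit 0), (nat_lit 2), (nat_lit 6), (nat_lit 5), (nat_lit 6), (nat_lit 6)],
  [(nat_lit 0), (nat_lit 2), (nat_lit 7), (nat_lit 4), (nat_lit 6), (nat_lit 6)],
  [(nat_lit 0), (nat_lit 2), (nat_lit 7), (nat_lit 7), (nat_lit 4), (nat_lit 7)],
  [(nat_lit 0), (nat_lit 3), (nat_lit 6), (nat_lit 5), (nat_lit 6), (nat_lit 6)],
  [(nat_lit 0), (nat_lit 3), (nat_lit 7), (nat_lit 4), (nat_lit 6), (nat_lit 6)],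
  [(nat_lit 0), (nat_lit 3), (nat_lit 7), (nat_lit 7), (nat_lit 4), (nat_lit 7)],
  [(nat_lit 1), (nat_lit 0), (nat_lit 6), (nat_lit 5), (nat_lit 6), (nat_lit 6)],
  [(nat_lit 1), (nat_lit 0), (nat_lit 7), (nat_lit 4), (nat_lit 6), (nat_lit 6)],
  [(nat_lit 1), (nat_lit 0), (nat_lit 7), (nat_lit 7), (nat_lit 4), (nat_lit 7)],
  [(nat_lit 1), (nat_lit 2), (nat_lit 6), (nat_lit 5), (nat_lit 6), (nat_lit 6)],
  [(nat_lit 1), (nat_lit 2), (nat_lit 7), (nat_lit 4), (nat_lit 6), (nat_lit 6)],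
  [(nat_lit 1), (nat_lit 2), (nat_lit 7), (nat_lit 7), (nat_lit 4), (nat_lit 7)],
  [(nat_lit 1), (nat_lit 3), (nat_lit 6), (nat_lit 5), (nat_lit 6), (nat_lit 6)],
  [(nat_lit 1), (nat_lit 3), (nat_lit 7), (nat_lit 4), (nat_lit 6), (nat_lit 6)],
  [(nat_lit 1), (nat_lit 3), (nat_lit 7), (nat_lit 7), (nat_lit 4), (nat_lit 7)],
  [(nat_lit 2), (nat_lit 0), (nat_lit 6), (nat_lit 5), (nat_lit 6), (nat_lit 6)],
  [(nat_lit 2), (nat_lit 0), (nat_lit 7), (nat_lit 4), (nat_lit 6), (nat_lit 6)],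
  [(nat_lit 2), (nat_lit 0), (nat_lit 7), (nat_lit 7), (nat_lit 4), (nat_lit 7)],
  [(nat_lit 2), (nat_lit 1), (nat_lit 6), (nat_lit 5), (nat_lit 6), (nat_lit 6)],
  [(nat_lit 2), (nat_lit 1), (nat_lit 7), (nat_lit 4), (nat_lit 6), (nat_lit 6)],
  [(nat_lit 2), (nat_lit 1), (nat_lit 7), (nat_lit 7), (nat_lit 4), (nat_lit 7)],
  [(nat_lit 2), (nat_lit 3), (nat_lit 6), (nat_lit 5), (nat_lit 6), (nat_lit 6)],
  [(nat_lit 2), (nat_lit 3), (nat_lit 7), (nat_lit 4), (nat_lit 6), (nat_lit 6)],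
  [(nat_lit 2), (nat_lit 3), (nat_lit 7), (nat_lit 7), (nat_lit 4), (nat_lit 7)],
  [(nat_lit 3), (nat_lit 0), (nat_lit 6), (nat_lit 5), (nat_lit 6), (nat_lit 6)],
  [(nat_lit 3), (nat_lit 0), (nat_lit 7), (nat_lit 4), (nat_lit 6), (nat_lit 6)],
  [(nat_lit 3), (nat_lit 0), (nat_lit 7), (nat_lit 7), (nat_lit 4), (nat_lit 7)],
  [(nat_lit 3), (nat_lit 1), (nat_lit 6), (nat_lit 5), (nat_lit 6), (nat_lit 6)],
  [(nat_lit 3), (nat_lit 1), (nat_lit 7), (nat_lit 4), (nat_lit 6), (nat_lit 6)],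
  [(nat_lit 3), (nat_lit 1), (nat_lit 7), (nat_lit 7), (nat_lit 4), (nat_lit 7)],
  [(nat_lit 3), (nat_lit 2), (nat_lit 6), (nat_lit 5), (nat_lit 6), (nat_lit 6)],
  [(nat_lit 3), (nat_lit 2), (nat_lit 7), (nat_lit 4), (nat_lit 6), (nat_lit 6)],
  [(nat_lit 3), (nat_lit 2), (nat_lit 7), (nat_lit 7), (nat_lit 4), (nat_lit 7)],
  [(nat_lit 4), (nat_lit 7), (nat_lit 2), (nat_lit 4), (nat_lit 6), (nat_lit 6)],
  [(nat_lit 4), (nat_lit 7), (nat_lit 2), (nat_lit 7), (nat_lit 4), (nat_lit 7)],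
  [(nat_lit 4), (nat_lit 7), (nat_lit 4), (nat_lit 6), (nat_lit 6), (nat_lit 5)],
  [(nat_lit 5), (nat_lit 7), (nat_lit 2), (nat_lit 7), (nat_lit 4), (nat_lit 7)],
  [(nat_lit 6), (nat_lit 1), (nat_lit 5), (nat_lit 6), (nat_lit 6), (nat_lit 5)],
  [(nat_lit 7), (nat_lit 2), (nat_lit 4), (nat_lit 6), (nat_lit 6), (nat_lit 5)],
  [(nat_lit 0), (nat_lit 1), (nat_lit 4), (nat_lit 7), (nat_lit 4), (nat_lit 6), (nat_lit 6)],
  [(nat_lit 0), (nat_lit 1), (nat_lit 4), (nat_lit 7), (nat_lit 7), (nat_lit 4), (nat_lit 7)],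
  [(nat_lit 0), (nat_lit 1), (nat_lit 5), (nat_lit 7), (nat_lit 7), (nat_lit 4), (nat_lit 7)],
  [(nat_lit 0), (nat_lit 1), (nat_lit 6), (nat_lit 5), (nat_lit 6), (nat_lit 6), (nat_lit 5)],
  [(nat_lit 0), (nat_lit 1), (nat_lit 7), (nat_lit 4), (nat_lit 6), (nat_lit 6), (nat_lit 5)],
  [(nat_lit 0), (nat_lit 2), (nat_lit 4), (nat_lit 7), (nat_lit 4), (nat_lit 6), (nat_lit 6)],
  [(nat_lit 0), (nat_lit 2), (nat_lit 4), (nat_lit 7), (nat_lit 7), (nat_lit 4), (nat_lit 7)],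
  [(nat_lit 0), (nat_lit 2), (nat_lit 5), (nat_lit 7), (nat_lit 7), (nat_lit 4), (nat_lit 7)],
  [(nat_lit 0), (nat_lit 2), (nat_lit 6), (nat_lit 5), (nat_lit 6), (nat_lit 6), (nat_lit 5)],
  [(nat_lit 0), (nat_lit 2), (nat_lit 7), (nat_lit 4), (nat_lit 6), (nat_lit 6), (nat_lit 5)],
  [(nat_lit 0), (nat_lit 3), (nat_lit 4), (nat_lit 7), (nat_lit 4), (nat_lit 6), (nat_lit 6)],
  [(nat_lit 0), (nat_lit 3), (nat_lit 4), (nat_lit 7), (nat_lit 7), (nat_lit 4), (nat_lit 7)],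
  [(nat_lit 0), (nat_lit 3), (nat_lit 5), (nat_lit 7), (nat_lit 7), (nat_lit 4), (nat_lit 7)],
  [(nat_lit 0), (nat_lit 3), (nat_lit 6), (nat_lit 5), (nat_lit 6), (nat_lit 6), (nat_lit 5)],
  [(nat_lit 0), (nat_lit 3), (nat_lit 7), (nat_lit 4), (nat_lit 6), (nat_lit 6), (nat_lit 5)],
  [(nat_lit 0), (nat_lit 6), (nat_lit 1), (nat_lit 2), (nat_lit 5), (nat_lit 6), (nat_lit 6)],
  [(nat_lit 0), (nat_lit 7), (nat_lit 2), (nat_lit 3), (nat_lit 4), (nat_lit 6), (nat_lit 6)],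
  [(nat_lit 0), (nat_lit 7), (nat_lit 2), (nat_lit 3), (nat_lit 7), (nat_lit 4), (nat_lit 7)],
  [(nat_lit 1), (nat_lit 0), (nat_lit 4), (nat_lit 7), (nat_lit 4), (nat_lit 6), (nat_lit 6)],
  [(nat_lit 1), (nat_lit 0), (nat_lit 4), (nat_lit 7), (nat_lit 7), (nat_lit 4), (nat_lit 7)],
  [(nat_lit 1), (nat_lit 0), (nat_lit 5), (nat_lit 7), (nat_lit 7), (nat_lit 4), (nat_lit 7)],
  [(nat_lit 1), (nat_lit 0), (nat_lit 6), (nat_lit 5), (nat_lit 6), (nat_lit 6), (nat_lit 5)],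
  [(nat_lit 1), (nat_lit 0), (nat_lit 7), (nat_lit 4), (nat_lit 6), (nat_lit 6), (nat_lit 5)],
  [(nat_lit 1), (nat_lit 2), (nat_lit 4), (nat_lit 7), (nat_lit 4), (nat_lit 6), (nat_lit 6)],
  [(nat_lit 1), (nat_lit 2), (nat_lit 4), (nat_lit 7), (nat_lit 7), (nat_lit 4), (nat_lit 7)],
  [(nat_lit 1), (nat_lit 2), (nat_lit 5), (nat_lit 7), (nat_lit 7), (nat_lit 4), (nat_lit 7)],
  [(nat_lit 1), (nat_lit 2), (nat_lit 6), (nat_lit 5), (nat_lit 6), (nat_lit 6), (nat_lit 5)],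
  [(nat_lit 1), (nat_lit 2), (nat_lit 7), (nat_lit 4), (nat_lit 6), (nat_lit 6), (nat_lit 5)],
  [(nat_lit 1), (nat_lit 3), (nat_lit 4), (nat_lit 7), (nat_lit 4), (nat_lit 6), (nat_lit 6)],
  [(nat_lit 1), (nat_lit 3), (nat_lit 4), (nat_lit 7), (nat_lit 7), (nat_lit 4), (nat_lit 7)],
  [(nat_lit 1), (nat_lit 3), (nat_lit 5), (nat_lit 7), (nat_lit 7), (nat_lit 4), (nat_lit 7)],
  [(nat_lit 1), (nat_lit 3), (nat_lit 6), (nat_lit 5), (nat_lit 6), (nat_lit 6), (nat_lit 5)],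
  [(nat_lit 1), (nat_lit 3), (nat_lit 7), (nat_lit 4), (nat_lit 6), (nat_lit 6), (nat_lit 5)],
  [(nat_lit 2), (nat_lit 0), (nat_lit 4), (nat_lit 7), (nat_lit 4), (nat_lit 6), (nat_lit 6)],
  [(nat_lit 2), (nat_lit 0), (nat_lit 4), (nat_lit 7), (nat_lit 7), (nat_lit 4), (nat_lit 7)],
  [(nat_lit 2), (nat_lit 0), (nat_lit 5), (nat_lit 7), (nat_lit 7), (nat_lit 4), (nat_lit 7)],
  [(nat_lit 2), (nat_lit 0), (nat_lit 6), (nat_lit 5), (nat_lit 6), (nat_lit 6), (nat_lit 5)],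
  [(nat_lit 2), (nat_lit 0), (nat_lit 7), (nat_lit 4), (nat_lit 6), (nat_lit 6), (nat_lit 5)],
  [(nat_lit 2), (nat_lit 1), (nat_lit 4), (nat_lit 7), (nat_lit 4), (nat_lit 6), (nat_lit 6)],
  [(nat_lit 2), (nat_lit 1), (nat_lit 4), (nat_lit 7), (nat_lit 7), (nat_lit 4), (nat_lit 7)],
  [(nat_lit 2), (nat_lit 1), (nat_lit 5), (nat_lit 7), (nat_lit 7), (nat_lit 4), (nat_lit 7)],
  [(nat_lit 2), (nat_lit 1), (nat_lit 6), (nat_lit 5), (nat_lit 6), (nat_lit 6), (nat_lit 5)],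
  [(nat_lit 2), (nat_lit 1), (nat_lit 7), (nat_lit 4), (nat_lit 6), (nat_lit 6), (nat_lit 5)],
  [(nat_lit 2), (nat_lit 3), (nat_lit 4), (nat_lit 7), (nat_lit 4), (nat_lit 6), (nat_lit 6)],
  [(nat_lit 2), (nat_lit 3), (nat_lit 4), (nat_lit 7), (nat_lit 7), (nat_lit 4), (nat_lit 7)],
  [(nat_lit 2), (nat_lit 3), (nat_lit 5), (nat_lit 7), (nat_lit 7), (nat_lit 4), (nat_lit 7)],
  [(nat_lit 2), (nat_lit 3), (nat_lit 6), (nat_lit 5), (nat_lit 6), (nat_lit 6), (nat_lit 5)],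
  [(nat_lit 2), (nat_lit 3), (nat_lit 7), (nat_lit 4), (nat_lit 6), (nat_lit 6), (nat_lit 5)],
  [(nat_lit 3), (nat_lit 0), (nat_lit 4), (nat_lit 7), (nat_lit 4), (nat_lit 6), (nat_lit 6)],
  [(nat_lit 3), (nat_lit 0), (nat_lit 4), (nat_lit 7), (nat_lit 7), (nat_lit 4), (nat_lit 7)],
  [(nat_lit 3), (nat_lit 0), (nat_lit 5), (nat_lit 7), (nat_lit 7), (nat_lit 4), (nat_lit 7)],
  [(nat_lit 3), (nat_lit 0), (nat_lit 6), (nat_lit 5), (nat_lit 6), (nat_lit 6), (nat_lit 5)],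
  [(nat_lit 3), (nat_lit 0), (nat_lit 7), (nat_lit 4), (nat_lit 6), (nat_lit 6), (nat_lit 5)],
  [(nat_lit 3), (nat_lit 1), (nat_lit 4), (nat_lit 7), (nat_lit 4), (nat_lit 6), (nat_lit 6)],
  [(nat_lit 3), (nat_lit 1), (nat_lit 4), (nat_lit 7), (nat_lit 7), (nat_lit 4), (nat_lit 7)],
  [(nat_lit 3), (nat_lit 1), (nat_lit 5), (nat_lit 7), (nat_lit 7), (nat_lit 4), (nat_lit 7)],
  [(nat_lit 3), (nat_lit 1), (nat_lit 6), (nat_lit 5), (nat_lit 6), (nat_lit 6), (nat_lit 5)],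
  [(nat_lit 3), (nat_lit 1), (nat_lit 7), (nat_lit 4), (nat_lit 6), (nat_lit 6), (nat_lit 5)],
  [(nat_lit 3), (nat_lit 2), (nat_lit 4), (nat_lit 7), (nat_lit 4), (nat_lit 6), (nat_lit 6)],
  [(nat_lit 3), (nat_lit 2), (nat_lit 4), (nat_lit 7), (nat_lit 7), (nat_lit 4), (nat_lit 7)],
  [(nat_lit 3), (nat_lit 2), (nat_lit 5), (nat_lit 7), (nat_lit 7), (nat_lit 4), (nat_lit 7)],
  [(nat_lit 3), (nat_lit 2), (nat_lit 6), (nat_lit 5), (nat_lit 6), (nat_lit 6), (nat_lit 5)],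
  [(nat_lit 3), (nat_lit 2), (nat_lit 7), (nat_lit 4), (nat_lit 6), (nat_lit 6), (nat_lit 5)],
  [(nat_lit 4), (nat_lit 7), (nat_lit 2), (nat_lit 4), (nat_lit 6), (nat_lit 6), (nat_lit 5)],
  [(nat_lit 0), (nat_lit 1), (nat_lit 0), (nat_lit 1), (nat_lit 6), (nat_lit 5), (nat_lit 6), (nat_lit 6)],
  [(nat_lit 0), (nat_lit 1), (nat_lit 0), (nat_lit 1), (nat_lit 7), (nat_lit 4), (nat_lit 6), (nat_lit 6)],
  [(nat_lit 0), (nat_lit 1), (nat_lit 0), (nat_lit 1), (nat_lit 7), (nat_lit 7), (nat_lit 4), (nat_lit 7)],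
  [(nat_lit 0), (nat_lit 1), (nat_lit 4), (nat_lit 7), (nat_lit 4), (nat_lit 6), (nat_lit 6), (nat_lit 5)],
  [(nat_lit 0), (nat_lit 2), (nat_lit 4), (nat_lit 7), (nat_lit 4), (nat_lit 6), (nat_lit 6), (nat_lit 5)],
  [(nat_lit 0), (nat_lit 3), (nat_lit 4), (nat_lit 7), (nat_lit 4), (nat_lit 6), (nat_lit 6), (nat_lit 5)],
  [(nat_lit 0), (nat_lit 4), (nat_lit 7), (nat_lit 2), (nat_lit 4), (nat_lit 6), (nat_lit 1), (nat_lit 6)],
  [(nat_lit 0), (nat_lit 4), (nat_lit 7), (nat_lit 2), (nat_lit 7), (nat_lit 2), (nat_lit 4), (nat_lit 7)],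
  [(nat_lit 0), (nat_lit 5), (nat_lit 7), (nat_lit 2), (nat_lit 0), (nat_lit 7), (nat_lit 4), (nat_lit 7)],
  [(nat_lit 0), (nat_lit 6), (nat_lit 1), (nat_lit 2), (nat_lit 5), (nat_lit 6), (nat_lit 6), (nat_lit 5)],
  [(nat_lit 0), (nat_lit 7), (nat_lit 2), (nat_lit 3), (nat_lit 4), (nat_lit 6), (nat_lit 6), (nat_lit 5)],
  [(nat_lit 1), (nat_lit 0), (nat_lit 4), (nat_lit 7), (nat_lit 4), (nat_lit 6), (nat_lit 6), (nat_lit 5)],
  [(nat_lit 1), (nat_lit 2), (nat_lit 4), (nat_lit 7), (nat_lit 4), (nat_lit 6), (nat_lit 6), (nat_lit 5)],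
  [(nat_lit 1), (nat_lit 3), (nat_lit 4), (nat_lit 7), (nat_lit 4), (nat_lit 6), (nat_lit 6), (nat_lit 5)],
  [(nat_lit 2), (nat_lit 0), (nat_lit 4), (nat_lit 7), (nat_lit 4), (nat_lit 6), (nat_lit 6), (nat_lit 5)],
  [(nat_lit 2), (nat_lit 1), (nat_lit 4), (nat_lit 7), (nat_lit 4), (nat_lit 6), (nat_lit 6), (nat_lit 5)],
  [(nat_lit 2), (nat_lit 3), (nat_lit 4), (nat_lit 7), (nat_lit 4), (nat_lit 6), (nat_lit 6), (nat_lit 5)],
  [(nat_lit 3), (nat_lit 0), (nat_lit 4), (nat_lit 7), (nat_lit 4), (nat_lit 6), (nat_lit 6), (nat_lit 5)],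
  [(nat_lit 3), (nat_lit 1), (nat_lit 4), (nat_lit 7), (nat_lit 4), (nat_lit 6), (nat_lit 6), (nat_lit 5)],
  [(nat_lit 3), (nat_lit 2), (nat_lit 4), (nat_lit 7), (nat_lit 4), (nat_lit 6), (nat_lit 6), (nat_lit 5)],
  [(nat_lit 0), (nat_lit 1), (nat_lit 0), (nat_lit 1), (nat_lit 4), (nat_lit 7), (nat_lit 4), (nat_lit 6), (nat_lit 6)],
  [(nat_lit 0), (nat_lit 1), (nat_lit 0), (nat_lit 1), (nat_lit 4), (nat_lit 7), (nat_lit 7), (nat_lit 4), (nat_lit 7)],
  [(nat_lit 0), (nat_lit 1), (nat_lit 0), (nat_lit 1), (nat_lit 5), (nat_lit 7), (nat_lit 7), (nat_lit 4), (nat_lit 7)],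
  [(nat_lit 0), (nat_lit 1), (nat_lit 0), (nat_lit 1), (nat_lit 6), (nat_lit 5), (nat_lit 6), (nat_lit 6), (nat_lit 5)],
  [(nat_lit 0), (nat_lit 1), (nat_lit 0), (nat_lit 1), (nat_lit 7), (nat_lit 4), (nat_lit 6), (nat_lit 6), (nat_lit 5)],
  [(nat_lit 0), (nat_lit 4), (nat_lit 7), (nat_lit 2), (nat_lit 4), (nat_lit 6), (nat_lit 1), (nat_lit 6), (nat_lit 5)],
  [(nat_lit 0), (nat_lit 1), (nat_lit 0), (nat_lit 1), (nat_lit 4), (nat_lit 7), (nat_lit 4), (nat_lit 6), (nat_lit 6), (nat_lit 5)]]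
noncomputable def sp_B1_F : Fm := (.lt (.mul (.mul (.mul (.v (nat_lit 0)) (.v (nat_lit 1))) (.v (nat_lit 2))) (.v (nat_lit 3))) (.allS sp_lB (.qf (.eq (.mul (.v (nat_lit 0)) (.v (nat_lit 1))) (.mul (.v (nat_lit 1)) (.v (nat_lit 0)))))))
theorem sp_B1_chk : Fm.chk sp_o sp_B1_F sp_cs = true := by decide +kernel
theorem sp_B1 {G : Type*} [Group G] {R : ℕ → G → Prop} {c d e t x X f F : G} {H Q : Subgroup G}
    (M : C8 sp_o sp_cs sp_L sp_lQ R c d e t x X f F H Q) :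
    ∀ y, InS R sp_lB y → y * (c * d * e * t) = c * d * e * t * y :=
  have h : ∀ y, InS R sp_lB y → y * (c * d * e * t) = c * d * e * t * y :=
    Fm.sound M.μ sp_B1_F sp_B1_chk M.reps
  (fun y h0 => (h y h0))
noncomputable def sp_B2_F : Fm := (.lt (.mul (.mul (.mul (.v (nat_lit 0)) (.v (nat_lit 1))) (.v (nat_lit 2))) (.v (nat_lit 3))) (.all sp_L (.imp (.eq (.mul (.v (nat_lit 0)) (.v (nat_lit 1))) (.mul (.v (nat_lit 1)) (.v (nat_lit 0)))) (.qf (.mem (.v (nat_lit 0)) sp_lB)))))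
theorem sp_B2_chk : Fm.chk sp_o sp_B2_F sp_cs = true := by decide +kernel
theorem sp_B2 {G : Type*} [Group G] {R : ℕ → G → Prop} {c d e t x X f F : G} {H Q : Subgroup G}
    (M : C8 sp_o sp_cs sp_L sp_lQ R c d e t x X f F H Q) :
    ∀ y ∈ H, y * (c * d * e * t) = c * d * e * t * y → InS R sp_lB (y) :=
  have h : ∀ y, InL sp_o R sp_L y → y * (c * d * e * t) = c * d * e * t * y → InS R sp_lB (y) :=
    Fm.sound M.μ sp_B2_F sp_B2_chk M.reps
  (fun y h0 => (fun h1 => (Iff.rfl.1 ((h y (M.H.iff.2 h0)) h1))))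
theorem sp_jh {G : Type*} [Group G] {R : ℕ → G → Prop} {c d e t x f : G} {H Q : Subgroup G}
    (M : C8 sp_o sp_cs sp_L sp_lQ R c d e t x x⁻¹ f f⁻¹ H Q) :
    ∃ s r a b, JH sp_o sp_cs2 sp_L sp_lQ sp_lB R s x r a t ((c * d) ^ 2) b H Q (H ⊓ C[s]) :=
  ⟨(c * d * e * t), (f * f * x⁻¹ * f * f * x⁻¹ * f), (f⁻¹ * x * f⁻¹ * f⁻¹ * x⁻¹), ((t * (f⁻¹ * x * f⁻¹ * f⁻¹ * x⁻¹) * t)), M.μ, M.reps.tms M.μ.1 [(.mul (.mul (.mul (.v (nat_lit 0)) (.v (nat_lit 1))) (.v (nat_lit 2))) (.v (nat_lit 3))), (.v (nat_lit 4)), (.inv (.v (nat_lit 4))), (.mul (.mul (.mul (.mul (.mul (.mul (.v (nat_lit 6)) (.v (nat_lit 6))) (.v (nat_lit 5))) (.v (nat_lit 6))) (.v (nat_lit 6))) (.v (nat_lit 5))) (.v (nat_lit 6))), (.mul (.mul (.mul (.mul (.v (nat_lit 7)) (.v (nat_lit 4))) (.v (nat_lit 7))) (.v (nat_lit 7))) (.v (nat_lit 5))), (.v (nat_lit 3)), (.pw (.mul (.v (nat_lit 0)) (.v (nat_lit 1))) (nat_lit 2)), (.mul (.mul (.v (nat_lit 3)) (.mul (.mul (.mul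 (.mul (.v (nat_lit 7)) (.v (nat_lit 4))) (.v (nat_lit 7))) (.v (nat_lit 7))) (.v (nat_lit 5)))) (.v (nat_lit 3)))] (by decide +kernel),
    tms_mem M.le [(.mul (.mul (.mul (.v (nat_lit 0)) (.v (nat_lit 1))) (.v (nat_lit 2))) (.v (nat_lit 3))), (.v (nat_lit 4)), (.inv (.v (nat_lit 4))), (.mul (.mul (.mul (.mul (.mul (.mul (.v (nat_lit 6)) (.v (nat_lit 6))) (.v (nat_lit 5))) (.v (nat_lit 6))) (.v (nat_lit 6))) (.v (nat_lit 5))) (.v (nat_lit 6))), (.mul (.mul (.mul (.mul (.v (nat_lit 7)) (.v (nat_lit 4))) (.v (nat_lit 7))) (.v (nat_lit 7))) (.v (nat_lit 5))), (.v (nat_lit 3)), (.pw (.mul (.v (nat_lit 0)) (.v (nat_lit 1))) (nat_lit 2)), (.mul (.mul (.v (nat_lit 3)) (.mul (.mul (.mul (.mul (.v (nat_lit 7)) (.v (nat_lit 4))) (.v (nat_lit 7))) (.v (nat_lit 7))) (.v (nat_lit 5)))) (.v (nat_lit 3)))], M.H, M.Q, EnumS.inf_cent M.μ.1 (fun c hc =>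
      (wordsChk_sound M.μ.1 M.reps (K := 8) (Ws := sp_lB_W) (by decide +kernel) c hc).imp
        fun _ h => ⟨gen_nthG_le M.le h.1, h.2⟩) (sp_B1 M) (sp_B2 M)⟩

end H0.J
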