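import Cfsg.Agent.H16.Slp

/-! Generated by tools/h16 (computation kit). -/

set_option maxRecDepth 100000
set_option maxHeartbeats 0

namespace H0.J.U33
open H16

noncomputable def Rl : List (List ℕ) := [[nat_lit 0, nat_lit 1],
  [nat_lit 1, nat_lit 0],
  [nat_lit 2, nat_lit 2],
  [nat_lit 3, nat_lit 3],
  [nat_lit 0, nat_lit 0, nat_lit 0, nat_lit 0, nat_lit 0, nat_lit 0, nat_lit 0, nat_lit 0],
  [nat_lit 0, nat_lit 0, nat_lit 2, nat_lit 0, nat_lit 2, nat_lit 1, nat_lit 2, nat_lit 1, nat_lit 1, nat_lit 2],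
  [nat_lit 0, nat_lit 0, nat_lit 0, nat_lit 2, nat_lit 1, nat_lit 1, nat_lit 2, nat_lit 0, nat_lit 2, nat_lit 0, nat_lit 2, nat_lit 0, nat_lit 2],
  [nat_lit 0, nat_lit 3, nat_lit 0, nat_lit 3, nat_lit 0, nat_lit 3],
  [nat_lit 2, nat_lit 3, nat_lit 2, nat_lit 3, nat_lit 2, nat_lit 3],
  [nat_lit 0, nat_lit 3, nat_lit 2, nat_lit 0, nat_lit 3, nat_lit 2, nat_lit 0, nat_lit 3, nat_lit 2],
  [nat_lit 0, nat_lit 0, nat_lit 0, nat_lit 0, nat_lit 3, nat_lit 2, nat_lit 1, nat_lit 3, nat_lit 0, nat_lit 2, nat_lit 3]]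
noncomputable def Pd : List ℕ := [nat_lit 0xc24ba55d93a9a0f7589b8ae879351910c20,
  nat_lit 0x6609bb3a69a1d7183cd555f4544b2d10c20,
  nat_lit 0x84ad7c6633a6abb0956c6a8463a1c3225e0,
  nat_lit 0xdb7350ab05225e088f4c15a4741a9372ef0]
noncomputable def P (k u : ℕ) : ℕ := Nat.land (Nat.shiftRight (nth (nat_lit 0) Pd k) (Nat.mul u (nat_lit 5))) (nat_lit 31)
noncomputable def T0d : List ℕ := [nat_lit 0x1e89885af07d0f2c6d8c366e883517b9ecfa4715abae4c4eaab8e66c2f09b8705c0b00,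
  nat_lit 0xbd45b2cc7a3c1f9bb1d7ba4d69b718aba8b7c5b4b9688b9312c3e46b8b0ac1ee1c0f00,
  nat_lit 0xeef3bc415bb5720e2ebc6956c66e793e69c5ee5c528aa3ae3c42e2c32e1c2306c1300,
  nat_lit 0xd6197e8784caec16e1494117b9e3392ee6b97168becab22a9c470ec36c4a8ac3b8301]
noncomputable def T0 (k u : ℕ) : ℕ := Nat.land (Nat.shiftRight (nth (nat_lit 0) T0d k) (Nat.mul u (nat_lit 10))) (nat_lit 1023)
noncomputable def I0d : List ℕ := [nat_lit 0x37a0921060420b41301208110115,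
  nat_lit 0x10003000110011012,
  nat_lit 0x2000025010104010126010101113,
  nat_lit 0x604203280005001097011120301]
noncomputable def I0 (k u : ℕ) : ℕ := Nat.land (Nat.shiftRight (nth (nat_lit 0) I0d k) (Nat.mul u (nat_lit 4))) (nat_lit 15)
noncomputable def D0d : ℕ := nat_lit 0xa93a3416ccd82e4884f9e3a6cb96284480e1a284060a10180
noncomputable def D0 (u : ℕ) : ℕ := Nat.land (Nat.shiftRight D0d (Nat.mul u (nat_lit 7))) (nat_lit 127)
noncomputable def RL0 : List (List Rule) := [[.rel (nat_lit 0) (nat_lit 0) [nat_lit 1], .defn, .rel (nat_lit 14) (nat_lit 0) [nat_lit 3, nat_lit 0, nat_lit 3, nat_lit 0, nat_lit 3], .rel (nat_lit 8) (nat_lit 7) [nat_lit 0, nat_lit 0, nat_lit 0, nat_lit 0, nat_lit 0, nat_lit 0, nat_lit 0], .rel (nat_lit 14) (nat_lit 4) [nat_lit 3, nat_lit 0, nat_lit 3, nat_lit 0, nat_lit 3], .sub (nat_lit 0) [] [], .rel (nat_lit 8) (nat_lit 6) [nat_lit 0, nat_lit 0, nat_lit 0, nat_lit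 0, nat_lit 0, nat_lit 0, nat_lit 0], .rel (nat_lit 10) (nat_lit 0) [nat_lit 0, nat_lit 2, nat_lit 0, nat_lit 2, nat_lit 1, nat_lit 2, nat_lit 1, nat_lit 1, nat_lit 2], .rel (nat_lit 10) (nat_lit 3) [nat_lit 2, nat_lit 1, nat_lit 2, nat_lit 1, nat_lit 1, nat_lit 2, nat_lit 0, nat_lit 0, nat_lit 2], .rel (nat_lit 18) (nat_lit 0) [nat_lit 3, nat_lit 2, nat_lit 0, nat_lit 3, nat_lit 2, nat_lit 0, nat_lit 3, nat_lit 2], .rel (nat_lit 18) (nat_lit 6) [nat_lit 3, nat_lit 2, nat_lit 0, nat_lit 3, nat_lit 2, nat_lit 0, nat_lit 3, nat_lit 2], .rel (nat_lit 20) (nat_lit 0) [nat_lit 0, nat_lit 0, nat_lit 0, nat_lit 3, nat_lit 2, nat_lit 1, nat_lit 3, nat_lit 0, nat_lit 2, nat_lit 3]],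
  [.rel (nat_lit 2) (nat_lit 0) [nat_lit 0], .defn, .sub (nat_lit 2) [] [], .rel (nat_lit 10) (nat_lit 7) [nat_lit 1, nat_lit 2, nat_lit 0, nat_lit 0, nat_lit 2, nat_lit 0, nat_lit 2, nat_lit 1, nat_lit 2]],
  [.rel (nat_lit 4) (nat_lit 0) [nat_lit 2], .defn, .rel (nat_lit 18) (nat_lit 2) [nat_lit 0, nat_lit 3, nat_lit 2, nat_lit 0, nat_lit 3, nat_lit 2, nat_lit 0, nat_lit 3], .sub (nat_lit 4) [] [], .rel (nat_lit 10) (nat_lit 4) [nat_lit 1, nat_lit 2, nat_lit 1, nat_lit 1, nat_lit 2, nat_lit 0, nat_lit 0, nat_lit 2, nat_lit 0], .rel (nat_lit 10) (nat_lit 9) [nat_lit 0, nat_lit 0, nat_lit 2, nat_lit 0, nat_lit 2, nat_lit 1, nat_lit 2, nat_lit 1, nat_lit 1], .rel (nat_lit 16) (nat_lit 2) [nat_lit 3, nat_lit 2, nat_lit 3, nat_lit 2, nat_lit 3]],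
  [.rel (nat_lit 6) (nat_lit 0) [nat_lit 3], .defn, .rel (nat_lit 16) (nat_lit 5) [nat_lit 2, nat_lit 3, nat_lit 2, nat_lit 3, nat_lit 2], .rel (nat_lit 14) (nat_lit 5) [nat_lit 0, nat_lit 3, nat_lit 0, nat_lit 3, nat_lit 0], .rel (nat_lit 14) (nat_lit 1) [nat_lit 0, nat_lit 3, nat_lit 0, nat_lit 3, nat_lit 0], .rel (nat_lit 14) (nat_lit 3) [nat_lit 0, nat_lit 3, nat_lit 0, nat_lit 3, nat_lit 0], .rel (nat_lit 16) (nat_lit 3) [nat_lit 2, nat_lit 3, nat_lit 2, nat_lit 3, nat_lit 2], .rel (nat_lit 18) (nat_lit 1) [nat_lit 2, nat_lit 0, nat_lit 3, nat_lit 2, nat_lit 0, nat_lit 3, nat_lit 2, nat_lit 0], .rel (nat_lit 18) (nat_lit 4) [nat_lit 2, nat_lit 0, nat_lit 3, nat_lit 2, nat_lit 0, nat_lit 3, nat_lit 2, nat_lit 0], .rel (nat_lit 20) (nat_lit 7) [nat_lit 0, nat_lit 2, nat_lit 3, nat_lit 0, nat_lit 0, nat_lit 0, nat_lit 0, nat_lit 3, nat_lit 2, nat_lit 1]]]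
noncomputable def c0 : TCert := ⟨28, 4, 31, T0, I0, D0, [[nat_lit 0],
  [nat_lit 1],
  [nat_lit 2]], RL0⟩
noncomputable def Pt0d : ℕ := nat_lit 0x3c92625119d4c4d55c65b3315585db8be00
noncomputable def Pt0 (u : ℕ) : ℕ := Nat.land (Nat.shiftRight Pt0d (Nat.mul u (nat_lit 5))) (nat_lit 31)
noncomputable def Q0d : ℕ := nat_lit 0x24e8972d16968611160a3bf35de1976c4c0
noncomputable def Q0 (u : ℕ) : ℕ := Nat.land (Nat.shiftRight Q0d (Nat.mul u (nat_lit 5))) (nat_lit 31)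
noncomputable def l0 : Lev := ⟨28, 4, D0, Pt0, Q0⟩
noncomputable def T1d : List ℕ := [nat_lit 0x4dab194596eb738c684cf6f89b5e1f6b6ec36c6cbafd6e0f55a8c0e9345a0,
  nat_lit 0x65b2b39c8c6b1bb88925f14b3c45330fb4a7e176184d76ae9382d360747a0,
  nat_lit 0xe434f43ae40af18c5e2863b6a7cba1186d9ecb08edc1eb305a9d3e9701a1]
noncomputable def T1 (k u : ℕ) : ℕ := Nat.land (Nat.shiftRight (nth (nat_lit 0) T1d k) (Nat.mul u (nat_lit 9))) (nat_lit 511)
noncomputable def I1d : List ℕ := [nat_lit 0x861700123015102103001001004,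
  nat_lit 0x100000001001011001012,
  nat_lit 0x200300300514240110001011101]
noncomputable def I1 (k u : ℕ) : ℕ := Nat.land (Nat.shiftRight (nth (nat_lit 0) I1d k) (Nat.mul u (nat_lit 4))) (nat_lit 15)
noncomputable def D1d : ℕ := nat_lit 0x109fbd66c93a54680f1c3058a94263c70c1628406080c100
noncomputable def D1 (u : ℕ) : ℕ := Nat.land (Nat.shiftRight D1d (Nat.mul u (nat_lit 7))) (nat_lit 127)
noncomputable def RL1 : List (List Rule) := [[.defn, .rel (nat_lit 0) (nat_lit 0) [nat_lit 1], .rel (nat_lit 10) (nat_lit 0) [nat_lit 0, nat_lit 2, nat_lit 0, nat_lit 2, nat_lit 1, nat_lit 2, nat_lit 1, nat_lit 1, nat_lit 2], .rel (nat_lit 10) (nat_lit 3) [nat_lit 2, nat_lit 1, nat_lit 2, nat_lit 1, nat_lit 1, nat_lit 2, nat_lit 0, nat_lit 0, nat_lit 2], .sub (nat_lit 0) [] [], .rel (nat_lit 8) (nat_lit 0) [nat_lit 0, nat_lit 0, nat_lit 0, nat_lit 0, nat_lit 0, nat_lit 0, nat_lit 0], .rel (nat_lit 8)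 (nat_lit 5) [nat_lit 0, nat_lit 0, nat_lit 0, nat_lit 0, nat_lit 0, nat_lit 0, nat_lit 0], .rel (nat_lit 8) (nat_lit 6) [nat_lit 0, nat_lit 0, nat_lit 0, nat_lit 0, nat_lit 0, nat_lit 0, nat_lit 0], .rel (nat_lit 10) (nat_lit 1) [nat_lit 2, nat_lit 0, nat_lit 2, nat_lit 1, nat_lit 2, nat_lit 1, nat_lit 1, nat_lit 2, nat_lit 0]],
  [.rel (nat_lit 2) (nat_lit 0) [nat_lit 0], .defn, .sub (nat_lit 2) [] []],
  [.rel (nat_lit 4) (nat_lit 0) [nat_lit 2], .defn, .rel (nat_lit 10) (nat_lit 4) [nat_lit 1, nat_lit 2, nat_lit 1, nat_lit 1, nat_lit 2, nat_lit 0, nat_lit 0, nat_lit 2, nat_lit 0], .rel (nat_lit 10) (nat_lit 9) [nat_lit 0, nat_lit 0, nat_lit 2, nat_lit 0, nat_lit 2, nat_lit 1, nat_lit 2, nat_lit 1, nat_lit 1], .rel (nat_lit 12) (nat_lit 3) [nat_lit 1, nat_lit 1, nat_lit 2, nat_lit 0, nat_lit 2, nat_lit 0, nat_lit 2, nat_lit 0, nat_lit 2, nat_lit 0, nat_lit 0, nat_lit 0], .rel (nat_lit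 10) (nat_lit 6) [nat_lit 1, nat_lit 1, nat_lit 2, nat_lit 0, nat_lit 0, nat_lit 2, nat_lit 0, nat_lit 2, nat_lit 1]]]
noncomputable def c1 : TCert := ⟨27, 3, 31, T1, I1, D1, [[nat_lit 0],
  [nat_lit 1]], RL1⟩
noncomputable def Pt1d : ℕ := nat_lit 0x93490f53698e4533155a337dc4b6839e1
noncomputable def Pt1 (u : ℕ) : ℕ := Nat.land (Nat.shiftRight Pt1d (Nat.mul u (nat_lit 5))) (nat_lit 31)
noncomputable def Q1d : ℕ := nat_lit 0x3d52d41198a5cc308a6e5bf2a8c8b0b6800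
noncomputable def Q1 (u : ℕ) : ℕ := Nat.land (Nat.shiftRight Q1d (Nat.mul u (nat_lit 5))) (nat_lit 31)
noncomputable def l1 : Lev := ⟨27, 3, D1, Pt1, Q1⟩
noncomputable def T2d : List ℕ := [nat_lit 0x753f2ec379,
  nat_lit 0xa9e7e8f21a]
noncomputable def T2 (k u : ℕ) : ℕ := Nat.land (Nat.shiftRight (nth (nat_lit 0) T2d k) (Nat.mul u (nat_lit 5))) (nat_lit 31)
noncomputable def I2d : List ℕ := [nat_lit 0x9110,
  nat_lit 0x111]
noncomputable def I2 (k u : ℕ) : ℕ := Nat.land (Nat.shiftRight (nth (nat_lit 0) I2d k) (Nat.mul u (nat_lit 2))) (nat_lit 3)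
noncomputable def D2d : ℕ := nat_lit 0xa9652100
noncomputable def D2 (u : ℕ) : ℕ := Nat.land (Nat.shiftRight D2d (Nat.mul u (nat_lit 4))) (nat_lit 15)
noncomputable def RL2 : List (List Rule) := [[.defn, .rel (nat_lit 0) (nat_lit 0) [nat_lit 1], .rel (nat_lit 8) (nat_lit 0) [nat_lit 0, nat_lit 0, nat_lit 0, nat_lit 0, nat_lit 0, nat_lit 0, nat_lit 0]],
  [.rel (nat_lit 2) (nat_lit 0) [nat_lit 0], .defn]]
noncomputable def c2 : TCert := ⟨8, 2, 7, T2, I2, D2, [], RL2⟩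
noncomputable def Pt2d : ℕ := nat_lit 0x7ba168dd6a
noncomputable def Pt2 (u : ℕ) : ℕ := Nat.land (Nat.shiftRight Pt2d (Nat.mul u (nat_lit 5))) (nat_lit 31)
noncomputable def Q2d : ℕ := nat_lit 0x50001df80200000000
noncomputable def Q2 (u : ℕ) : ℕ := Nat.land (Nat.shiftRight Q2d (Nat.mul u (nat_lit 3))) (nat_lit 7)
noncomputable def l2 : Lev := ⟨8, 2, D2, Pt2, Q2⟩
noncomputable def B : List ℕ := [nat_lit 0, nat_lit 1, nat_lit 10]
noncomputable def L : List Lev := [l0, l1, l2]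
noncomputable def Rs : List Root := [⟨(nat_lit 1), [[nat_lit 3, nat_lit 0, nat_lit 2],
  [nat_lit 2, nat_lit 1, nat_lit 3]], [((nat_lit 5), [nat_lit 4]),
  ((nat_lit 3), [nat_lit 0, nat_lit 2, nat_lit 5])]⟩]
noncomputable def Fod : ℕ := nat_lit 0x6cac891251909aa8d73ab03156c52e2152da8e528d2c5d3a0fa629a6b2ccc3b8900400
noncomputable def Fo (u : ℕ) : ℕ := Nat.land (Nat.shiftRight Fod (Nat.mul u (nat_lit 10))) (nat_lit 1023)
noncomputable def nx : List ℕ := [nat_lit 3, nat_lit 1, nat_lit 2, nat_lit 1]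
noncomputable def nL : List (List ℕ × ℕ) := [([], (nat_lit 8)),
  ([nat_lit 2], (nat_lit 8)),
  ([nat_lit 0, nat_lit 3, nat_lit 0], (nat_lit 2)),
  ([nat_lit 0], (nat_lit 2))]

theorem tc0e_a : allZ2 (entryChk T0 (selR RL0 I0) D0 (nat_lit 31) (nat_lit 28) (nat_lit 4)) (nat_lit 4) (nat_lit 28) = true := by decide +kernel
theorem tc0r : rulesChk Rl c0.Sl RL0 (nat_lit 4) = true := by decide +kernel
theorem ivc : ivChk Rl (nat_lit 4) = true := by decide +kernel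
theorem lv0e_0 : allZ (l0.ent P) (nat_lit 0) (nat_lit 27) = true := by decide +kernel
theorem lv0b : Nat.blt (Pt0 (nat_lit 0)) (nat_lit 28) = true ∧ Q0 (Pt0 (nat_lit 0)) = 0 ∧ Pt0 (nat_lit 0) = 0 := by decide +kernel
theorem sb0 : allL (ltAll (nat_lit 3)) c0.Sl = true ∧ fixLetters P (nat_lit 3) (Pt0 (nat_lit 0)) = true := by decide +kernel
theorem tc1e_a : allZ2 (entryChk T1 (selR RL1 I1) D1 (nat_lit 31) (nat_lit 27) (nat_lit 3)) (nat_lit 3) (nat_lit 27) = true := by decide +kernel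
theorem tc1r : rulesChk Rl c1.Sl RL1 (nat_lit 3) = true := by decide +kernel
theorem lv1e_0 : allZ (l1.ent P) (nat_lit 0) (nat_lit 26) = true := by decide +kernel
theorem lv1b : Nat.blt (Pt1 (nat_lit 0)) (nat_lit 28) = true ∧ Q1 (Pt1 (nat_lit 0)) = 0 ∧ Pt1 (nat_lit 0) = 1 := by decide +kernel
theorem sb1 : allL (ltAll (nat_lit 2)) c1.Sl = true ∧ fixLetters P (nat_lit 2) (Pt1 (nat_lit 0)) = true := by decide +kernel
theorem tc2e_a : allZ2 (entryChk T2 (selR RL2 I2) D2 (nat_lit 7) (nat_lit 8) (nat_lit 2)) (nat_lit 2) (nat_lit 8) = true := by decide +kernel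
theorem tc2r : rulesChk Rl c2.Sl RL2 (nat_lit 2) = true := by decide +kernel
theorem lv2e_0 : allZ (l2.ent P) (nat_lit 0) (nat_lit 7) = true := by decide +kernel
theorem lv2b : Nat.blt (Pt2 (nat_lit 0)) (nat_lit 28) = true ∧ Q2 (Pt2 (nat_lit 0)) = 0 ∧ Pt2 (nat_lit 0) = 10 := by decide +kernel
theorem sb2 : allL (ltAll (nat_lit 0)) c2.Sl = true ∧ fixLetters P (nat_lit 0) (Pt2 (nat_lit 0)) = true := by decide +kernel
theorem Blt : ltAll (nat_lit 28) B = 0 := by decide +kernel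
theorem ivk : ivLt Rl (nat_lit 4) = true := by decide +kernel
theorem pe_a : allZ2 (permEnt P (ivOf Rl) (nat_lit 28)) (nat_lit 4) (nat_lit 28) = true := by decide +kernel
theorem rf0 : allL (fixRange P (nat_lit 4) (nat_lit 0) (nat_lit 28)) (Rl.drop (nat_lit 4)) = true := by decide +kernel
theorem Foe_0 : allZ (forEnt P Fo (nat_lit 3) (nat_lit 127) (nat_lit 28) ((nat_lit 0) :: Rs.map Root.r)) (nat_lit 0) (nat_lit 28) = true := by decide +kernel
theorem rtc : allL (Root.chk P (nat_lit 4) B (nat_lit 3) (nat_lit 0)) Rs = true ∧ fixLetters P (nat_lit 3) (nat_lit 0) = true := by decide +kernel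
theorem nc1 : allZ (fun k => force k (nclEnt P Rl (nat_lit 4) B nx nL)) 0 (nat_lit 4) = true := by decide +kernel
theorem nc2 : powL P (nat_lit 4) B nx (nat_lit 7) = 0 := by decide +kernel

theorem tc0e : ∀ k < 4, ∀ i < 28, (entryChk T0 (selR RL0 I0) D0 (nat_lit 31) (nat_lit 28) (nat_lit 4)) k i = 0 := allZ2_sound tc0e_a
theorem tc0 : c0.OK Rl 4 := ⟨by decide, by decide, by decide, ivc, tc0r, tc0e⟩
theorem lv0e : ∀ i < 27, (l0.ent P) i = 0 := allZ_sound0 lv0e_0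
theorem lv0 : l0.OK P 28 := ⟨by decide, by decide, lt_of_blt lv0b.1, lv0b.2.1, lv0e⟩
theorem tc1e : ∀ k < 3, ∀ i < 27, (entryChk T1 (selR RL1 I1) D1 (nat_lit 31) (nat_lit 27) (nat_lit 3)) k i = 0 := allZ2_sound tc1e_a
theorem tc1 : c1.OK Rl 4 := ⟨by decide, by decide, by decide, ivc, tc1r, tc1e⟩
theorem lv1e : ∀ i < 26, (l1.ent P) i = 0 := allZ_sound0 lv1e_0
theorem lv1 : l1.OK P 28 := ⟨by decide, by decide, lt_of_blt lv1b.1, lv1b.2.1, lv1e⟩
theorem tc2e : ∀ k < 2, ∀ i < 8, (entryChk T2 (selR RL2 I2) D2 (nat_lit 7) (nat_lit 8) (nat_lit 2)) k i = 0 := allZ2_sound tc2e_a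
theorem tc2 : c2.OK Rl 4 := ⟨by decide, by decide, by decide, ivc, tc2r, tc2e⟩
theorem lv2e : ∀ i < 7, (l2.ent P) i = 0 := allZ_sound0 lv2e_0
theorem lv2 : l2.OK P 28 := ⟨by decide, by decide, lt_of_blt lv2b.1, lv2b.2.1, lv2e⟩
theorem bound2 : Bound Rl 2 8 := Bound.step' (Bound.zero Rl) tc2 sb2.1 (by decide +kernel)
theorem bound1 : Bound Rl 3 216 := Bound.step' (bound2) tc1 sb1.1 (by decide +kernel)
theorem bound0 : Bound Rl 4 6048 := Bound.step' (bound1) tc0 sb0.1 (by decide +kernel)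
/-- every tuple satisfying `Rl` generates a group of order at most `6048` -/
theorem bound : Bound Rl 4 6048 := bound0
theorem chain_of {G Ω : Type*} [Group G] [MulAction G Ω] {g : ℕ → G} {pt : ℕ → Ω}
    (h : Act g pt P 28 4) (hR : Rels g Rl) : IsChain g pt 28 L :=
  IsChain.cons (L := [l1, l2]) (IsChain.cons (L := [l2]) (IsChain.cons (L := []) (trivial) h hR tc2 lv2 rfl rfl rfl (by decide) sb2.1 sb2.2) h hR tc1 lv1 rfl rfl rfl (by decide) sb1.1 sb1.2) h hR tc0 lv0 rfl rfl rfl (by decide) sb0.1 sb0.2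
theorem base_eq : chainBase L = B := by decide +kernel
theorem pe : ∀ k < 4, ∀ i < 28, (permEnt P (ivOf Rl) (nat_lit 28)) k i = 0 := allZ2_sound pe_a
/-- the letters -/
noncomputable def g : ℕ → Equiv.Perm (Fin 28) := permGen 28 P
theorem act : Act g (ptF 28) P 28 4 := act_permGen pe
theorem rels : Rels g Rl :=
  rels_perm pe ivc ivk (FixUpTo.first rf0)
theorem chain : IsChain g (ptF 28) 28 L := chain_of act rels
theorem card : Nat.card (gen g 4) = 6048 := chain.card' (ptF_inj 28) (by decide +kernel)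
theorem isBase : IsBase (gen g 4) (ptF 28) B := base_eq ▸ chain.isBase (ptF_inj 28)
theorem Foe : ∀ i < 28, (forEnt P Fo (nat_lit 3) (nat_lit 127) (nat_lit 28) ((nat_lit 0) :: Rs.map Root.r)) i = 0 := allZ_sound0 Foe_0
theorem maxCert_of' {G Ω : Type*} [Group G] [MulAction G Ω] {g : ℕ → G} {pt : ℕ → Ω}
    (h : Act g pt P 28 4) (hb : IsBase (gen g 4) pt B) : MaxCert g pt 28 4 3 0 :=
  maxCert_of h Blt hb (by decide) Foe rtc.2 rtc.1
theorem maxCert : MaxCert g (ptF 28) 28 l0.K (topK [l1, l2]) (l0.Pt 0) :=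
  lv0b.2.2 ▸ maxCert_of' act isBase
theorem simple : IsSimpleGroup (gen g 4) :=
  simple_of_cert (l := l0) (L := [l1, l2]) chain (ptF_inj 28) maxCert Blt isBase
    (evA_mem_gen g (powL_eq_one act Blt isBase nc2).1) (powL_eq_one act Blt isBase nc2).2
    (by decide +kernel) (by decide) fun _ hA hx => ncl_sound act Blt isBase rels ivc nc1 le_rfl hA hx

end H0.J.U33
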